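import Mathlib
import Cfsg.Agent.Lib.J4L.Fusion
import Cfsg.Agent.Lib.J4L.PM

/-!
# The duads of `V`
-/

set_option autoImplicit false
set_option maxRecDepth 100000

namespace H75.J4
open Cfsg H15 H96.Geo Subgroup
open H54 (band band_eq_true bimp bimp_eq_true bor bor_eq_true allL allL_iff anyL anyL_iff nth cntLt cntLt_eq tb tb_eq sel sel_eq)
open scoped Pointwise

/-- conjugating vectors for the slices -/
noncomputable def TB (j : ℕ) : ℕ := nth [0, 0x13005011017, 0xe00100b008, 0x100300b00c, 0x4200200100b, 0x1003012006, 0x4015014016, 0x2014003004, 0x9003004008, 0x12014003015, 0x700b00500d, 0x4400400c014, 0x2014003010, 0xf00300a008, 0x900600e003, 0x2041048040] j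
/-- the classes of `1` and of the lifts `ahV j` -/
def Dz : ℕ := 0x8804040220000008008040400221111400402020088000004402020880011114080420002800000020100814001428108040042200800001020810004104281400002000080000eb0000d000070000140000200008028400128801414020001080000402000000e070000b0d00000010800004020002840204128010841000100804000020028401402012880140001008040000200000e0070b0000d000001000400020008000e000b000d00070001000400020008284082101480412000010084400202080000210008101040842148000240208000000012100801048421000000000000284e000000000000d7b1488442422288284e488442422288284f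
/-- the codes of `1` and of the duads -/
def Dm : ℕ := 0x80080404002211110880404022000000400402020088000004402020880011110201008140014281408042000280000008040042200800001020810004104281400002000080000eb0000d000070000140000200008028400128801414020001080000402000000e070000b0d000000108000040200028402041280108410001140201288014000100804000020028400070b0000d000001008040000200000e000400020008000e000b000d00070001000400020008284082101480412000012100081010408421008440020208000048000240208000000012100801048421000000000000284e000000000000d7b1488442422288284e488442422288284f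
/-- the action of the generators of the hexad stabiliser on the hexad group -/
def tau1 : ℕ := 0xd926c837ae51bf40
def tau2 : ℕ := 0x38c729d65ea14fb0
/-- the codes of the 24 points -/
def lamL : List ℕ := [1, 2, 67, 133, 656, 136, 1219, 1189, 1469, 884, 858, 1475, 1450, 674, 195, 771, 707, 142, 1428, 1208, 877, 1182, 689, 0]
/-- a section of the code map -/
def rinvL : List ℕ := [0x475000, 0xc9f000, 0x7d9000, 0xe29000, 0xce8000, 0x9c6000, 0xda1000, 0xd4f000, 0xf6000, 81920, 0xec8000]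

/-- a bit -/
def cbit (c j : ℕ) : ℕ := Nat.land (Nat.shiftRight c j) 1
/-- a hexadecimal digit -/
def tau (T j : ℕ) : ℕ := Nat.land (Nat.shiftRight T (Nat.mul 4 j)) 15
/-- the correction of the `z`-bit -/
def flip (c e : ℕ) : ℕ := Nat.xor e (Nat.mul 64 (cbit c (Nat.div e 128)))
/-- the code of a point -/
noncomputable def lam (i : ℕ) : ℕ := nth lamL i

theorem cbit_le (c j : ℕ) : cbit c j ≤ 1 := Nat.and_le_right
theorem tau_lt (T j : ℕ) : tau T j < 16 := Nat.lt_succ_of_le Nat.and_le_right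

theorem cbit_eq (c j : ℕ) : cbit c j = if c.testBit j then 1 else 0 := by
  have := tb_eq c j
  have h := cbit_le c j
  unfold tb at this
  change Nat.beq (cbit c j) 1 = _ at this
  rw [← this]
  interval_cases cbit c j <;> rfl

theorem flip_spec (c : ℕ) {e : ℕ} (he : e < 2048) : flip c e < 2048 ∧ flip c e / 128 = e / 128 ∧
    flip c e = e ^^^ 64 * cbit c (e / 128) := by
  have h := cbit_le c (e / 128)
  refine ⟨Nat.xor_lt_two_pow (n := 11) he (by change 64 * cbit c (e / 128) < _; omega), ?_, rfl⟩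
  change (e ^^^ 64 * cbit c (e / 128)) / 2 ^ 7 = _
  rw [Nat.xor_div_two_pow, show 64 * cbit c (e / 128) / 2 ^ 7 = 0 by omega, Nat.xor_zero]

theorem flip_flip (c : ℕ) {e : ℕ} (he : e < 2048) : flip c (flip c e) = e := by
  have h := flip_spec c he
  rw [(flip_spec c h.1).2.2, h.2.1, h.2.2, Nat.xor_assoc, Nat.xor_self, Nat.xor_zero]

theorem Dz_chk : H54.allLt (fun e => bimp (tb Dz e) (sel (Nat.blt e 128)
    (bor (Nat.beq e 0) (Nat.beq (supp (mv BU (e % 64))) 4735746))
    (anyLt 16 fun r => H54.force (mv (TB (e / 128)) r) fun t =>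
      band (Nat.beq (Nat.xor t (mv (XA (e / 128)) t)) (mv BU (e % 64)))
        (Nat.beq (cqe (XA (e / 128)) t 0) (e / 64 % 2))))) 2048 = true := by decide +kernel

/-- invariance of the correction under a generator -/
noncomputable def lin (c T : ℕ) : Bool :=
  H54.allLt (fun t => H54.force (Nat.shiftLeft 1 (t / 16)) fun i => H54.force (t % 16) fun j =>
    Nat.beq (Nat.xor (cbit c (Nat.xor i j)) (cbit c (tau T (Nat.xor i j))))
      (Nat.xor (Nat.xor (cbit c i) (cbit c (tau T i))) (Nat.xor (cbit c j) (cbit c (tau T j))))) 64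

/-- the degree of `t` -/
noncomputable def dg (c t : ℕ) : ℕ :=
  cntLt (fun e => band (tb Dz (flip c e)) (tb Dz (flip c (Nat.xor e t)))) 2048

theorem cD_chk : allLt2 256 256 (fun c => bimp (Nat.beq (Nat.land c 279) 0) (bimp (lin c tau1) (bimp (lin c tau2)
    (bor (Nat.beq c 41160) (band (Nat.beq (dg c 1) 46) (band (Nat.beq (dg c 65) 46)
      (H54.allLt (fun j => bor (Nat.beq j 0) (Nat.blt 0 (Nat.xor (dg c (flip c (128 * j))) 46))) 16))))))) = true := by
  decide +kernel

namespace Md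
variable {G : Type*} [Group G] [Finite G] [IsSimpleGroup G] {m : Md G}

/-- of the two lifts of an inner involution exactly one is conjugate to `z` -/
theorem KR.conj_iff {g : G} {p a : ℕ} (h : m.KR g p a) (h0 : out a = 0) (p2 : mm p p = Id12) :
    IsConj m.z (g * m.z) ↔ ¬ IsConj m.z g := by
  by_cases h1 : permOf a = 1
  · obtain rfl := h.eq_Id h1 p2
    rcases h.triv with rfl | rfl
    · simp [- isConj_iff, m.z1, IsConj.refl]
    · simp [- isConj_iff, m.zz, m.z1, IsConj.refl]
  obtain ⟨k, q, b, c, i1, -, hc, i2⟩ := h.conj_x0 m.KR_xh h0 p2 h1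
  have e1 : m.HC g (m.xh * m.z ^ c) := ⟨k, i1.memH, i2⟩
  have e2 := e1.mul_zpow 1
  rw [pow_one] at e2
  obtain ⟨-, f1, f2, -⟩ := m.fusion
  rw [e1.iff, e2.iff]
  interval_cases c
  · simpa [- isConj_iff, f1] using f2
  · simpa [- isConj_iff, mul_assoc, m.zz, f2] using f1

variable (m) in
/-- `g` is the lift of an inner involution that is not conjugate to `z` -/
structure DL (g : G) (p a : ℕ) : Prop where
  kr : m.KR g p a
  o : out a = 0
  p2 : mm p p = Id12
  nc : ¬ IsConj m.z g

theorem KR.DL {g : G} {p a : ℕ} (h : m.KR g p a) (h0 : out a = 0) (p2 : mm p p = Id12) : m.DL (m.dl g) p a :=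
  ⟨h.dl, h0, p2, by
    unfold Md.dl; split_ifs with e
    exacts [fun e' => (h.conj_iff h0 p2).1 e' e, e]⟩

theorem DL.sq {g : G} {p a : ℕ} (h : m.DL g p a) : g * g = 1 := h.kr.sq_eq_one h.o h.p2

theorem DL.conj_z {g : G} {p a : ℕ} (h : m.DL g p a) : IsConj m.z (g * m.z) := (h.kr.conj_iff h.o h.p2).2 h.nc

theorem DL.unique {g g' : G} {p a p' a' : ℕ} (h : m.DL g p a) (h' : m.DL g' p' a') (e : permOf a = permOf a') :
    g = g' := by
  obtain rfl := h.kr.invol_unique h'.kr e h.o h.p2 h'.p2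
  obtain ⟨c, hc, rfl⟩ := h.kr.eq_of_mat h'.kr
  interval_cases c
  · simp
  · exact absurd (by simpa using h.conj_z) h'.nc

theorem DL.conj {g g' k : G} {p a p' a' : ℕ} (h : m.DL g p a) (h' : m.DL g' p' a') (hk : k ∈ m.K)
    (e : m.π k * permOf a = permOf a' * m.π k) : k * g * k⁻¹ = g' := by
  obtain ⟨q, b, i⟩ := m.exists_KR (m.K.mul_mem (m.K.mul_mem hk h.kr.memK) (m.K.inv_mem hk))
  have e' : permOf b = permOf a' := by rw [← i.per, m.π_conj hk.1 h.kr.memH, h.kr.per, e, mul_inv_cancel_right]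
  refine DL.unique ⟨i, (out_congr i.ok h'.kr.ok e').trans h'.o, i.sq_mat (c := 0) ?_, fun c => h.nc ?_⟩ h' e'
  · rw [show k * g * k⁻¹ * (k * g * k⁻¹) = k * (g * g) * k⁻¹ by group, h.sq]; group
  · exact c.trans (isConj_iff.2 ⟨k, rfl⟩ : IsConj g _).symm

theorem DL.conj' {g g' k : G} {p a p' a' q b : ℕ} (h : m.DL g p a) (h' : m.DL g' p' a') (hk : m.KR k q b)
    (e : mulP b a = mulP a' b) : k * g * k⁻¹ = g' :=
  h.conj h' hk.memK (by rw [hk.per, ← permOf_mulP hk.ok h.kr.ok, e, permOf_mulP h'.kr.ok hk.ok])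

variable (m)

open Classical in
/-- the correction bits -/
noncomputable def cm : ℕ := maskF (fun j => decide (IsConj m.z (m.ahV j))) 16

theorem DL_cm {j : ℕ} (hj : j < 16) : m.DL (m.ahV j * m.z ^ cbit m.cm j) (XA j) (PA j) := by
  have := (m.FV.kr j hj).DL (m.FV.out0 hj) (m.FV.X_sq hj)
  convert this using 1
  rw [cbit_eq, cm, testBit_maskF, dl]
  split_ifs with a b b <;> simp_all

theorem el_xor {a b : ℕ} (ha : a < 2048) (hb : b < 2048) : m.FV.el (a ^^^ b) = m.FV.el a * m.FV.el b :=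
  m.FV.ea.add a b ha hb

theorem el_flip (c : ℕ) {e : ℕ} (he : e < 2048) : m.FV.el (flip c e) = m.FV.el e * m.z ^ cbit c (e / 128) := by
  have h := cbit_le c (e / 128)
  rw [(flip_spec c he).2.2, m.el_xor he (by omega)]
  interval_cases cbit c (e / 128)
  · rw [m.FV.ea.zero, pow_zero]
  · rw [m.FV.el_z, pow_one]

theorem ahV_conj {k : G} {p a i j : ℕ} (hk : m.KR k p a) (hi : i < 16) (hj : j < 16)
    (e : mulP a (PA i) = mulP (PA j) a) : k * m.ahV i * k⁻¹ = m.ahV j * m.z ^ (cbit m.cm i ^^^ cbit m.cm j) := by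
  rw [Nat.xor_comm, m.zpow_xor, ← mul_assoc, ← (m.DL_cm hi).conj' (m.DL_cm hj) hk e]
  rw [show ∀ a b : G, k * (a * b) * k⁻¹ = k * a * k⁻¹ * (k * b * k⁻¹) from fun a b => by group,
    m.conj_zpow hk.memH, mul_assoc _ (m.z ^ _), m.zpow_self, mul_one]

theorem lin_cm {k : G} {p a T : ℕ} (hk : m.KR k p a) (h : H54.allLt (fun j => band
    (Nat.beq (mulP a (PA j)) (mulP (PA (tau T j)) a))
    (H54.allLt (fun i => Nat.beq (tau T (Nat.xor i j)) (Nat.xor (tau T i) (tau T j))) 16)) 16 = true) :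
    lin m.cm T = true := by
  simp only [H54.allLt_iff, band_eq_true, Nat.beq_eq, Nat.xor_eq] at h
  have key : ∀ i j, i < 16 → j < 16 → cbit m.cm (i ^^^ j) ^^^ cbit m.cm (tau T (i ^^^ j)) =
      (cbit m.cm i ^^^ cbit m.cm (tau T i)) ^^^ (cbit m.cm j ^^^ cbit m.cm (tau T j)) := fun i j hi hj => by
    have l : ∀ {a b}, a ≤ 1 → b ≤ 1 → a ^^^ b ≤ 1 := fun {a b} ha hb =>
      Nat.lt_succ_iff.1 (Nat.xor_lt_two_pow (n := 1) (by omega) (by omega))
    have hij : i ^^^ j < 16 := Nat.xor_lt_two_pow (n := 4) hi hj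
    have e := m.ahV_conj hk hij (tau_lt T _) (h _ hij).1
    rw [m.FV.mul i j hi hj, show ∀ a b : G, k * (a * b) * k⁻¹ = k * a * k⁻¹ * (k * b * k⁻¹) from fun a b => by group,
      m.ahV_conj hk hi (tau_lt T _) (h _ hi).1, m.ahV_conj hk hj (tau_lt T _) (h _ hj).1, mul_assoc,
      ← mul_assoc (m.z ^ _), ← m.zpow_comm (m.FV.kr _ (tau_lt T j)).memH, mul_assoc, ← mul_assoc,
      ← m.FV.mul _ _ (tau_lt T i) (tau_lt T j), ← (h j hj).2 i hi, ← m.zpow_xor] at e
    exact (m.zpow_inj (l (l (cbit_le _ _) (cbit_le _ _)) (l (cbit_le _ _) (cbit_le _ _)))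
      (l (cbit_le _ _) (cbit_le _ _)) (mul_left_cancel e)).symm
  simp only [lin, H54.allLt_iff, H54.force_eq, Nat.beq_eq, Nat.xor_eq]
  intro t ht
  refine key _ _ ?_ (Nat.mod_lt _ (by norm_num))
  have : t / 16 < 4 := by omega
  interval_cases t / 16 <;> decide

theorem conj_of_Dz {e : ℕ} (he : e < 2048) (h1 : 128 ≤ e) (h : tb Dz e = true) :
    ∃ q ∈ m.Q, m.FV.el (flip m.cm e) = q * m.FV.el (flip m.cm (128 * (e / 128))) * q⁻¹ := by
  have := (H54.allLt_iff _ _).1 Dz_chk e he
  simp only [bimp_eq_true, h, true_imp_iff, sel_eq, Nat.blt_eq, if_neg (Nat.not_lt.2 h1), anyLt_iff,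
    H54.force_eq, band_eq_true, Nat.beq_eq, Nat.xor_eq] at this
  obtain ⟨r, -, i1, i2⟩ := this
  have hj : e / 128 < 16 := by omega
  refine ⟨_, m.s_mem_Q (mv_lt (TB (e / 128)) r), ?_⟩
  have k := (m.FV.kr _ hj).s_conj_sk (m.FV.out0 hj) (mv_lt (TB (e / 128)) r) (w := 0) (by norm_num)
    (cbit m.cm (e / 128))
  rw [m.el_flip _ he, m.el_flip _ (by omega), Fr.el, Fr.el, show 128 * (e / 128) % 64 = 0 by omega,
    show 128 * (e / 128) / 64 % 2 = 0 by omega, show 128 * (e / 128) / 128 = e / 128 by omega, mv_zero, pow_zero,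
    mul_one, mul_assoc (m.s 0), m.zpow_comm (m.FV.kr _ hj).memH, ← mul_assoc (m.s 0), k, Nat.zero_xor, i1, i2,
    mul_assoc, m.zpow_comm (m.FV.kr _ hj).memH, Nat.xor_comm, m.zpow_xor]
  simp only [mul_assoc]

theorem DL_el {j : ℕ} (hj : j < 16) : m.DL (m.FV.el (flip m.cm (128 * j))) (XA j) (PA j) := by
  rw [m.el_flip _ (by omega), Fr.el, show 128 * j % 64 = 0 by omega, show 128 * j / 64 % 2 = 0 by omega,
    show 128 * j / 128 = j by omega, mv_zero, pow_zero, m.s_zero, mul_one, one_mul]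
  exact m.DL_cm hj

theorem cbit_cm_zero : cbit m.cm 0 = 0 := by
  rw [cbit_eq, cm, testBit_maskF, m.FV.ah_zero]; simp [- isConj_iff, m.z1]

theorem Dz_not_conj {e : ℕ} (he : e < 2048) (h : tb Dz e = true) : ¬ IsConj m.z (m.FV.el (flip m.cm e)) := by
  rcases Nat.lt_or_ge e 128 with h1 | h1
  · have := (H54.allLt_iff _ _).1 Dz_chk e he
    simp only [bimp_eq_true, h, true_imp_iff, sel_eq, Nat.blt_eq, if_pos h1, bor_eq_true, Nat.beq_eq] at this
    rw [m.el_flip _ he, Fr.el, show e / 128 = 0 by omega, m.cbit_cm_zero, m.FV.ah_zero, pow_zero, mul_one, mul_one]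
    rcases this with rfl | e1
    · simp [- isConj_iff, mv_zero, m.s_zero, m.z1]
    · rw [← (HC_b (mv_lt _ _) (by rw [e1]; decide +kernel) _).iff]; exact not_conj_b
  · obtain ⟨q, -, e1⟩ := m.conj_of_Dz he h1 h
    exact fun c => (m.DL_el (j := e / 128) (by omega)).nc
      (c.trans (isConj_iff.2 ⟨q, e1.symm⟩ : IsConj _ _).symm)

theorem not_conj_iff {e : ℕ} (he : e < 2048) : ¬ IsConj m.z (m.FV.el e) ↔ tb Dz (flip m.cm e) = true := by
  classical
  refine ⟨fun h => ?_, fun h => by simpa [flip_flip _ he] using m.Dz_not_conj (flip_spec _ he).1 h⟩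
  have c1 := Finset.card_filter_add_card_filter_not (s := Finset.range 2048) fun e => IsConj m.z (m.FV.el e)
  have c2 := m.FV.ea.ncard fun x => IsConj m.z x
  rw [show {x | x ∈ m.FV.ea.sub ∧ IsConj m.z x} = {x | x ∈ m.V ∧ IsConj m.z x} from rfl, m.card_ZV,
    show 2 ^ (7 + 4) = 2048 by norm_num] at c2
  rw [← c2, Finset.card_range] at c1
  have c3 : ((Finset.range 2048).filter fun e => tb Dz e = true).card = 277 := by
    rw [← cntLt_eq]; decide +kernel
  have := Finset.eq_of_subset_of_card_le (s := ((Finset.range 2048).filter fun e => tb Dz e = true).image (flip m.cm))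
    (t := (Finset.range 2048).filter fun e => ¬ IsConj m.z (m.FV.el e)) (fun x hx => by
      obtain ⟨y, hy, rfl⟩ := Finset.mem_image.1 hx
      rw [Finset.mem_filter, Finset.mem_range] at hy ⊢
      exact ⟨(flip_spec _ hy.1).1, m.Dz_not_conj hy.1 hy.2⟩) (by
      rw [Finset.card_image_of_injOn fun a ha b hb e => by
        rw [← flip_flip m.cm (Finset.mem_range.1 (Finset.mem_filter.1 ha).1), e,
          flip_flip m.cm (Finset.mem_range.1 (Finset.mem_filter.1 hb).1)]]
      omega)
  obtain ⟨y, hy, rfl⟩ := Finset.mem_image.1 (this.ge (Finset.mem_filter.2 ⟨Finset.mem_range.2 he, h⟩))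
  rw [Finset.mem_filter, Finset.mem_range] at hy
  rw [flip_flip _ hy.1, hy.2]

/-- the degree in the graph of non-conjugates of `z` -/
noncomputable def deg (x : G) : ℕ := {y | y ∈ m.V ∧ ¬ IsConj m.z y ∧ ¬ IsConj m.z (y * x)}.ncard

theorem deg_conj {g : G} (hg : g ∈ normalizer (m.V : Set G)) (x : G) : m.deg (g * x * g⁻¹) = m.deg x := by
  unfold deg
  rw [← Set.ncard_image_of_injective _ (MulAut.conj g⁻¹).injective]
  congr 1
  have c : ∀ (g y : G), IsConj m.z (g * y * g⁻¹) ↔ IsConj m.z y := fun g y =>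
    ⟨fun h => h.trans (isConj_iff.2 ⟨g, rfl⟩ : IsConj y _).symm, m.isConj_conj g y⟩
  ext y
  constructor
  · rintro ⟨y, ⟨h1, h2, h3⟩, rfl⟩
    refine ⟨(mem_normalizer_iff.1 (inv_mem hg) _).1 h1, by rwa [MulAut.conj_apply, c], ?_⟩
    rwa [← c g, show g * (MulAut.conj g⁻¹ y * x) * g⁻¹ = y * (g * x * g⁻¹) by rw [MulAut.conj_apply]; group]
  · rintro ⟨h1, h2, h3⟩
    refine ⟨g * y * g⁻¹, ⟨(mem_normalizer_iff.1 hg _).1 h1, by rwa [c], ?_⟩, by rw [MulAut.conj_apply]; group⟩
    rwa [show g * y * g⁻¹ * (g * x * g⁻¹) = g * (y * x) * g⁻¹ by group, c]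

theorem deg_el {t : ℕ} (ht : t < 2048) : m.deg (m.FV.el t) = dg m.cm t := by
  classical
  have := m.FV.ea.ncard fun y => ¬ IsConj m.z y ∧ ¬ IsConj m.z (y * m.FV.el t)
  rw [show 2 ^ (7 + 4) = 2048 by norm_num] at this
  rw [dg, cntLt_eq]
  refine this.trans (congrArg _ (Finset.filter_congr fun e he => ?_))
  rw [Finset.mem_range] at he
  rw [band_eq_true, ← m.el_xor he ht, m.not_conj_iff he, m.not_conj_iff (Nat.xor_lt_two_pow (n := 11) he ht)]
  rfl

theorem cm_eq : m.cm = 41160 := by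
  have := allLt2_iff.1 cD_chk m.cm (maskF_lt _ 16)
  simp only [bimp_eq_true, bor_eq_true, band_eq_true, Nat.beq_eq, H54.allLt_iff, Nat.blt_eq] at this
  have g := (by decide +kernel : ∀ e ∈ gN, wchk e.1 e.2.1 e.2.2 = true)
  refine (this ?_ (m.lin_cm (m.KR_of_wchk (g (gN.getD 0 default) (by decide +kernel))) (by decide +kernel))
    (m.lin_cm (m.KR_of_wchk (g (gN.getD 1 default) (by decide +kernel))) (by decide +kernel))).resolve_right ?_
  · refine Nat.eq_of_testBit_eq fun i => ?_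
    rw [Nat.land_eq, Nat.testBit_and, Nat.zero_testBit, cm, testBit_maskF, Bool.and_eq_false_iff,
      Bool.and_eq_false_iff, decide_eq_false_iff_not, decide_eq_false_iff_not]
    by_cases hi : i < 16
    · have a1 := (m.KR_wA1.DL (by decide +kernel) (by decide +kernel)).nc
      have a2 := (m.KR_wA2.DL (by decide +kernel) (by decide +kernel)).nc
      have a4 := (m.KR_wA4.DL (by decide +kernel) (by decide +kernel)).nc
      have a8 := (m.KR_wA8.DL (by decide +kernel) (by decide +kernel)).nc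
      interval_cases i <;> first | exact Or.inr (by decide) | simp [- isConj_iff, ahV, pr4, xh, *, m.z1]
    · exact Or.inl (Or.inl hi)
  rintro ⟨d1, d2, d3⟩
  obtain ⟨g, hg, e⟩ : m.xh * m.z ∈ H54.clsIn (normalizer (m.V : Set G)) m.z := by
    rw [m.orbit_V]
    exact ⟨m.V.mul_mem (m.ahV_one ▸ m.FV.ah_mem (j := 1) (by norm_num)) m.FV.z_mem, m.fusion.2.2.1⟩
  have key : ∀ t, t < 2048 → tb Dz (flip m.cm t) = true → dg m.cm t = 46 → m.π (g * m.FV.el t * g⁻¹) = 1 := by
    intro t ht h1 h2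
    obtain ⟨c, hc, e1⟩ := m.FV.mem_E.1 ((mem_normalizer_iff.1 hg _).1 (m.FV.ea.mem (a := t) ht))
    have h3 : tb Dz (flip m.cm c) = true := (m.not_conj_iff hc).1 fun h => (m.not_conj_iff ht).2 h1
      (h.trans (isConj_iff.2 ⟨g, e1⟩ : IsConj _ _).symm)
    have f := flip_spec m.cm (e := c) hc
    rcases Nat.lt_or_ge c 128 with h4 | h4
    · rw [e1, m.FV.π_el hc, show c / 128 = 0 by omega, ← (m.FV.kr 0 (by norm_num)).per, m.FV.ah_zero, m.π_one]
    obtain ⟨q, hq, e2⟩ := m.conj_of_Dz f.1 (by omega) h3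
    rw [flip_flip _ hc, f.2.1] at e2
    have hj : c / 128 < 16 := m.FV.div_lt hc
    have := (d3 _ hj).resolve_left (by omega)
    rw [← m.deg_el (flip_spec _ (by omega)).1, ← m.deg_conj (m.FV.Q_le_norm hq), ← e2, ← e1, m.deg_conj hg,
      m.deg_el ht, h2] at this
    exact absurd this (by decide)
  have f : ∀ t, t < 128 → flip m.cm t = t := fun t ht => by
    rw [(flip_spec _ (by omega)).2.2, show t / 128 = 0 by omega, m.cbit_cm_zero]; simp
  have k1 := key 1 (by norm_num) (by rw [f 1 (by norm_num)]; decide +kernel) d1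
  have k2 := key 65 (by norm_num) (by rw [f 65 (by norm_num)]; decide +kernel) d2
  have mem : ∀ t, t < 2048 → g * m.FV.el t * g⁻¹ ∈ m.H := fun t ht =>
    m.FV.E_le_H ((mem_normalizer_iff.1 hg _).1 (m.FV.ea.mem (a := t) ht))
  have k3 := m.π_mul' (mem 1 (by norm_num)) (mem 65 (by norm_num))
  rw [k1, k2, show ∀ a b : G, g * a * g⁻¹ * (g * b * g⁻¹) = g * (a * b) * g⁻¹ from fun a b => by group,
    ← m.el_xor (by norm_num) (by norm_num), show 1 ^^^ 65 = 64 by decide, m.FV.el_z, e, m.KR_xh.mul_z.per,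
    one_mul] at k3
  exact absurd (m.FV.Pinj 1 (by norm_num) (PA_one ▸ k3)) (by norm_num)

theorem D_iff {e : ℕ} (he : e < 2048) : ¬ IsConj m.z (m.FV.el e) ↔ tb Dm e = true := by
  have := (H54.allLt_iff _ _).1 (show H54.allLt (fun e => Nat.beq (sel (tb Dz (flip 41160 e)) 1 0)
    (sel (tb Dm e) 1 0)) 2048 = true by decide +kernel) e he
  rw [m.not_conj_iff he, m.cm_eq]
  revert this
  cases tb Dz (flip 41160 e) <;> cases tb Dm e <;> simp

end Md
end H75.J4
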