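import Mathlib
import Cfsg.Agent.Lib.J4L.Code

/-!
# Kernel checks for the identification of the 12-dimensional module of `3.M22.2`
-/

set_option autoImplicit false
set_option maxRecDepth 100000

namespace H31.J4X
open H75.J4
open H54 (force force_eq dig dig_lt allLt allLt_iff band band_eq_true bor bor_eq_true bimp bimp_eq_true
  allL allL_iff anyL anyL_iff)

/-- code of `u ^ i f` -/
def ui (i : ℕ) : ℕ := if i % 11 < 10 then 2 ^ (2 + i % 11) else 4092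

theorem ui_lt (i : ℕ) : ui i < 4096 := by
  have : ∀ j < 11, (if j < 10 then 2 ^ (2 + j) else 4092) < 4096 := by decide
  exact this _ (Nat.mod_lt _ (by norm_num))

theorem dig_Um : dig 12 Um 0 = 1 ∧ dig 12 Um 1 = 2 ∧ ∀ i < 10, dig 12 Um (i + 2) = ui (i + 1) := by
  decide +kernel

theorem dig_Hm : dig 12 Hm 0 = 1 ∧ dig 12 Hm 1 = 2 ∧ ∀ i < 10, dig 12 Hm (i + 2) = ui (3 * i) := by
  decide +kernel

theorem dig_Sm : dig 12 Sm 0 = 1 ∧ dig 12 Sm 1 = 3 ∧ ∀ i < 10, dig 12 Sm (i + 2) = ui (10 * i) := by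
  decide +kernel

theorem dig_Om : dig 12 Om 0 = 2 ∧ dig 12 Om 1 = 3 ∧ ∀ i < 10, dig 12 Om (i + 2) =
    ui (i + 1) ^^^ (ui (i + 3) ^^^ (ui (i + 4) ^^^ (ui (i + 5) ^^^ ui (i + 9)))) := by
  decide +kernel

theorem bl_basis : bl (2 ^ 0) (2 ^ 1) = 1 ∧ (∀ i < 10, bl (2 ^ 0) (2 ^ (i + 2)) = 0) ∧
    (∀ i < 10, bl (2 ^ 1) (2 ^ (i + 2)) = 0) ∧
    ∀ i < 10, ∀ j < 10, i ≠ j → bl (2 ^ (i + 2)) (2 ^ (j + 2)) = 1 := by
  decide +kernel

theorem om_cases {p : ℕ} (hp : p < 4096) (h1 : bl 1 p = 0) (h2 : bl 2 p = 0) (h3 : mv Hm p = p) :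
    p = 0 ∨ p = 4 ∨ p = 2280 ∨ p = 2284 := by
  have := (allLt_iff _ _).1 (show allLt (fun p => bimp (Nat.beq (mv Hm p) p) (bimp (Nat.beq (bl 1 p) 0)
    (bimp (Nat.beq (bl 2 p) 0) (bor (Nat.beq p 0) (bor (Nat.beq p 4) (bor (Nat.beq p 2280)
      (Nat.beq p 2284))))))) 4096 = true by decide +kernel) p hp
  simp only [bimp_eq_true, bor_eq_true, Nat.beq_eq] at this
  exact this h3 h1 h2

theorem qc_eq_bl : ∀ v, v < 4096 → qc v = bl v (mv Om v) := fun v hv =>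
  Nat.eq_of_beq_eq_true ((allLt_iff _ _).1
    (show allLt (fun v => Nat.beq (qc v) (bl v (mv Om v))) 4096 = true by decide +kernel) v hv)

theorem bt_eq_bl : ∀ v, v < 4096 → ∀ w, w < 4096 → bt v w = bl v (mv Om w) := by
  have key : ∀ i < 12, ∀ j < 12, bt (2 ^ i) (2 ^ j) = bl (2 ^ i) (mv Om (2 ^ j)) := by decide +kernel
  refine xor_induction12 (fun w _ => by rw [bt_zero_left, bl_zero_left]) (fun i hi => ?_)
    fun a b ha hb h1 h2 w hw => ?_
  · refine xor_induction12 (by rw [bt_zero_right, mv_zero, bl_zero_right]) (key i hi)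
      fun a b ha hb h1 h2 => ?_
    rw [bt_xor_right _ ha hb, mv_xor _ ha hb, bl_xor_right (two_pow_lt hi) (mv_lt _ _) (mv_lt _ _),
      h1, h2]
  · rw [bt_xor_left, bl_xor_left ha hb (mv_lt _ _), h1 w hw, h2 w hw]

/-- packing of twelve columns -/
def pk (a b c d e f g h i j k l : ℕ) : ℕ :=
  Nat.add a (Nat.mul 4096 (Nat.add b (Nat.mul 4096 (Nat.add c (Nat.mul 4096 (Nat.add d (Nat.mul 4096
  (Nat.add e (Nat.mul 4096 (Nat.add f (Nat.mul 4096 (Nat.add g (Nat.mul 4096 (Nat.add h (Nat.mul 4096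
  (Nat.add i (Nat.mul 4096 (Nat.add j (Nat.mul 4096 (Nat.add k (Nat.mul 4096 l)))))))))))))))))))))

theorem eq_pk {Y : ℕ} (h : Y < 2 ^ 144) : Y = pk (dig 12 Y 0) (dig 12 Y 1) (dig 12 Y 2) (dig 12 Y 3)
    (dig 12 Y 4) (dig 12 Y 5) (dig 12 Y 6) (dig 12 Y 7) (dig 12 Y 8) (dig 12 Y 9) (dig 12 Y 10)
    (dig 12 Y 11) := by
  have s : ∀ n, Y >>> (12 * n) = dig 12 Y n + 4096 * (Y >>> (12 * (n + 1))) := fun n => by
    rw [Nat.mul_succ, Nat.shiftRight_add, Nat.shiftRight_eq_div_pow _ 12]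
    exact (Nat.mod_add_div _ _).symm
  have e : Y >>> (12 * (11 + 1)) = 0 := by
    rw [Nat.shiftRight_eq_div_pow]; exact Nat.div_eq_of_lt h
  have e11 : Y >>> (12 * (10 + 1)) = dig 12 Y 11 := by rw [s (10 + 1), e]; rfl
  calc Y = Y >>> (12 * 0) := rfl
    _ = _ := by rw [s 0, s 1, s 2, s 3, s 4, s 5, s 6, s 7, s 8, s 9, s 10, e11]; rfl

/-- the square of `Hm` -/
def H2 : ℕ := 0x40100400ffc008020080200800004002001
/-- the square of `Om` -/
def Om2 : ℕ := 0x5c4d1c9704b825ced07683b4e248ec001003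
/-- a basis adapted to `Hm` -/
def Bm : ℕ := 0x8e8004002001c4c0c0f18880a8c820964028
/-- the inverse of `Bm` -/
def Bi : ℕ := 0x841c94c5cc17851811845cfa844400200100

/-- the matrix with the given images of `40`, `1` and `4` -/
noncomputable def build (x a b : ℕ) : ℕ :=
  force (mv H2 x) fun x1 => force (mv H2 x1) fun x2 => force (mv H2 x2) fun x3 =>
    mm (pk x (mv Om x) x1 (mv Om x1) x2 (mv Om x2) x3 (mv Om x3) a (mv Om a) b (mv Om b)) Bi

/-- scalar matrices -/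
noncomputable def isSc (p : ℕ) : Bool :=
  force p fun p => bor (Nat.beq p Id12) (bor (Nat.beq p Om) (Nat.beq p Om2))

/-- the final test -/
noncomputable def kchk (K : ℕ) : Bool :=
  force K fun K => force (mm K K) fun K2 => bimp (Nat.beq (mm K2 K2) Id12)
    (force (mm Um K2) fun A => bimp (isSc (mm A (mm A A)))
      (force (mm Um K) fun B => force (mm B (mm B B)) fun B3 => bimp (isSc (mm B (mm B3 B3)))
        (band (bor (Nat.beq (mv K 4) 1) (bor (Nat.beq (mv K 4) 2) (Nat.beq (mv K 4) 3)))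
          (bimp (Nat.beq (mv K 4) 1) (Nat.beq K Km)))))

/-- the fixed vectors of `Hm` -/
def CH : List ℕ := [0, 1, 2, 3, 4, 5, 6, 7, 2280, 2281, 2282, 2283, 2284, 2285, 2286, 2287]

/-- the candidates for the image of `40` -/
def LX : List ℕ := [89, 90, 91, 93, 94, 95, 297, 298, 299, 301, 302, 303, 401, 402, 403, 405, 406, 407, 504, 509, 510, 511, 713, 714, 715, 716, 793, 794, 795, 796, 817, 818, 819, 820, 833, 834, 835, 837, 838, 839, 897, 898, 899, 901, 902, 903, 1073, 1074, 1075, 1077, 1078, 1079, 1217, 1218, 1219, 1221, 1222, 1223, 1272, 1277, 1278, 1279, 1305, 1306, 1307, 1308, 1361, 1362, 1363, 1364, 1913, 1914, 1915, 1917, 1918, 1919, 2225, 2226, 2227, 2228, 2321, 2322, 2323, 2325, 2326, 2327, 2424, 2429, 2430, 2431, 2497, 2498, 2499, 2500, 2593, 2594, 2595, 2597, 2598, 2599, 2920, 2925, 2926, 2927, 2984, 2989, 2990, 2991, 3033, 3034, 3035, 3037, 3038, 3039, 3057, 3058, 3059, 3061, 3062,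 3063, 3089, 3090, 3091, 3093, 3094, 3095, 3113, 3114, 3115, 3116, 3288, 3293, 3294, 3295, 3513, 3514, 3515, 3517, 3518, 3519, 3569, 3570, 3571, 3573, 3574, 3575, 3984, 3989, 3990, 3991]

theorem mem_CH {y : ℕ} (hy : y < 4096) (h : mv H2 y = y) : y ∈ CH := by
  have := (allLt_iff _ _).1 (show allLt (fun y => bimp (Nat.beq (mv H2 y) y)
    (anyL (fun c => Nat.beq c y) CH)) 4096 = true by decide +kernel) y hy
  simp only [bimp_eq_true, anyL_iff, Nat.beq_eq] at this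
  obtain ⟨c, hc, rfl⟩ := this h
  exact hc

theorem mem_LX {x : ℕ} (hx : x < 4096) (h0 : qc x = qc 40) (h1 : bl x (mv H2 x) = bl 40 (mv Hm 40))
    (h2 : bl x (mv Om (mv H2 x)) = bl 40 (mv Om (mv Hm 40)))
    (h3 : bl x (mv H2 (mv H2 x)) = bl 40 (mv Hm (mv Hm 40)))
    (h4 : bl x (mv Om (mv H2 (mv H2 x))) = bl 40 (mv Om (mv Hm (mv Hm 40)))) : x ∈ LX := by
  have := (allLt_iff _ _).1 (show allLt (fun x => bimp (Nat.beq (qc x) (qc 40))
    (force (mv H2 x) fun x1 => bimp (Nat.beq (bl x x1) (bl 40 (mv Hm 40)))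
    (bimp (Nat.beq (bl x (mv Om x1)) (bl 40 (mv Om (mv Hm 40))))
    (force (mv H2 x1) fun x2 => bimp (Nat.beq (bl x x2) (bl 40 (mv Hm (mv Hm 40))))
    (bimp (Nat.beq (bl x (mv Om x2)) (bl 40 (mv Om (mv Hm (mv Hm 40)))))
    (anyL (fun c => Nat.beq c x) LX)))))) 4096 = true by decide +kernel) x hx
  simp only [force_eq, bimp_eq_true, anyL_iff, Nat.beq_eq] at this
  obtain ⟨c, hc, rfl⟩ := this h0 h1 h2 h3 h4
  exact hc

theorem k_check : allL (fun a => allL (fun b => bimp (Nat.beq (qc a) (qc 1)) (bimp (Nat.beq (qc b) (qc 4))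
    (bimp (Nat.beq (bl a b) (bl 1 4)) (bimp (Nat.beq (bl a (mv Om b)) (bl 1 (mv Om 4)))
      (allL (fun x => kchk (build x a b)) LX))))) CH) CH = true := by
  decide +kernel

theorem mv_H2 {v : ℕ} (hv : v < 4096) : mv H2 v = mv Hm (mv Hm v) := by
  rw [← mv_mm _ _ _ hv, show mm Hm Hm = H2 by decide +kernel]

theorem k_sol {X : ℕ} (hX : X < 2 ^ 144) (ho : ∀ v, v < 4096 → mv X (mv Om v) = mv Om (mv X v))
    (hh : ∀ v, v < 4096 → mv X (mv Hm v) = mv Hm (mv Hm (mv X v)))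
    (hq : ∀ v, v < 4096 → qc (mv X v) = qc v) (h4 : mm (mm X X) (mm X X) = Id12)
    (r1 : isSc (mm (mm Um (mm X X)) (mm (mm Um (mm X X)) (mm Um (mm X X)))) = true)
    (r2 : isSc (mm (mm Um X) (mm (mm (mm Um X) (mm (mm Um X) (mm Um X)))
      (mm (mm Um X) (mm (mm Um X) (mm Um X))))) = true) :
    (mv X 4 = 1 ∨ mv X 4 = 2 ∨ mv X 4 = 3) ∧ (mv X 4 = 1 → X = Km) := by
  have hb : ∀ v w, v < 4096 → w < 4096 → bl (mv X v) (mv X w) = bl v w := fun v w hv hw => by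
    rw [bl_def, bl_def, ← mv_xor _ hv hw, hq _ hv, hq _ hw, hq _ (xor_lt hv hw)]
  have hh' : ∀ v, v < 4096 → mv X (mv Hm v) = mv H2 (mv X v) := fun v hv => by
    rw [hh v hv, mv_H2 (mv_lt _ _)]
  have n40 : (40 : ℕ) < 4096 := by norm_num
  have n1 : (1 : ℕ) < 4096 := by norm_num
  have n4 : (4 : ℕ) < 4096 := by norm_num
  have m1 : mv X 1 ∈ CH := mem_CH (mv_lt _ _) (by
    rw [← hh' _ n1, show mv Hm 1 = 1 by decide +kernel])
  have m4 : mv X 4 ∈ CH := mem_CH (mv_lt _ _) (by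
    rw [← hh' _ n4, show mv Hm 4 = 4 by decide +kernel])
  have mx : mv X 40 ∈ LX := mem_LX (mv_lt _ _) (hq _ n40)
    (by rw [← hh' _ n40, hb _ _ n40 (mv_lt _ _)])
    (by rw [← hh' _ n40, ← ho _ (mv_lt _ _), hb _ _ n40 (mv_lt _ _)])
    (by rw [← hh' _ n40, ← hh' _ (mv_lt _ _), hb _ _ n40 (mv_lt _ _)])
    (by rw [← hh' _ n40, ← hh' _ (mv_lt _ _), ← ho _ (mv_lt _ _), hb _ _ n40 (mv_lt _ _)])
  have eX : build (mv X 40) (mv X 1) (mv X 4) = X := by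
    have d : dig 12 Bm 0 = 40 ∧ dig 12 Bm 1 = mv Om 40 ∧ dig 12 Bm 2 = mv Hm 40 ∧
        dig 12 Bm 3 = mv Om (mv Hm 40) ∧ dig 12 Bm 4 = mv Hm (mv Hm 40) ∧
        dig 12 Bm 5 = mv Om (mv Hm (mv Hm 40)) ∧ dig 12 Bm 6 = mv Hm (mv Hm (mv Hm 40)) ∧
        dig 12 Bm 7 = mv Om (mv Hm (mv Hm (mv Hm 40))) ∧ dig 12 Bm 8 = 1 ∧ dig 12 Bm 9 = mv Om 1 ∧
        dig 12 Bm 10 = 4 ∧ dig 12 Bm 11 = mv Om 4 := by decide +kernel
    obtain ⟨d0, d1, d2, d3, d4, d5, d6, d7, d8, d9, d10, d11⟩ := d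
    have e := eq_pk (mm_lt X Bm)
    rw [dig_mm _ _ (j := 0) (by norm_num), dig_mm _ _ (j := 1) (by norm_num),
      dig_mm _ _ (j := 2) (by norm_num), dig_mm _ _ (j := 3) (by norm_num),
      dig_mm _ _ (j := 4) (by norm_num), dig_mm _ _ (j := 5) (by norm_num),
      dig_mm _ _ (j := 6) (by norm_num), dig_mm _ _ (j := 7) (by norm_num),
      dig_mm _ _ (j := 8) (by norm_num), dig_mm _ _ (j := 9) (by norm_num),
      dig_mm _ _ (j := 10) (by norm_num), dig_mm _ _ (j := 11) (by norm_num),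
      d0, d1, d2, d3, d4, d5, d6, d7, d8, d9, d10, d11, ho _ n40, ho _ n1, ho _ n4,
      ho _ (mv_lt _ _), ho _ (mv_lt _ _), ho _ (mv_lt _ _), hh' _ (mv_lt Hm (mv Hm 40)),
      hh' _ (mv_lt Hm 40), hh' _ n40] at e
    simp only [build, force_eq]
    rw [← e, mm_assoc, show mm Bm Bi = Id12 by decide +kernel, mm_Id hX]
  have key := k_check
  simp only [allL_iff, bimp_eq_true, Nat.beq_eq] at key
  have k2 := key _ m1 _ m4 (hq _ n1) (hq _ n4) (hb _ _ n1 n4)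
    (by rw [← ho _ n4, hb _ _ n1 (mv_lt _ _)]) _ mx
  rw [eX] at k2
  unfold kchk at k2
  rw [force_eq, force_eq] at k2
  have a := (bimp_eq_true _ _).1 k2 (Nat.beq_eq ▸ h4)
  rw [force_eq] at a
  have b := (bimp_eq_true _ _).1 a r1
  rw [force_eq, force_eq] at b
  have c := (bimp_eq_true _ _).1 b r2
  simpa only [bimp_eq_true, band_eq_true, bor_eq_true, Nat.beq_eq] using c

theorem eqns_ExChk : True := by
  have := @ui.eq_def
  have := @ui.eq_1
  have := @H2.eq_def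
  have := @H2.eq_1
  have := @Om2.eq_def
  have := @Om2.eq_1
  have := @Bm.eq_def
  have := @Bm.eq_1
  have := @Bi.eq_def
  have := @Bi.eq_1
  have := @build.eq_def
  have := @build.eq_1
  have := @isSc.eq_def
  have := @isSc.eq_1
  have := @kchk.eq_def
  have := @kchk.eq_1
  have := @CH.eq_def
  have := @CH.eq_1
  have := @LX.eq_def
  have := @LX.eq_1
  trivial

end H31.J4X
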