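import Mathlib
import Cfsg.Agent.Lib.J4L.ExChk
import Cfsg.Agent.Lib.LargeExtra.Quad

/-!
# Identification of the 12-dimensional binary module of `3.M22.2`
-/

set_option autoImplicit false
set_option maxRecDepth 100000

namespace H31.J4X
open H75.J4 QuadraticMap
open H54 (dig dig_lt bor_eq_true force_eq)
open H15.Mdl (dec dec_xor dec_two_pow dec_zero)
open H95 (vec2_add_self vec2_neg zmod2_add_self zmod2_cases)

theorem cast_xor (a b : ℕ) : ((a ^^^ b : ℕ) : ZMod 2) = (a : ZMod 2) + b := by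
  rw [← Nat.cast_add, ZMod.natCast_eq_natCast_iff', Nat.xor_mod_two_eq]

theorem cast_inj {a b : ℕ} (ha : a ≤ 1) (hb : b ≤ 1) (h : (a : ZMod 2) = b) : a = b := by
  interval_cases a <;> interval_cases b <;> first | rfl | (exfalso; revert h; decide)

variable {V : Type*} [AddCommGroup V] [Module (ZMod 2) V]

theorem ncard_modEq [Finite V] {A : Set V} {φ : V ≃ₗ[ZMod 2] V} {p : ℕ} (hp : p.Prime)
    (h : φ ^ p = 1) (hA : ∀ v ∈ A, φ v ∈ A) :
    A.ncard ≡ {v | v ∈ A ∧ φ v = v}.ncard [MOD p] := by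
  classical
  have := Fact.mk hp
  have := Fintype.ofFinite A
  let f : Function.End A := fun v => ⟨φ v, hA v v.2⟩
  have hf : ∀ (n : ℕ) (v : A), ((f ^ n) v : V) = (φ ^ n) v := fun n => by
    induction n with
    | zero => intro v; rfl
    | succ n ih => intro v; rw [pow_succ, pow_succ]; exact ih (f v)
  have := Equiv.Perm.card_fixedPoints_modEq (f := f) (p := p) (n := 1) (by
    funext v
    exact Subtype.ext (by rw [pow_one, hf, h]; rfl))
  rw [← Nat.card_eq_fintype_card, ← Nat.card_eq_fintype_card, Nat.card_coe_set_eq,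
    Nat.card_coe_set_eq] at this
  convert this using 1
  symm
  refine Set.ncard_congr (fun v _ => (v : V)) ?_ ?_ ?_
  · intro v hv; exact ⟨v.2, congrArg Subtype.val hv⟩
  · intro a b _ _ e; exact Subtype.ext e
  · rintro v ⟨a, b⟩; exact ⟨⟨v, a⟩, Subtype.ext b, rfl⟩

omit [Module (ZMod 2) V] in
theorem ncard_pow (hV : Nat.card V = 4096) (A : AddSubgroup V) :
    ∃ a ≤ 12, (A : Set V).ncard = 2 ^ a := by
  have := AddSubgroup.card_addSubgroup_dvd_card A
  rw [hV, show 4096 = 2 ^ 12 from rfl, Nat.dvd_prime_pow Nat.prime_two] at this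
  exact this

theorem polar_map {q : QuadraticForm (ZMod 2) V} {φ : V ≃ₗ[ZMod 2] V} (h : ∀ v, q (φ v) = q v)
    (v w : V) : polar q (φ v) (φ w) = polar q v w := by
  rw [polar, polar, ← map_add, h, h, h]

theorem q_pow {q : QuadraticForm (ZMod 2) V} {φ : V ≃ₗ[ZMod 2] V} (h : ∀ v, q (φ v) = q v) (n : ℕ)
    (v : V) : q ((φ ^ n) v) = q v := by
  induction n with
  | zero => rfl
  | succ n ih => rw [pow_succ', LinearEquiv.mul_apply, h, ih]

theorem polar_self' (q : QuadraticForm (ZMod 2) V) (v : V) : polar q v v = 0 := by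
  rw [polar_self, two_smul, zmod2_add_self]

theorem pow_fix {φ : V ≃ₗ[ZMod 2] V} {v : V} (h : φ v = v) (n : ℕ) : (φ ^ n) v = v := by
  induction n with
  | zero => rfl
  | succ n ih => rw [pow_succ', LinearEquiv.mul_apply, ih, h]

theorem app {φ ψ φ' ψ' : V ≃ₗ[ZMod 2] V} (h : φ * ψ = φ' * ψ') (v : V) : φ (ψ v) = φ' (ψ' v) := by
  rw [← LinearEquiv.mul_apply, h, LinearEquiv.mul_apply]

theorem pow_app (φ : V ≃ₗ[ZMod 2] V) (m n : ℕ) (v : V) : (φ ^ m) ((φ ^ n) v) = (φ ^ (m + n)) v := by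
  rw [pow_add, LinearEquiv.mul_apply]

theorem semiconj_pow {G : Type*} [Group G] {a b : G} {m : ℕ} (h : a * b = b ^ m * a) (n : ℕ) :
    a * b ^ n = b ^ (m * n) * a := by
  rw [pow_mul]; exact (SemiconjBy.pow_right h n).eq

/-- the norm map of `u` -/
def Nm (u : V ≃ₗ[ZMod 2] V) (v : V) : V := ∑ i ∈ Finset.range 11, (u ^ i) v

/-- the basis -/
def bs (o u : V ≃ₗ[ZMod 2] V) (e f : V) (i : ℕ) : V :=
  if i = 0 then e else if i = 1 then o e else (u ^ (i - 2)) f

/-- the coordinates -/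
def D (o u : V ≃ₗ[ZMod 2] V) (e f : V) (n : ℕ) : V := dec (bs o u e f) 12 n

/-- `X` is the matrix of `φ` -/
def Rep (D : ℕ → V) (φ : V ≃ₗ[ZMod 2] V) (X : ℕ) : Prop := ∀ v, v < 4096 → φ (D v) = D (mv X v)

theorem Rep.mul {D : ℕ → V} {φ ψ : V ≃ₗ[ZMod 2] V} {X Y : ℕ} (a : Rep D φ X) (b : Rep D ψ Y) :
    Rep D (φ * ψ) (mm X Y) := fun v hv => by
  rw [LinearEquiv.mul_apply, b v hv, a _ (mv_lt _ _), mv_mm _ _ _ hv]

theorem Rep.one (D : ℕ → V) : Rep D 1 Id12 := fun v hv => by rw [mv_Id v hv]; rfl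

section
variable (o u : V ≃ₗ[ZMod 2] V) (e f : V)

theorem D_zero : D o u e f 0 = 0 := dec_zero _ _

theorem D_xor (v w : ℕ) : D o u e f (v ^^^ w) = D o u e f v + D o u e f w :=
  dec_xor (fun _ _ => vec2_add_self _) v w

theorem D_two_pow {j : ℕ} (hj : j < 12) : D o u e f (2 ^ j) = bs o u e f j := dec_two_pow _ hj

theorem D_one : D o u e f 1 = e := D_two_pow o u e f (j := 0) (by norm_num)
theorem D_two : D o u e f 2 = o e := D_two_pow o u e f (j := 1) (by norm_num)
theorem D_three : D o u e f 3 = e + o e := by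
  rw [show 3 = 1 ^^^ 2 from rfl, D_xor, D_one, D_two]
theorem D_four : D o u e f 4 = f := D_two_pow o u e f (j := 2) (by norm_num)

theorem bs_add (i : ℕ) : bs o u e f (i + 2) = (u ^ i) f := rfl

variable {o u e f}

theorem rep_of_basis {φ : V ≃ₗ[ZMod 2] V} {X : ℕ} (h0 : φ e = D o u e f (dig 12 X 0))
    (h1 : φ (o e) = D o u e f (dig 12 X 1))
    (h2 : ∀ i < 10, φ ((u ^ i) f) = D o u e f (dig 12 X (i + 2))) : Rep (D o u e f) φ X := by
  refine xor_induction12 (by rw [mv_zero, D_zero, map_zero]) (fun j hj => ?_)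
    fun a b ha hb i1 i2 => ?_
  · rw [D_two_pow _ _ _ _ hj, mv_two_pow _ hj]
    rcases j with _ | _ | j
    · exact h0
    · exact h1
    · exact h2 j (by omega)
  · rw [D_xor, map_add, i1, i2, mv_xor _ ha hb, D_xor]

theorem D_ui (hu : u ^ 11 = 1) (hf : Nm u f = 0) (i : ℕ) : D o u e f (ui i) = (u ^ i) f := by
  rw [pow_eq_pow_mod i hu, ui]
  have hi : i % 11 < 11 := Nat.mod_lt _ (by norm_num)
  generalize i % 11 = j at hi
  split_ifs with c
  · rw [D_two_pow _ _ _ _ (by omega), add_comm, bs_add]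
  · obtain rfl : j = 10 := by omega
    rw [Nm, Finset.sum_range_succ, add_eq_zero_iff_eq_neg, vec2_neg] at hf
    rw [← hf, show 4092 = 2 ^ (0 + 2) ^^^ 2 ^ (1 + 2) ^^^ 2 ^ (2 + 2) ^^^ 2 ^ (3 + 2) ^^^ 2 ^ (4 + 2) ^^^
      2 ^ (5 + 2) ^^^ 2 ^ (6 + 2) ^^^ 2 ^ (7 + 2) ^^^ 2 ^ (8 + 2) ^^^ 2 ^ (9 + 2) by decide]
    simp only [D_xor, Finset.sum_range_succ, Finset.sum_range_zero, zero_add]
    repeat rw [D_two_pow _ _ _ _ (by norm_num)]
    rfl

end

/-- the hypotheses on the module -/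
structure LD (q : QuadraticForm (ZMod 2) V) (o u h k s : V ≃ₗ[ZMod 2] V) : Prop where
  card : Nat.card V = 4096
  nd : ∀ v, (∀ w, polar q v w = 0) → v = 0
  qo : ∀ v, q (o v) = q v
  qu : ∀ v, q (u v) = q v
  qh : ∀ v, q (h v) = q v
  qk : ∀ v, q (k v) = q v
  oo : ∀ v, o (o v) = v + o v
  u11 : u ^ 11 = 1
  u1 : u ≠ 1
  h5 : h ^ 5 = 1
  k4 : k ^ 4 = 1
  uo : u * o = o * u
  ho : h * o = o * h
  ko : k * o = o * k
  hu : h * u = u ^ 3 * h
  kh : k * h = h ^ 2 * k
  r1 : ∃ i : ℕ, (u * k ^ 2) ^ 3 = o ^ i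
  r2 : ∃ i : ℕ, (u * k) ^ 7 = o ^ i
  so : s * o = o * s ∨ s * o = o ^ 2 * s
  su : s * u = u ^ 10 * s
  sk : s * k = k * s

namespace LD
variable {q : QuadraticForm (ZMod 2) V} {o u h k s : V ≃ₗ[ZMod 2] V} (L : LD q o u h k s)
include L

theorem finite : Finite V := Nat.finite_of_card_ne_zero (by rw [L.card]; norm_num)

theorem o3 : o ^ 3 = 1 := LinearEquiv.ext fun v => by
  show o (o (o v)) = v
  rw [L.oo, L.oo, add_comm v, ← add_assoc, vec2_add_self, zero_add]

theorem o_fix {v : V} (hv : o v = v) : v = 0 := by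
  have := L.oo v
  rwa [hv, hv, vec2_add_self] at this

theorem q_eq (v : V) : q v = polar q v (o v) := by
  rw [polar, ← L.oo, L.qo, L.qo, sub_self, zero_sub, neg_eq_of_add_eq_zero_left (zmod2_add_self _)]

theorem swap : LD q (o * o) u h k s where
  card := L.card
  nd := L.nd
  qo v := by rw [LinearEquiv.mul_apply, L.qo, L.qo]
  qu := L.qu
  qh := L.qh
  qk := L.qk
  oo v := by
    simp only [LinearEquiv.mul_apply]
    have := app (φ := o) (ψ := o ^ 3) (φ' := o) (ψ' := 1) (by rw [L.o3]) v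
    rw [show o (o (o (o v))) = o v from this, L.oo v, ← add_assoc, vec2_add_self, zero_add]
  u11 := L.u11
  u1 := L.u1
  h5 := L.h5
  k4 := L.k4
  uo := (Commute.mul_right L.uo L.uo).eq
  ho := (Commute.mul_right L.ho L.ho).eq
  ko := (Commute.mul_right L.ko L.ko).eq
  hu := L.hu
  kh := L.kh
  r1 := by
    obtain ⟨i, hi⟩ := L.r1
    exact ⟨2 * i, by rw [hi, ← pow_two, ← pow_mul, show 2 * (2 * i) = 3 * i + i by ring, pow_add,
      pow_mul, L.o3, one_pow, one_mul]⟩
  r2 := by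
    obtain ⟨i, hi⟩ := L.r2
    exact ⟨2 * i, by rw [hi, ← pow_two, ← pow_mul, show 2 * (2 * i) = 3 * i + i by ring, pow_add,
      pow_mul, L.o3, one_pow, one_mul]⟩
  so := L.so.imp (fun c => (Commute.mul_right c c).eq) fun c => by
    rw [← pow_two, semiconj_pow c, pow_mul]
  su := L.su
  sk := L.sk

theorem u_fix {v : V} {m : ℕ} (hm : m = 3 ∨ m = 10) (hv : (u ^ m) v = v) : u v = v := by
  rcases hm with rfl | rfl
  · have := pow_fix hv 4
    rwa [← pow_mul, pow_eq_pow_mod _ L.u11, show 3 * 4 % 11 = 1 from rfl, pow_one] at this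
  · have := pow_fix hv 10
    rwa [← pow_mul, pow_eq_pow_mod _ L.u11, show 10 * 10 % 11 = 1 from rfl, pow_one] at this

theorem ncard_C : {v | u v = v}.ncard = 4 := by
  have := L.finite
  have h1 := ncard_modEq (A := Set.univ) (by norm_num : Nat.Prime 11) L.u11 fun _ _ => trivial
  simp only [Set.mem_univ, true_and, Set.ncard_univ, L.card] at h1
  obtain ⟨a, ha, h2⟩ := ncard_pow L.card (LinearMap.eqLocus (u : V →ₗ[ZMod 2] V) LinearMap.id).toAddSubgroup
  have h3 : {v | u v = v}.ncard = 2 ^ a := h2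
  have h4 : a ≠ 12 := by
    rintro rfl
    have := Set.eq_of_subset_of_ncard_le (Set.subset_univ {v | u v = v})
      (by rw [h3, Set.ncard_univ, L.card]; rfl)
    exact L.u1 (LinearEquiv.ext fun v => (this ▸ Set.mem_univ v : v ∈ {v | u v = v}))
  rw [h3] at h1 ⊢
  interval_cases a <;> first | rfl | exact absurd h1 (by decide) | exact absurd rfl h4

theorem exists_e : ∃ e, e ≠ 0 ∧ u e = e := by
  obtain ⟨e, he, h0⟩ := Set.exists_ne_of_one_lt_ncard (s := {v | u v = v}) (by rw [L.ncard_C]; norm_num) 0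
  exact ⟨e, h0, he⟩

theorem mem_C {e c : V} (e0 : e ≠ 0) (he : u e = e) (hc : u c = c) :
    c = 0 ∨ c = e ∨ c = o e ∨ c = e + o e := by
  have := L.finite
  have h1 : u (o e) = o e := by rw [app L.uo, he]
  have n1 : o e ≠ 0 := fun c => e0 (o.map_eq_zero_iff.1 c)
  have n2 : o e ≠ e := fun c => e0 (L.o_fix c)
  have n3 : e + o e ≠ 0 := fun c => n1 (o.map_eq_zero_iff.1 (by rwa [L.oo]))
  have : ({0, e, o e, e + o e} : Set V) = {v | u v = v} := by
    refine Set.eq_of_subset_of_ncard_le ?_ ?_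
    · rintro v (rfl | rfl | rfl | rfl)
      · exact map_zero u
      · exact he
      · exact h1
      · show u _ = _
        rw [map_add, he, h1]
    · rw [L.ncard_C, Set.ncard_insert_of_notMem (by simp [e0.symm, n1.symm, n3.symm]),
        Set.ncard_insert_of_notMem (by simp [n2.symm, n1]), Set.ncard_pair (by simp [e0])]
  exact (this ▸ hc : c ∈ ({0, e, o e, e + o e} : Set V))

theorem h_fix {c : V} (hc : u c = c) : h c = c := by
  have := L.finite
  have h1 := ncard_modEq (A := {v | u v = v}) (by norm_num : Nat.Prime 5) L.h5 fun v hv =>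
    L.u_fix (Or.inl rfl) (by rw [← app L.hu, show u v = v from hv])
  have h2 : {v | v ∈ {v | u v = v} ∧ h v = v} ⊆ {v | u v = v} := fun _ a => a.1
  have h3 := Set.ncard_le_ncard h2
  rw [L.ncard_C] at h1 h3
  have h4 := Set.eq_of_subset_of_ncard_le h2 (by rw [L.ncard_C]; unfold Nat.ModEq at h1; omega)
  exact (h4.ge hc).2

omit L in
theorem Nm_add (v w : V) : Nm u (v + w) = Nm u v + Nm u w := by
  simp only [Nm, map_add, Finset.sum_add_distrib]

omit L in
theorem Nm_comm {φ : V ≃ₗ[ZMod 2] V} (c : u * φ = φ * u) (v : V) : Nm u (φ v) = φ (Nm u v) := by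
  rw [Nm, Nm, map_sum]
  exact Finset.sum_congr rfl fun i _ => app (Commute.pow_left c i).eq v

omit L in
theorem Nm_fix {v : V} (hv : u v = v) : Nm u v = v := by
  simp only [Nm, pow_fix hv, Finset.sum_const, Finset.card_range]
  rw [show 11 = 2 * 5 + 1 from rfl, add_smul, mul_smul, two_smul, vec2_add_self, zero_add, one_smul]

theorem Nm_u (v : V) : Nm u (u v) = Nm u v := by
  rw [Nm, Nm, Finset.sum_range_succ, Finset.sum_range_succ' _ 10]
  congr 1
  rw [← LinearEquiv.mul_apply, ← pow_succ, L.u11, pow_zero]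

theorem Nm_h (v : V) : Nm u (h v) = h (Nm u v) := by
  rw [Nm, Nm, map_sum]
  simp only [fun i => app (semiconj_pow L.hu i) v, fun i => pow_eq_pow_mod (3 * i) L.u11,
    Finset.sum_range_succ, Finset.sum_range_zero]
  norm_num only
  abel

theorem exists_f : ∃ f, f ≠ 0 ∧ Nm u f = 0 ∧ h f = f := by
  have := L.finite
  let K : AddSubgroup V :=
    { carrier := {v | Nm u v = 0}
      zero_mem' := Nm_fix (map_zero u)
      add_mem' := fun {a b} ha hb => by
        show Nm u (a + b) = 0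
        rw [Nm_add, ha, hb, add_zero]
      neg_mem' := fun {a} ha => by rwa [vec2_neg] }
  obtain ⟨a, ha, h2⟩ := ncard_pow L.card K
  have h1 := ncard_modEq (A := K) (by norm_num : Nat.Prime 11) L.u11 fun v hv => by
    show Nm u (u v) = 0
    rw [L.Nm_u]; exact hv
  have h3 : {v | v ∈ (K : Set V) ∧ u v = v} = {0} := by
    ext v
    constructor
    · rintro ⟨a, b⟩; exact (Nm_fix b).symm.trans a
    · rintro rfl; exact ⟨K.zero_mem, map_zero u⟩
  have h4 : a ≠ 0 := by
    rintro rfl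
    refine L.u1 (LinearEquiv.ext fun v => ?_)
    have m : u v + v ∈ (K : Set V) := by
      show Nm u _ = 0
      rw [Nm_add, L.Nm_u, vec2_add_self]
    obtain ⟨x, hx⟩ := Set.ncard_eq_one.1 h2
    have m0 : (0 : V) ∈ (K : Set V) := K.zero_mem
    rw [hx] at m m0
    have : u v + v = 0 := m.trans (Eq.symm m0)
    rwa [add_eq_zero_iff_eq_neg, vec2_neg] at this
  have h5 := ncard_modEq (A := K) (by norm_num : Nat.Prime 5) L.h5 fun v hv => by
    show Nm u (h v) = 0
    rw [L.Nm_h, show Nm u v = 0 from hv, map_zero]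
  rw [h3, Set.ncard_singleton, h2] at h1
  have h6 : a = 10 := by
    interval_cases a <;> first | rfl | exact absurd h1 (by decide) | exact absurd rfl h4
  rw [h2, h6] at h5
  obtain ⟨f, hf, f0⟩ := Set.exists_ne_of_one_lt_ncard (s := {v | v ∈ (K : Set V) ∧ h v = v})
    (by unfold Nat.ModEq at h5; omega) 0
  exact ⟨f, f0, hf.1, hf.2⟩

variable {e f : V}

theorem rep_u (he : u e = e) (hf : Nm u f = 0) : Rep (D o u e f) u Um :=
  rep_of_basis (by rw [dig_Um.1, D_one, he]) (by rw [dig_Um.2.1, D_two, app L.uo, he])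
    fun i hi => by rw [dig_Um.2.2 i hi, D_ui L.u11 hf, pow_succ', LinearEquiv.mul_apply]

theorem rep_h (he : u e = e) (hf : Nm u f = 0) (hh : h f = f) : Rep (D o u e f) h Hm :=
  rep_of_basis (by rw [dig_Hm.1, D_one, L.h_fix he]) (by rw [dig_Hm.2.1, D_two, app L.ho, L.h_fix he])
    fun i hi => by rw [dig_Hm.2.2 i hi, D_ui L.u11 hf, app (semiconj_pow L.hu i), hh]

theorem D_surj (e0 : e ≠ 0) (he : u e = e) (f0 : f ≠ 0) (hf : Nm u f = 0) (x : V) :
    ∃ v, v < 4096 ∧ D o u e f v = x := by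
  have := L.finite
  let R : AddSubgroup V :=
    { carrier := {x | ∃ v, v < 4096 ∧ D o u e f v = x}
      zero_mem' := ⟨0, by norm_num, D_zero _ _ _ _⟩
      add_mem' := by
        rintro _ _ ⟨a, ha, rfl⟩ ⟨b, hb, rfl⟩
        exact ⟨_, xor_lt ha hb, D_xor _ _ _ _ _ _⟩
      neg_mem' := fun {a} ha => by rwa [vec2_neg] }
  obtain ⟨a, ha, h2⟩ := ncard_pow L.card R
  have h1 := ncard_modEq (A := R) (by norm_num : Nat.Prime 11) L.u11 (by
    rintro _ ⟨v, hv, rfl⟩
    exact ⟨_, mv_lt _ _, (L.rep_u he hf v hv).symm⟩)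
  have hC : {v | u v = v} ⊆ R := fun c hc => by
    rcases L.mem_C e0 he hc with rfl | rfl | rfl | rfl
    · exact R.zero_mem
    · exact ⟨1, by norm_num, D_one _ _ _ _⟩
    · exact ⟨2, by norm_num, D_two _ _ _ _⟩
    · exact ⟨3, by norm_num, D_three _ _ _ _⟩
  have h3 : {v | v ∈ (R : Set V) ∧ u v = v} = {v | u v = v} :=
    Set.ext fun v => ⟨fun a => a.2, fun a => ⟨hC a, a⟩⟩
  have h4 : a ≠ 2 := by
    rintro rfl
    have := Set.eq_of_subset_of_ncard_le hC (by rw [h2, L.ncard_C]; rfl)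
    have m : f ∈ (R : Set V) := ⟨4, by norm_num, D_four _ _ _ _⟩
    rw [← this] at m
    exact f0 ((Nm_fix m).symm.trans hf)
  rw [h3, L.ncard_C, h2] at h1
  have h6 : a = 12 := by
    interval_cases a <;> first | rfl | exact absurd h1 (by decide) | exact absurd rfl h4
  have := Set.eq_of_subset_of_ncard_le (Set.subset_univ (R : Set V))
    (by rw [h2, h6, Set.ncard_univ, L.card]; rfl)
  exact (this ▸ Set.mem_univ x : x ∈ (R : Set V))

theorem D_inj (e0 : e ≠ 0) (he : u e = e) (f0 : f ≠ 0) (hf : Nm u f = 0) {v w : ℕ} (hv : v < 4096)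
    (hw : w < 4096) (c : D o u e f v = D o u e f w) : v = w := by
  have := L.finite
  have := (Nat.bijective_iff_surjective_and_card (fun i : Fin 4096 => D o u e f i)).2
    ⟨fun x => by
      obtain ⟨v, hv, e⟩ := L.D_surj e0 he f0 hf x
      exact ⟨⟨v, hv⟩, e⟩, by rw [L.card, Nat.card_fin]⟩
  exact congrArg Fin.val (this.1 (a₁ := ⟨v, hv⟩) (a₂ := ⟨w, hw⟩) c)

theorem polar_CN {c : V} (hc : u c = c) (hf : Nm u f = 0) (i : ℕ) : polar q c ((u ^ i) f) = 0 := by
  have h1 : ∀ j, polar q c ((u ^ j) f) = polar q c f := fun j => by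
    conv_lhs => rw [← pow_fix hc j]
    exact polar_map (q_pow L.qu j) _ _
  have h2 : polar q c (Nm u f) = ∑ j ∈ Finset.range 11, polar q c ((u ^ j) f) :=
    map_sum (polarBilin q c) _ _
  simp only [h1, hf, polar_zero_right, Finset.sum_const, Finset.card_range] at h2
  rw [h1]
  rw [show 11 = 2 * 5 + 1 from rfl, add_smul, mul_smul, two_smul, zmod2_add_self, zero_add,
    one_smul] at h2
  exact h2.symm

theorem eq_zero_of_basis (e0 : e ≠ 0) (he : u e = e) (f0 : f ≠ 0) (hf : Nm u f = 0) {x : V}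
    (h0 : polar q x e = 0) (h1 : polar q x (o e) = 0) (h2 : ∀ i < 10, polar q x ((u ^ i) f) = 0) :
    x = 0 := L.nd x fun w => by
  obtain ⟨v, hv, rfl⟩ := L.D_surj e0 he f0 hf w
  revert v
  refine xor_induction12 (by rw [D_zero, polar_zero_right]) (fun j hj => ?_) fun a b _ _ i1 i2 => ?_
  · rw [D_two_pow _ _ _ _ hj]
    rcases j with _ | _ | j
    · exact h0
    · exact h1
    · exact h2 j (by omega)
  · rw [D_xor, polar_add_right, i1, i2, add_zero]

theorem polar_ff (e0 : e ≠ 0) (he : u e = e) (f0 : f ≠ 0) (hf : Nm u f = 0) (hh : h f = f) {i j : ℕ}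
    (hi : i < 10) (hj : j < 10) (ne : i ≠ j) : polar q ((u ^ i) f) ((u ^ j) f) = 1 := by
  let c : ℕ → ZMod 2 := fun n => polar q f ((u ^ n) f)
  have c0 : ∀ i n, polar q ((u ^ i) f) ((u ^ (i + n)) f) = c n := fun i n => by
    rw [← pow_app]; exact polar_map (q_pow L.qu i) _ _
  have c1 : ∀ n, c (3 * n % 11) = c n := fun n => by
    show polar q f _ = polar q f _
    rw [← pow_eq_pow_mod _ L.u11, ← polar_map L.qh f ((u ^ n) f), app (semiconj_pow L.hu n), hh]
  have c2 : ∀ n m, n + m = 11 → c m = c n := fun n m e => by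
    rw [← c0 n m, e, L.u11, polar_comm]; rfl
  have c3 : ∀ n, 1 ≤ n → n ≤ 10 → c n = c 1 := fun n a b => by
    have a1 : c 3 = c 1 := c1 1
    have a2 : c 9 = c 3 := c1 3
    have a3 : c 5 = c 9 := c1 9
    have a4 : c 4 = c 5 := c1 5
    have b1 := c2 1 10 rfl
    have b2 := c2 3 8 rfl
    have b3 := c2 9 2 rfl
    have b4 := c2 5 6 rfl
    have b5 := c2 4 7 rfl
    interval_cases n <;> simp only [*]
  have c4 : c 1 = 1 := (zmod2_cases _).resolve_left fun z => f0 (L.eq_zero_of_basis e0 he f0 hf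
    (by rw [polar_comm]; exact L.polar_CN he hf 0)
    (by rw [polar_comm]; exact L.polar_CN (by rw [app L.uo, he]) hf 0) fun i hi => by
      rcases i with _ | i
      · exact polar_self' q f
      · exact (c3 (i + 1) (by omega) (by omega)).trans z)
  rcases lt_or_gt_of_ne ne with l | l
  · obtain ⟨n, rfl⟩ := Nat.exists_eq_add_of_le l.le
    rw [c0, c3 n (by omega) (by omega), c4]
  · obtain ⟨n, rfl⟩ := Nat.exists_eq_add_of_le l.le
    rw [polar_comm, c0, c3 n (by omega) (by omega), c4]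

theorem polar_D (e0 : e ≠ 0) (he : u e = e) (f0 : f ≠ 0) (hf : Nm u f = 0) (hh : h f = f) :
    ∀ v, v < 4096 → ∀ w, w < 4096 → polar q (D o u e f v) (D o u e f w) = (bl v w : ℕ) := by
  have he' : u (o e) = o e := by rw [app L.uo, he]
  have p01 : polar q e (o e) = 1 := (zmod2_cases _).resolve_left fun z => e0
    (L.eq_zero_of_basis e0 he f0 hf (polar_self' q e) z fun i _ => L.polar_CN he hf i)
  obtain ⟨b1, b2, b3, b4⟩ := bl_basis
  have key : ∀ i < 12, ∀ j < 12, i < j →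
      polar q (bs o u e f i) (bs o u e f j) = (bl (2 ^ i) (2 ^ j) : ℕ) := by
    intro i hi j hj l
    rcases i with _ | _ | i <;> rcases j with _ | _ | j <;> try omega
    · rw [show 0 + 1 = 1 from rfl, b1]; exact p01
    · rw [b2 j (by omega)]; exact L.polar_CN he hf j
    · rw [show 0 + 1 = 1 from rfl, b3 j (by omega)]; exact L.polar_CN he' hf j
    · rw [b4 i (by omega) j (by omega) (by omega)]
      exact L.polar_ff e0 he f0 hf hh (by omega) (by omega) (by omega)
  refine xor_induction12 (fun w _ => by rw [D_zero, polar_zero_left, bl_zero_left]; rfl)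
    (fun i hi => ?_) fun a b ha hb i1 i2 w hw => ?_
  · refine xor_induction12 (by rw [D_zero, polar_zero_right, bl_zero_right]; rfl) (fun j hj => ?_)
      fun a b ha hb i1 i2 => ?_
    · rw [D_two_pow _ _ _ _ hi, D_two_pow _ _ _ _ hj]
      rcases lt_trichotomy i j with l | rfl | l
      · exact key i hi j hj l
      · rw [polar_self', bl_self]; rfl
      · rw [polar_comm, bl_comm]; exact key j hj i hi l
    · rw [D_xor, polar_add_right, i1, i2, bl_xor_right (two_pow_lt hi) ha hb, cast_xor]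
  · rw [D_xor, polar_add_left, i1 w hw, i2 w hw, bl_xor_left ha hb hw, cast_xor]

theorem dich (e0 : e ≠ 0) (he : u e = e) (f0 : f ≠ 0) (hf : Nm u f = 0) (hh : h f = f) :
    o f = D o u e f 2280 ∨ o (o f) = D o u e f 2280 := by
  obtain ⟨p, hp, ep⟩ := L.D_surj e0 he f0 hf (o f)
  have n : Nm u (o f) = 0 := by rw [Nm_comm L.uo, hf, map_zero]
  have h1 := L.polar_D e0 he f0 hf hh 1 (by norm_num) p hp
  have h2 := L.polar_D e0 he f0 hf hh 2 (by norm_num) p hp
  rw [D_one, ep, show polar q e (o f) = 0 from L.polar_CN he n 0] at h1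
  rw [D_two, ep, show polar q (o e) (o f) = 0 from L.polar_CN (by rw [app L.uo, he]) n 0] at h2
  have h3 : mv Hm p = p := L.D_inj e0 he f0 hf (mv_lt _ _) hp (by
    rw [← L.rep_h he hf hh p hp, ep, app L.ho, hh])
  rcases om_cases hp (cast_inj bl_le (by norm_num) h1.symm) (cast_inj bl_le (by norm_num) h2.symm) h3
    with rfl | rfl | rfl | rfl
  · rw [D_zero] at ep; exact absurd (o.map_eq_zero_iff.1 ep.symm) f0
  · rw [D_four] at ep; exact absurd (L.o_fix ep.symm) f0
  · exact Or.inl ep.symm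
  · right
    rw [L.oo, ← ep, show 2280 = 4 ^^^ 2284 from rfl, D_xor, D_four]

/-- the image of `f` under `o` -/
theorem D_2280 (hf : Nm u f = 0) : D o u e f 2280 =
    (u ^ 1) f + ((u ^ 3) f + ((u ^ 4) f + ((u ^ 5) f + (u ^ 9) f))) := by
  rw [show 2280 = ui 1 ^^^ (ui 3 ^^^ (ui 4 ^^^ (ui 5 ^^^ ui 9))) by decide]
  simp only [D_xor, D_ui L.u11 hf]

theorem rep_o (hf : Nm u f = 0)
    (hq : o f = (u ^ 1) f + ((u ^ 3) f + ((u ^ 4) f + ((u ^ 5) f + (u ^ 9) f)))) :
    Rep (D o u e f) o Om :=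
  rep_of_basis (by rw [dig_Om.1, D_two]) (by rw [dig_Om.2.1, D_three, L.oo]) fun i hi => by
    rw [dig_Om.2.2 i hi, ← app (Commute.pow_left L.uo i).eq, hq]
    simp only [D_xor, D_ui L.u11 hf, map_add, pow_app]

theorem rep_k (e0 : e ≠ 0) (he : u e = e) (f0 : f ≠ 0) (hf : Nm u f = 0) (hh : h f = f)
    (hq : o f = (u ^ 1) f + ((u ^ 3) f + ((u ^ 4) f + ((u ^ 5) f + (u ^ 9) f)))) :
    (k f ≠ 0 ∧ u (k f) = k f) ∧ (k f = e → Rep (D o u e f) k Km) := by
  have inj := fun {v w : ℕ} => L.D_inj e0 he f0 hf (v := v) (w := w)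
  have ro := L.rep_o (e := e) hf hq
  have ru := L.rep_u he hf
  have rh := L.rep_h he hf hh
  choose c hc using fun j => L.D_surj e0 he f0 hf (k (bs o u e f j))
  obtain ⟨X, hX, eX⟩ := exists_mat c fun j _ => (hc j).1
  have rk : Rep (D o u e f) k X := rep_of_basis
    (by rw [← mv_two_pow _ (by norm_num), eX _ (by norm_num), (hc 0).2]; rfl)
    (by rw [← mv_two_pow _ (by norm_num), eX _ (by norm_num), (hc 1).2]; rfl) fun i hi => by
      rw [← mv_two_pow _ (by omega), eX _ (by omega), (hc (i + 2)).2]; rfl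
  have req : ∀ {φ : V ≃ₗ[ZMod 2] V} {Y Z : ℕ}, Y < 2 ^ 144 → Z < 2 ^ 144 → Rep (D o u e f) φ Y →
      Rep (D o u e f) φ Z → Y = Z := fun hY hZ a b => mat_ext hY hZ fun j hj =>
    inj (mv_lt _ _) (mv_lt _ _) ((a _ (two_pow_lt hj)).symm.trans (b _ (two_pow_lt hj)))
  have sc : ∀ {i Y : ℕ}, Y < 2 ^ 144 → Rep (D o u e f) (o ^ i) Y → isSc Y = true := by
    intro i Y hY a
    rw [pow_eq_pow_mod i L.o3] at a
    have hi : i % 3 < 3 := Nat.mod_lt _ (by norm_num)
    generalize i % 3 = j at a hi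
    interval_cases j
    · rw [req hY (by decide +kernel) a (Rep.one _)]; decide +kernel
    · rw [req (Z := Om) hY (by decide +kernel) a (by rw [pow_one]; exact ro)]; decide +kernel
    · rw [req hY (mm_lt _ _) a (by rw [pow_two]; exact ro.mul ro)]; decide +kernel
  have qD : ∀ v, v < 4096 → q (D o u e f v) = (qc v : ℕ) := fun v hv => by
    rw [L.q_eq, ro v hv, L.polar_D e0 he f0 hf hh v hv _ (mv_lt _ _), qc_eq_bl v hv]
  obtain ⟨i1, r1⟩ := L.r1
  obtain ⟨i2, r2⟩ := L.r2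
  obtain ⟨a, b⟩ := k_sol hX
    (fun v hv => inj (mv_lt _ _) (mv_lt _ _) (by
      rw [← rk _ (mv_lt _ _), ← ro v hv, ← ro _ (mv_lt _ _), ← rk v hv, app L.ko]))
    (fun v hv => inj (mv_lt _ _) (mv_lt _ _) (by
      rw [← rk _ (mv_lt _ _), ← rh v hv, ← rh _ (mv_lt _ _), ← rh _ (mv_lt _ _), ← rk v hv,
        app L.kh]; rfl))
    (fun v hv => cast_inj (qc_le _) (qc_le _) (by
      rw [← qD _ (mv_lt _ _), ← rk v hv, L.qk, qD v hv]))
    (req (mm_lt _ _) (by decide +kernel) ((rk.mul rk).mul (rk.mul rk)) (by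
      rw [show k * k * (k * k) = k ^ 4 by simp only [pow_succ, pow_zero, one_mul, mul_assoc], L.k4]
      exact Rep.one _))
    (sc (i := i1) (mm_lt _ _) (by
      have := ru.mul (rk.mul rk)
      rw [← r1, pow_three, pow_two]
      exact this.mul (this.mul this)))
    (sc (i := i2) (mm_lt _ _) (by
      have := ru.mul rk
      rw [← r2, show (u * k) ^ 7 = (u * k) * ((u * k) ^ 3 * (u * k) ^ 3) by
        rw [← pow_add, ← pow_succ'], pow_three]
      exact this.mul ((this.mul (this.mul this)).mul (this.mul (this.mul this)))))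
  have ek := rk 4 (by norm_num)
  rw [D_four] at ek
  have he' : u (o e) = o e := by rw [app L.uo, he]
  refine ⟨⟨fun c => f0 (k.map_eq_zero_iff.1 c), ?_⟩, fun c => ?_⟩
  · rw [ek]
    rcases a with a | a | a <;> rw [a]
    · rw [D_one, he]
    · rw [D_two, he']
    · rw [D_three, map_add, he, he']
  · rw [← b (inj (mv_lt _ _) (by norm_num) (by rw [← ek, c, D_one]))]
    exact rk

theorem exists_good : ∃ f, f ≠ 0 ∧ Nm u f = 0 ∧ h f = f ∧
    (o f = (u ^ 1) f + ((u ^ 3) f + ((u ^ 4) f + ((u ^ 5) f + (u ^ 9) f))) ∨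
      (o * o) f = (u ^ 1) f + ((u ^ 3) f + ((u ^ 4) f + ((u ^ 5) f + (u ^ 9) f)))) := by
  obtain ⟨e, e0, he⟩ := L.exists_e
  obtain ⟨f, f0, hf, hh⟩ := L.exists_f
  refine ⟨f, f0, hf, hh, ?_⟩
  rw [← L.D_2280 (e := e) hf]
  exact L.dich e0 he f0 hf hh

theorem main (f0 : f ≠ 0) (hf : Nm u f = 0) (hh : h f = f)
    (hq : o f = (u ^ 1) f + ((u ^ 3) f + ((u ^ 4) f + ((u ^ 5) f + (u ^ 9) f)))) :
    ∃ (D : ℕ → V) (j : ℕ), D 0 = 0 ∧ (∀ v w, D (v ^^^ w) = D v + D w) ∧
      (∀ v, v < 4096 → D v = 0 → v = 0) ∧ (∀ x, ∃ v, v < 4096 ∧ D v = x) ∧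
      (∀ v w, v < 4096 → w < 4096 → polar q (D v) (o (D w)) = (bt v w : ℕ)) ∧
      (∀ v, v < 4096 → q (D v) = (qc v : ℕ)) ∧ Rep D o Om ∧ Rep D u Um ∧ Rep D k Km ∧
      Rep D (s * o ^ j) Sm ∧ s * o ≠ o * s := by
  obtain ⟨e', e0', he'⟩ := L.exists_e
  obtain ⟨e0, he⟩ := (L.rep_k e0' he' f0 hf hh hq).1
  have rk := (L.rep_k e0 he f0 hf hh hq).2 rfl
  generalize ek : k f = e at e0 he rk
  have ro := L.rep_o (e := e) hf hq
  have ke : k e = f := by
    have := rk 1 (by norm_num)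
    rwa [D_one, show mv Km 1 = 4 by decide +kernel, D_four] at this
  obtain ⟨i, hi⟩ : ∃ i : ℕ, s e = (o ^ i) e := by
    rcases L.mem_C e0 he (c := s e) (L.u_fix (Or.inr rfl) (by rw [← app L.su, he])) with c | c | c | c
    · exact absurd (s.map_eq_zero_iff.1 c) e0
    · exact ⟨0, c⟩
    · exact ⟨1, c⟩
    · exact ⟨2, by rw [c, ← L.oo]; rfl⟩
  have o3 : ∀ n, (o ^ (3 * n)) e = e := fun n => by rw [pow_mul, L.o3, one_pow]; rfl
  have key : ∀ j, (s * o ^ j) e = e → ∀ n, (s * o ^ j) ((u ^ n) f) = (u ^ (10 * n)) f := by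
    intro j hj n
    have c1 : s * o ^ j * k = k * (s * o ^ j) :=
      (Commute.mul_left L.sk (Commute.pow_left L.ko.symm j)).eq
    have c2 : s * o ^ j * u = u ^ 10 * (s * o ^ j) := by
      rw [mul_assoc, (Commute.pow_left L.uo.symm j).eq, ← mul_assoc, L.su, mul_assoc]
    rw [app (semiconj_pow c2 n), ← ke, app c1, hj]
  have ns : s * o ≠ o * s := fun c => by
    have hj : (s * o ^ (2 * i)) e = e := by
      rw [LinearEquiv.mul_apply, app (Commute.pow_right c (2 * i)).eq, hi, pow_app,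
        show 2 * i + i = 3 * i by ring, o3]
    have c1 : s * o ^ (2 * i) * o = o * (s * o ^ (2 * i)) :=
      (Commute.mul_left c (Commute.pow_left (Commute.refl o) _)).eq
    have h1 := app c1 f
    have h2 : (s * o ^ (2 * i)) f = f := key _ hj 0
    rw [h2, hq] at h1
    simp only [map_add, key _ hj] at h1
    simp only [← D_ui (o := o) (e := e) L.u11 hf, ← D_xor] at h1
    exact absurd (L.D_inj e0 he f0 hf (by decide) (by decide) h1) (by decide)
  have so := L.so.resolve_left ns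
  have hj : (s * o ^ i) e = e := by
    rw [LinearEquiv.mul_apply, app (semiconj_pow so i), hi, pow_app, show 2 * i + i = 3 * i by ring, o3]
  refine ⟨D o u e f, i, D_zero _ _ _ _, D_xor _ _ _ _, fun v hv c =>
    L.D_inj e0 he f0 hf hv (by norm_num) (by rw [c, D_zero]), L.D_surj e0 he f0 hf,
    fun v w hv hw => ?_, fun v hv => ?_, ro, L.rep_u he hf, rk, ?_, ns⟩
  · rw [ro w hw, L.polar_D e0 he f0 hf hh v hv _ (mv_lt _ _), bt_eq_bl v hv w hw]
  · rw [L.q_eq, ro v hv, L.polar_D e0 he f0 hf hh v hv _ (mv_lt _ _), qc_eq_bl v hv]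
  · refine rep_of_basis (by rw [dig_Sm.1, D_one, hj]) ?_ fun n hn => ?_
    · have c1 : s * o ^ i * o = o ^ 2 * (s * o ^ i) := by
        rw [mul_assoc, ← pow_succ, pow_succ', ← mul_assoc, so, mul_assoc]
      rw [dig_Sm.2.1, D_three, app c1, hj, ← L.oo]; rfl
    · rw [dig_Sm.2.2 n hn, D_ui L.u11 hf, key _ hj]

end LD

theorem eqns_ExLin : True := by
  have := @Nm.eq_def.{0}
  have := @Nm.eq_1.{0}
  have := @bs.eq_def.{0}
  have := @bs.eq_1.{0}
  have := @D.eq_def.{0}
  have := @D.eq_1.{0}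
  have := @Rep.eq_def.{0}
  have := @Rep.eq_1.{0}
  trivial

end H31.J4X
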