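import Mathlib
import Cfsg.Agent.Lib.J4L.Md
import Cfsg.Agent.Lib.J4L.Cent
import Cfsg.Agent.Lib.J4L.ExLin
import Cfsg.Agent.Lib.LargeExtra.Out
import Cfsg.Prelude.Def_JankoFourType

/-!
# Existence of the coordinates `Md` for a group of Janko-four type (package A of J4LOC)
-/

set_option autoImplicit false
set_option maxRecDepth 100000

namespace H31.J4X
open Cfsg H15 H75.J4 H95 Subgroup QuadraticMap

theorem zp_cast {E : Type*} [Group E] {z : E} (hz : z * z = 1) (n : ℕ) : zp z (n : ZMod 2) = z ^ n := by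
  induction n with
  | zero => rw [Nat.cast_zero, zp_zero, pow_zero]
  | succ n ih => rw [Nat.cast_succ, zp_add hz, ih, zp_one, pow_succ]

/-- the canonical section -/
theorem exists_sec {E : Type*} [Group E] {z : E} {V : Type*} [AddCommGroup V] [Module (ZMod 2) V]
    (P : Pres E z V) (h : ES (⊤ : Subgroup E) z) (α : MulAut E)
    (oo : ∀ v, P.autHom h α (P.autHom h α v) = v + P.autHom h α v) :
    ∃ s : V → E, (∀ v, P.π (s v) = v) ∧ s 0 = 1 ∧
      (∀ v w, s v * s w = s (v + w) * zp z (polar P.q v (P.autHom h α w))) ∧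
      (∀ β : MulAut E, α * β = β * α → ∀ v, β (s v) = s (P.autHom h β v)) ∧
      (∀ β : MulAut E, α * β = β * (α * α) → α * α * β = β * α →
        ∀ v, β (s v) = s (P.autHom h β v) * zp z (P.q v)) := by
  have hπ := P.autHom_π h
  have qo := P.q_autHom h α
  generalize ho : P.autHom h α = o at oo qo
  have hα : ∀ x, P.π (α x) = o (P.π x) := fun x => by rw [← hπ, ho]
  have cz : ∀ (a : ZMod 2) (x y : E), x * zp z a * y = x * y * zp z a := fun a x y => by
    rw [mul_assoc, ← zp_comm (P.central y), mul_assoc]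
  have zz : ∀ a : ZMod 2, zp z a * zp z a = 1 := fun a => by
    rw [← zp_add P.zz, zmod2_add_self, zp_zero]
  have fz : ∀ (β : MulAut E) (a : ZMod 2), β (zp z a) = zp z a := fun β a => by
    have := map_zp (z := z) β.toMonoidHom a
    rwa [MulEquiv.coe_toMonoidHom, h.map_z β] at this
  have o3 : ∀ v, o (o (o v)) = v := fun v => by
    rw [oo, oo, add_comm v, ← add_assoc, vec2_add_self, zero_add]
  let T : E → E := fun x => x * α x * α (α x)
  have T0 : ∀ x, ∃ a, T x = zp z a := fun x => exists_zp ((P.ker _).1 (by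
    show P.π (x * α x * α (α x)) = 0
    rw [P.π_mul, P.π_mul, hα, hα, hα, oo, vec2_add_self]))
  have Tz : ∀ x a, T (x * zp z a) = T x * zp z a := fun x a => by
    show x * zp z a * α (x * zp z a) * α (α (x * zp z a)) = x * α x * α (α x) * zp z a
    simp only [map_mul, fz, ← mul_assoc]
    rw [cz a x, mul_assoc _ (zp z a) (zp z a), zz, mul_one]
  have Tm : ∀ x y, T (x * y) = T x * T y * zp z (polar P.q (P.π x) (o (P.π y))) := fun x y => by
    show x * y * α (x * y) * α (α (x * y)) = x * α x * α (α x) * (y * α y * α (α y)) * _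
    have e1 := P.comm y (α x)
    have e2 := P.comm (y * α y) (α (α x))
    have e3 : polar P.q (P.π x) (o (P.π y)) = polar P.q (P.π (y * α y)) (P.π (α (α x))) +
        polar P.q (P.π y) (P.π (α x)) := by
      rw [P.π_mul, hα, hα, hα, ← oo, polar_map qo, polar_map qo, ← polar_add_right, ← oo,
        ← polar_map qo (P.π y), o3, polar_comm]
    rw [e3, zp_add P.zz]
    generalize polar P.q (P.π (y * α y)) (P.π (α (α x))) = a at e2
    generalize polar P.q (P.π y) (P.π (α x)) = b at e1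
    calc x * y * α (x * y) * α (α (x * y)) = x * (y * α x) * (α y * α (α x) * α (α y)) := by
          simp only [map_mul, mul_assoc]
      _ = x * α x * (y * α y * α (α x)) * α (α y) * zp z b := by
          rw [e1, ← mul_assoc x, cz]; simp only [mul_assoc]
      _ = _ := by rw [e2, ← mul_assoc, cz]; simp only [mul_assoc]
  have uq : ∀ x y, P.π x = P.π y → T x = T y → x = y := fun x y a b => by
    obtain ⟨c, rfl⟩ := P.eq_iff.1 a
    rw [Tz, left_eq_mul] at b
    rw [b, mul_one]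
  have ex : ∀ v, ∃ x, P.π x = v ∧ T x = 1 := fun v => by
    obtain ⟨x, rfl⟩ := P.surj v
    obtain ⟨a, ha⟩ := T0 x
    exact ⟨x * zp z a, by rw [P.π_mul, P.π_zp, add_zero], by rw [Tz, ha, zz]⟩
  choose s hs hT using ex
  refine ⟨s, hs, uq _ _ (by rw [hs, P.π_one]) (by rw [hT]; simp [T]), fun v w => uq _ _ ?_ ?_,
    fun β c v => uq _ _ ?_ ?_, fun β c c' v => uq _ _ ?_ ?_⟩
  · rw [P.π_mul, P.π_mul, P.π_zp, add_zero, hs, hs, hs]
  · rw [Tm, Tz, hT, hT, hT, hs, hs, one_mul]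
  · rw [← hπ, hs, hs]
  · have e : ∀ x, α (β x) = β (α x) := fun x => by rw [← MulAut.mul_apply, c, MulAut.mul_apply]
    rw [hT, ← map_one β, ← hT v]
    show β (s v) * α (β (s v)) * α (α (β (s v))) = β (s v * α (s v) * α (α (s v)))
    rw [e, e, map_mul, map_mul]
  · rw [P.π_mul, P.π_zp, add_zero, ← hπ, hs, hs]
  · have e : ∀ x, α (β x) = β (α (α x)) := fun x => by
      rw [← MulAut.mul_apply, c]; rfl
    have e' : ∀ x, α (α (β x)) = β (α x) := fun x => by
      rw [← MulAut.mul_apply _ β, ← c']; rfl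
    rw [Tz, hT, one_mul, ← fz β, ← one_mul (zp z _), ← hT v]
    show β (s v) * α (β (s v)) * α (α (β (s v))) = β (s v * α (s v) * α (α (s v)) * _)
    rw [e', e, ← map_mul, ← map_mul, mul_assoc, P.comm (α (α (s v))), hα, hα, polar_map qo, hs,
      polar_comm, polar, ← oo, qo, qo, sub_self, zero_sub,
      neg_eq_of_add_eq_zero_left (zmod2_add_self _)]
    simp only [mul_assoc]

/-- the data on the centraliser `H` of `z` -/
structure HD {H : Type*} [Group H] (z ω : H) (Q : Subgroup H) (π : H →* Equiv.Perm GolayPt) :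
    Prop where
  es : ES Q z
  normal : Q.Normal
  cent : ∀ g, (∀ x ∈ Q, x * g = g * x) → g = 1 ∨ g = z
  card : Nat.card Q = 2 ^ 13
  ω3 : orderOf ω = 3
  range : π.range = M22ext
  Qker : Q ≤ π.ker
  ωker : π ω = 1
  cardker : Nat.card π.ker = 3 * 2 ^ 13
  fix : ∀ x ∈ Q, x * ω = ω * x → x = 1 ∨ x = z

namespace HD
variable {H : Type*} [Group H] [Finite H] {z ω : H} {Q : Subgroup H} {π : H →* Equiv.Perm GolayPt}
  (A : HD z ω Q π)
include A

omit [Finite H] in
theorem zc (g : H) : g * z = z * g := mem_centralizer_singleton_iff.1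
  (A.es.normalizer_le (by have := A.normal; rw [normalizer_eq_top]; trivial))

omit [Finite H] in
theorem l3 : L3 Q z :=
  ⟨A.es, A.cent, fun g _ => by have := A.normal; rw [normalizer_eq_top]; trivial⟩

omit [Finite H] in
theorem ω_cube : ω ^ 3 = 1 := by rw [← A.ω3, pow_orderOf_eq_one]

omit [Finite H] in
theorem ω_inv : ω⁻¹ = ω * ω := by
  rw [inv_eq_iff_mul_eq_one, ← pow_three, A.ω_cube]

omit [Finite H] in
theorem ω_ne : ω ≠ 1 := fun c => by have := A.ω3; rw [c, orderOf_one] at this; omega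

omit [Finite H] in
theorem swap : HD z (ω * ω) Q π where
  es := A.es
  normal := A.normal
  cent := A.cent
  card := A.card
  ω3 := by rw [← A.ω_inv, orderOf_inv, A.ω3]
  range := A.range
  Qker := A.Qker
  ωker := by rw [map_mul, A.ωker, one_mul]
  cardker := A.cardker
  fix x hx c := A.fix x hx (by
    rw [← A.ω_inv] at c
    exact (Commute.inv_right_iff.1 c).eq)

theorem ker {g : H} (hg : π g = 1) : ∃ x ∈ Q, ∃ i : ℕ, g = x * ω ^ i := by
  have := A.normal
  have h1 : Q ⊔ zpowers ω ≤ π.ker := sup_le A.Qker (zpowers_le.2 A.ωker)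
  have h2 : 2 ^ 13 ∣ Nat.card ↥(Q ⊔ zpowers ω) := A.card ▸ card_dvd_of_le le_sup_left
  have h3 : 3 ∣ Nat.card ↥(Q ⊔ zpowers ω) := by
    rw [← A.ω3, ← Nat.card_zpowers]; exact card_dvd_of_le le_sup_right
  have h4 := eq_of_le_of_card_ge h1 (A.cardker ▸ Nat.le_of_dvd Nat.card_pos
    (Nat.Coprime.mul_dvd_of_dvd_of_dvd (by norm_num) h3 h2))
  have h5 : g ∈ Q ⊔ zpowers ω := h4 ▸ hg
  obtain ⟨x, hx, y, hy, rfl⟩ := (mem_sup_iff_of_norm (by rw [normalizer_eq_top]; exact le_top)).1 h5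
  obtain ⟨i, rfl⟩ := (mem_powers_iff_mem_zpowers).2 hy
  exact ⟨x, hx, i, rfl⟩

omit [Finite H] in
theorem pow_cases (i : ℕ) : ω ^ i = 1 ∨ ω ^ i = ω ∨ ω ^ i = ω⁻¹ := by
  rw [pow_eq_pow_mod i A.ω_cube, A.ω_inv]
  have hi : i % 3 < 3 := Nat.mod_lt _ (by norm_num)
  generalize i % 3 = j at hi
  interval_cases j <;> simp [pow_two]

theorem lift {y : Equiv.Perm GolayPt} (hy : y ∈ M22ext) :
    ∃ g, π g = y ∧ (g * ω * g⁻¹ = ω ∨ g * ω * g⁻¹ = ω⁻¹) := by
  rw [← A.range] at hy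
  obtain ⟨g, rfl⟩ := hy
  have m : g * ω * g⁻¹ ∈ π.ker := (MonoidHom.normal_ker π).conj_mem _ A.ωker g
  obtain ⟨n, hn⟩ := H15.exists_conj_mem_zpowers (G := π.ker) (a := ⟨ω, A.ωker⟩) (x := ⟨_, m⟩)
    Nat.prime_three (by rw [← orderOf_coe]; exact A.ω3) (by rw [A.cardker]; decide)
    (Subtype.ext (by show (g * ω * g⁻¹) ^ 3 = 1; rw [conj_pow, A.ω_cube]; group))
  obtain ⟨i, hi⟩ := (mem_powers_iff_mem_zpowers).2 hn
  have hi' : ω ^ i = n * g * ω * (n * g)⁻¹ := by
    have : ω ^ i = n * (g * ω * g⁻¹) * (n : H)⁻¹ := congrArg Subtype.val hi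
    rw [this]; group
  refine ⟨n * g, by rw [map_mul, show π n = 1 from n.2, one_mul], ?_⟩
  rw [← hi']
  refine (A.pow_cases i).resolve_left fun c => A.ω_ne ?_
  rwa [hi', conj_eq_one_iff] at c

theorem kerK {g : H} (hg : π g = 1) (h : g * ω = ω * g) : ∃ i : ℕ, g = ω ^ i ∨ g = z * ω ^ i := by
  obtain ⟨x, hx, i, rfl⟩ := A.ker hg
  have : x * ω = ω * x := by
    rw [mul_assoc, ← pow_succ, pow_succ', ← mul_assoc, ← mul_assoc] at h
    exact mul_right_cancel h
  rcases A.fix x hx this with rfl | rfl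
  · exact ⟨i, Or.inl (one_mul _)⟩
  · exact ⟨i, Or.inr rfl⟩

theorem lift_sq {y : Equiv.Perm GolayPt} (hy : y ∈ M22ext) : ∃ g, π g = y * y ∧ g * ω = ω * g := by
  obtain ⟨g, rfl, h⟩ := A.lift hy
  refine ⟨g * g, map_mul _ _ _, ?_⟩
  rw [← mul_inv_eq_iff_eq_mul, show g * g * ω * (g * g)⁻¹ = g * (g * ω * g⁻¹) * g⁻¹ by group]
  rcases h with h | h
  · rw [h, h]
  · rw [h, show g * ω⁻¹ * g⁻¹ = (g * ω * g⁻¹)⁻¹ by group, h, inv_inv]

omit A [Finite H] in
theorem conj_cent {σ a : H} (h : σ * ω * σ⁻¹ = ω ∨ σ * ω * σ⁻¹ = ω⁻¹) (ha : a * ω = ω * a) :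
    σ * a * σ⁻¹ * ω = ω * (σ * a * σ⁻¹) := by
  have c : Commute (σ * a * σ⁻¹) (σ * ω * σ⁻¹) := by
    show _ = _
    rw [conj_mul, conj_mul, ha]
  rcases h with h | h <;> rw [h] at c
  · exact c
  · exact (Commute.inv_right_iff.1 c).eq

section rho
variable {K : Type*} [Group K] {ρ : H →* K} (hz : ρ z = 1)
include hz

theorem rho_ker {g : H} (hg : π g = 1) (h : g * ω = ω * g) : ∃ i : ℕ, ρ g = ρ ω ^ i := by
  obtain ⟨i, rfl | rfl⟩ := A.kerK hg h
  · exact ⟨i, map_pow _ _ _⟩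
  · exact ⟨i, by rw [map_mul, hz, one_mul, map_pow]⟩

theorem eq_of_pow {a b : H} (ha : a * ω = ω * a) (hb : b * ω = ω * b) (e : π a = π b) {n : ℕ}
    (hn : Nat.Coprime 3 n) (h : ρ a ^ n = ρ b ^ n) : ρ a = ρ b := by
  obtain ⟨i, hi⟩ := A.rho_ker hz (g := a * b⁻¹) (by rw [map_mul, map_inv, e, mul_inv_cancel])
    (Commute.mul_left ha (Commute.inv_left hb)).eq
  rw [map_mul, map_inv, mul_inv_eq_iff_eq_mul] at hi
  have c : Commute (ρ ω ^ i) (ρ b) := (Commute.map (show Commute b ω from hb) ρ).symm.pow_left i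
  rw [hi, c.mul_pow, mul_eq_right] at h
  have h3 : (ρ ω ^ i) ^ 3 = 1 := by rw [← pow_mul, mul_comm, pow_mul, ← map_pow, A.ω_cube]; simp
  rw [hi, (pow_eq_one_iff_of_coprime hn).1 ⟨h3, h⟩, one_mul]

theorem adj {a : H} (ha : a * ω = ω * a) {n : ℕ} (hn : π a ^ n = 1) (r : ℕ)
    (hr : π a ^ (3 * r) = π a) : ∃ b, π b = π a ∧ b * ω = ω * b ∧ ρ b ^ n = 1 := by
  obtain ⟨i, hi⟩ := A.rho_ker hz (g := a ^ n) (by rw [map_pow, hn]) (Commute.pow_left ha n).eq
  refine ⟨a ^ (3 * r), by rw [map_pow, hr], (Commute.pow_left ha _).eq, ?_⟩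
  rw [map_pow, ← pow_mul, mul_comm, pow_mul, ← map_pow, hi, ← pow_mul,
    show i * (3 * r) = 3 * (i * r) by ring, pow_mul, ← map_pow, A.ω_cube, map_one, one_pow]

end rho

variable [Q.Normal] {V : Type*} [AddCommGroup V] [Module (ZMod 2) V]

omit A in
/-- the action on `Q / ⟨z⟩` -/
noncomputable def rho {zQ : Q} (P : Pres Q zQ V) (hT : ES (⊤ : Subgroup Q) zQ) :
    H →* (V ≃ₗ[ZMod 2] V) := (P.autHom hT).comp MulAut.conjNormal

omit A [Finite H] in
theorem rho_π {zQ : Q} (P : Pres Q zQ V) (hT : ES (⊤ : Subgroup Q) zQ) (g : H) (x : Q) :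
    rho P hT g (P.π x) = P.π (MulAut.conjNormal g x) := P.autHom_π hT _ _

omit A [Finite H] in
theorem rho_eq_iff {zQ : Q} (P : Pres Q zQ V) (hT : ES (⊤ : Subgroup Q) zQ) (g : H) (x : Q) :
    rho P hT g (P.π x) = P.π x ↔ g * x * g⁻¹ = x ∨ g * x * g⁻¹ = x * zQ := by
  rw [rho_π, eq_comm, P.eq_iff', Subtype.ext_iff, Subtype.ext_iff]; rfl

omit [Finite H] in
theorem rho_z (P : Pres Q ⟨z, A.es.mem⟩ V) : rho P A.es.top z = 1 := LinearEquiv.ext fun v => by
  obtain ⟨x, rfl⟩ := P.surj v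
  exact (rho_eq_iff P _ z x).2 (Or.inl (by rw [← A.zc, mul_inv_cancel_right]))

omit [Finite H] in
theorem rho_oo (P : Pres Q ⟨z, A.es.mem⟩ V) (v : V) :
    rho P A.es.top ω (rho P A.es.top ω v) = v + rho P A.es.top ω v := by
  have fx : ∀ w, rho P A.es.top ω w = w → w = 0 := fun w hw => by
    obtain ⟨x, rfl⟩ := P.surj w
    rcases (rho_eq_iff P _ ω x).1 hw with c | c
    · rw [P.ker]
      exact (A.fix x x.2 (mul_inv_eq_iff_eq_mul.1 c).symm).imp Subtype.ext Subtype.ext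
    · exfalso
      have c' : ω * x * ω⁻¹ = x * z := c
      have e : ω * (x * z) * ω⁻¹ = x := by
        rw [← conj_mul, c', A.zc ω, mul_inv_cancel_right, mul_assoc, A.es.sq, mul_one]
      have e3 : ω ^ 3 * x * (ω ^ 3)⁻¹ = ω * (ω * (ω * x * ω⁻¹) * ω⁻¹) * ω⁻¹ := by
        rw [pow_three]; group
      rw [c', e, c', A.ω_cube, one_mul, inv_one, mul_one, left_eq_mul] at e3
      exact A.es.ne_one e3
  have o3 : rho P A.es.top ω (rho P A.es.top ω (rho P A.es.top ω v)) = v := by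
    rw [← LinearEquiv.mul_apply, ← LinearEquiv.mul_apply, ← pow_three', ← map_pow, A.ω_cube, map_one]
    rfl
  have := fx (v + rho P A.es.top ω v + rho P A.es.top ω (rho P A.es.top ω v)) (by
    rw [map_add, map_add, o3]; abel)
  rw [add_eq_zero_iff_eq_neg, vec2_neg] at this
  exact this.symm

theorem exists_LD (P : Pres Q ⟨z, A.es.mem⟩ V) : ∃ u h k σ : H, u * ω = ω * u ∧ k * ω = ω * k ∧
    (σ * ω * σ⁻¹ = ω ∨ σ * ω * σ⁻¹ = ω⁻¹) ∧ π u = permOf betaC ∧ π k = permOf kappaC ∧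
    π σ = permOf gammaC ∧ LD P.q (rho P A.es.top ω) (rho P A.es.top u) (rho P A.es.top h)
      (rho P A.es.top k) (rho P A.es.top σ) := by
  have hz := A.rho_z P
  have gb : Good M22ext betaC := gensX_good _ (by simp)
  have gk : Good M22ext kappaC := gensX_good _ (by simp)
  have gg : Good M22ext gammaC := gensX_good _ (by simp)
  have gd : Good M22ext deltaC := good_M22ext inM24_deltaC (by decide +kernel)
  have b11 : permOf betaC ^ 11 = 1 := permOf_pow_eq_one gb.1 (by decide +kernel)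
  have d5 : permOf deltaC ^ 5 = 1 := permOf_pow_eq_one gd.1 (by decide +kernel)
  have k4 : permOf kappaC ^ 4 = 1 := permOf_pow_eq_one gk.1 (by decide +kernel)
  have bk7 : (permOf betaC * permOf kappaC) ^ 7 = 1 := by
    rw [← permOf_mulP gb.1 gk.1]
    exact permOf_pow_eq_one (okP_mulP gb.1 gk.1) (by decide +kernel)
  have bk3 : (permOf betaC * permOf kappaC ^ 2) ^ 3 = 1 := by
    rw [← (powP_spec gk.1 2).2, ← permOf_mulP gb.1 (powP_spec gk.1 2).1]
    exact permOf_pow_eq_one (okP_mulP gb.1 (powP_spec gk.1 2).1) (by decide +kernel)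
  have db : permOf deltaC * permOf betaC = permOf betaC ^ 3 * permOf deltaC := by
    rw [← (powP_spec gb.1 3).2]
    exact (mulP_eq_iff gd.1 gb.1 (powP_spec gb.1 3).1 gd.1).1 (by decide +kernel)
  have kd : permOf kappaC * permOf deltaC = permOf deltaC ^ 2 * permOf kappaC := by
    rw [← (powP_spec gd.1 2).2]
    exact (mulP_eq_iff gk.1 gd.1 (powP_spec gd.1 2).1 gk.1).1 (by decide +kernel)
  have gb' : permOf gammaC * permOf betaC = permOf betaC ^ 10 * permOf gammaC := by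
    rw [← (powP_spec gb.1 10).2]
    exact (mulP_eq_iff gg.1 gb.1 (powP_spec gb.1 10).1 gg.1).1 (by decide +kernel)
  have gk' : permOf gammaC * permOf kappaC = permOf kappaC * permOf gammaC :=
    (mulP_eq_iff gg.1 gk.1 gk.1 gg.1).1 (by decide +kernel)
  have b1 : permOf betaC ≠ 1 := permOf_ne_one gb.1 (i := 1) (by norm_num) (by decide +kernel)
  obtain ⟨u0, pu0, cu0⟩ := A.lift_sq (pow_mem gb.2 6)
  obtain ⟨h0, ph0, ch0⟩ := A.lift_sq (pow_mem gd.2 3)
  obtain ⟨k0, pk0, ck0⟩ := A.lift_sq (pow_mem (mul_mem gb.2 gk.2) 4)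
  obtain ⟨σ, pσ, cσ⟩ := A.lift gg.2
  generalize permOf betaC = β at *
  generalize permOf deltaC = δ at *
  generalize permOf kappaC = κ at *
  generalize permOf gammaC = γ at *
  rw [← pow_add, show 6 + 6 = 11 + 1 from rfl, pow_succ, b11, one_mul] at pu0
  rw [← pow_add, show 3 + 3 = 5 + 1 from rfl, pow_succ, d5, one_mul] at ph0
  rw [← pow_add, show 4 + 4 = 7 + 1 from rfl, pow_succ, bk7, one_mul] at pk0
  have pk1 : π (u0⁻¹ * k0) = κ := by rw [map_mul, map_inv, pu0, pk0, inv_mul_cancel_left]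
  obtain ⟨u, pu, cu, ou⟩ := A.adj hz cu0 (n := 11) (by rw [pu0, b11]) 4
    (by rw [pu0, show 3 * 4 = 11 + 1 from rfl, pow_succ, b11, one_mul])
  obtain ⟨h, ph, ch, oh⟩ := A.adj hz ch0 (n := 5) (by rw [ph0, d5]) 2
    (by rw [ph0, show 3 * 2 = 5 + 1 from rfl, pow_succ, d5, one_mul])
  obtain ⟨k, pk, ck, ok⟩ := A.adj hz (Commute.mul_left (Commute.inv_left cu0) ck0).eq (n := 4)
    (by rw [pk1, k4]) 3 (by rw [pk1, show 3 * 3 = 4 * 2 + 1 from rfl, pow_succ, pow_mul, k4]; simp)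
  rw [pu0] at pu
  rw [ph0] at ph
  rw [pk1] at pk
  have rel : ∀ {a b : H} {m n : ℕ}, (a * ω * a⁻¹ = ω ∨ a * ω * a⁻¹ = ω⁻¹) → b * ω = ω * b →
      π a * π b = π b ^ m * π a → Nat.Coprime 3 n → rho P A.es.top b ^ n = 1 →
      rho P A.es.top a * rho P A.es.top b = rho P A.es.top b ^ m * rho P A.es.top a := by
    intro a b m n ha hb e hn ho
    have := A.eq_of_pow hz (conj_cent ha hb) (Commute.pow_left hb m).eq
      (by rw [map_mul, map_mul, map_inv, map_pow, e, mul_inv_cancel_right]) hn (by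
        rw [map_mul, map_mul, map_inv, conj_pow, ho, map_pow, ← pow_mul, mul_comm m, pow_mul, ho]
        simp)
    rwa [map_mul, map_mul, map_inv, map_pow, mul_inv_eq_iff_eq_mul] at this
  have cm : ∀ {a : H}, a * ω = ω * a → rho P A.es.top a * rho P A.es.top ω =
      rho P A.es.top ω * rho P A.es.top a := fun ha => by rw [← map_mul, ha, map_mul]
  refine ⟨u, h, k, σ, cu, ck, cσ, pu, pk, pσ, ?_, P.nondeg_of_ES A.es.top, P.q_autHom A.es.top _,
    P.q_autHom A.es.top _, P.q_autHom A.es.top _, P.q_autHom A.es.top _, A.rho_oo P, ou, fun c => b1 ?_, oh, ok, cm cu,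
    cm ch, cm ck, rel (Or.inl (mul_inv_eq_iff_eq_mul.2 ch)) cu (by rwa [ph, pu]) (by norm_num) ou,
    rel (Or.inl (mul_inv_eq_iff_eq_mul.2 ck)) ch (by rwa [ph, pk]) (by norm_num) oh, ?_, ?_, ?_,
    rel cσ cu (by rwa [pσ, pu]) (by norm_num) ou, ?_⟩
  · have := P.card_eq
    rw [A.card] at this
    omega
  · rw [← pu]
    refine A.Qker (A.l3.mem_of_trivial fun x hx => (rho_eq_iff P A.es.top u ⟨x, hx⟩).1 ?_)
    rw [c]; rfl
  · simp only [← map_pow, ← map_mul]
    simpa only [← map_pow] using A.rho_ker hz (g := (u * k ^ 2) ^ 3)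
      (by rw [map_pow, map_mul, map_pow, pu, pk, bk3])
      ((Commute.mul_left cu (Commute.pow_left ck 2)).pow_left 3).eq
  · simp only [← map_pow, ← map_mul]
    simpa only [← map_pow] using A.rho_ker hz (g := (u * k) ^ 7)
      (by rw [map_pow, map_mul, pu, pk, bk7]) ((Commute.mul_left cu ck).pow_left 7).eq
  · refine cσ.imp (fun c => cm (mul_inv_eq_iff_eq_mul.1 c)) fun c => ?_
    rw [← map_pow, ← map_mul, ← map_mul, pow_two, ← A.ω_inv, mul_inv_eq_iff_eq_mul.1 c]
  · have := rel (m := 1) cσ ck (by rwa [pσ, pk, pow_one]) (by norm_num) ok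
    rwa [pow_one] at this

theorem build (P : Pres Q ⟨z, A.es.mem⟩ V) {u h k σ : H} (cu : u * ω = ω * u) (ck : k * ω = ω * k)
    (cσ : σ * ω * σ⁻¹ = ω ∨ σ * ω * σ⁻¹ = ω⁻¹) (pu : π u = permOf betaC) (pk : π k = permOf kappaC)
    (pσ : π σ = permOf gammaC) (L : LD P.q (rho P A.es.top ω) (rho P A.es.top u) (rho P A.es.top h)
      (rho P A.es.top k) (rho P A.es.top σ)) {f : V} (f0 : f ≠ 0) (hf : Nm (rho P A.es.top u) f = 0)
    (hh : rho P A.es.top h f = f)
    (hq : rho P A.es.top ω f = (rho P A.es.top u ^ 1) f + ((rho P A.es.top u ^ 3) f +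
      ((rho P A.es.top u ^ 4) f + ((rho P A.es.top u ^ 5) f + (rho P A.es.top u ^ 9) f)))) :
    ∃ m : Md H, m.z = z ∧ m.ω = ω ∧ m.π = π := by
  obtain ⟨D, j, d0, dx, di, ds, dp, dq, ro, ru, rk, rs, ns⟩ := L.main f0 hf hh hq
  obtain ⟨s, s1, s0, sm, sc, si⟩ := exists_sec P A.es.top (MulAut.conjNormal ω) (A.rho_oo P)
  have cσ' : σ * ω * σ⁻¹ = ω⁻¹ := cσ.resolve_left fun c => ns (by
    rw [← map_mul, ← map_mul, mul_inv_eq_iff_eq_mul.1 c])
  have cσ2 : σ * ω ^ j * ω * (σ * ω ^ j)⁻¹ = ω⁻¹ := by rw [← cσ']; group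
  have act : ∀ {g : H} {X : ℕ}, g * ω = ω * g → Rep D (rho P A.es.top g) X → ∀ v, v < 4096 →
      g * (s (D v) : H) * g⁻¹ = s (D (mv X v)) := fun {g X} c r v hv => by
    rw [← r v hv]
    exact congrArg Subtype.val (sc (MulAut.conjNormal g) (by rw [← map_mul, ← map_mul, c]) (D v))
  have zq : ∀ n : ℕ, ((zp (⟨z, A.es.mem⟩ : Q) (n : ZMod 2) : Q) : H) = z ^ n := fun n => by
    rw [zp_cast P.zz]; rfl
  have dec : ∀ x ∈ Q, ∃ v, v < 4096 ∧ ∃ c : ℕ, x = (s (D v) : H) * z ^ c := fun x hx => by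
    obtain ⟨v, hv, e⟩ := ds (P.π ⟨x, hx⟩)
    rcases P.eq_iff'.1 ((s1 _).trans e) with c | c
    · exact ⟨v, hv, 0, by rw [← c, pow_zero, mul_one]⟩
    · exact ⟨v, hv, 1, by rw [pow_one]; exact congrArg Subtype.val c⟩
  refine ⟨{ z := z, ω := ω, u := u, k := k, σ := σ * ω ^ j, s := fun v => s (D v), π := π
            zz := A.es.sq, z1 := A.es.ne_one, ω3 := A.ω_cube
            s_zero := by rw [d0, s0]; rfl
            s_mul := fun v w hv hw => ?_
            s_z := fun v _ => A.zc _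
            s_inj := fun v hv c => di v hv ?_
            ω_z := A.zc _, u_z := A.zc _, k_z := A.zc _, σ_z := A.zc _
            ω_s := act rfl ro, u_s := act cu ru, k_s := act ck rk
            σ_s := fun v hv => ?_
            u_ω := cu, k_ω := ck, σ_ω := cσ2
            π_mul := fun g h _ _ => map_mul π g h
            π_mem := fun g _ => A.range ▸ ⟨g, rfl⟩
            π_s := fun v _ => A.Qker (s (D v)).2
            π_z := A.Qker A.es.mem, π_ω := A.ωker, π_u := pu, π_k := pk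
            π_σ := by rw [map_mul, map_pow, A.ωker, one_pow, mul_one, pσ]
            ker := fun g _ c => ?_
            cent := fun g _ c => A.cent g fun x hx => ?_ }, rfl, rfl, rfl⟩
  · rw [dx, ← zq, ← dp v w hv hw]
    exact congrArg Subtype.val (sm (D v) (D w))
  · rw [← s1 (D v), P.ker]
    exact c.imp Subtype.ext Subtype.ext
  · rw [← zq, ← dq v hv, ← rs v hv, ← map_pow, ← map_mul]
    have e1 : σ * ω ^ j * ω = ω * ω * (σ * ω ^ j) := by
      rw [← A.ω_inv, ← mul_inv_eq_iff_eq_mul, cσ2]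
    have e2 : ω * (σ * ω ^ j) = σ * ω ^ j * (ω * ω) := by
      rw [← A.ω_inv, eq_mul_inv_iff_mul_eq, mul_assoc, e1, ← mul_assoc, ← pow_three, A.ω_cube, one_mul]
    exact congrArg Subtype.val (si (MulAut.conjNormal (σ * ω ^ j))
      (by simp only [← map_mul]; rw [e2]) (by simp only [← map_mul]; rw [e1]) (D v))
  · obtain ⟨x, hx, i, rfl⟩ := A.ker c
    obtain ⟨v, hv, n, rfl⟩ := dec x hx
    exact ⟨v, hv, i, n, by rw [mul_assoc, mul_assoc, (Commute.pow_right (A.zc (ω ^ i)) n).eq]⟩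
  · obtain ⟨v, hv, n, rfl⟩ := dec x hx
    rw [← mul_assoc, c v hv, mul_assoc, mul_assoc, (Commute.pow_right (A.zc g) n).eq]

omit [Q.Normal] in
theorem exists_Md : ∃ m : Md H, m.z = z ∧ zpowers m.ω = zpowers ω ∧ m.π = π := by
  have := A.normal
  obtain ⟨V, _, _, ⟨P⟩⟩ := A.es.top.exists_pres
  obtain ⟨u, h, k, σ, cu, ck, cσ, pu, pk, pσ, L⟩ := A.exists_LD P
  obtain ⟨f, f0, hf, hh, hq | hq⟩ := L.exists_good
  · obtain ⟨m, a, b, c⟩ := A.build P cu ck cσ pu pk pσ L f0 hf hh hq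
    exact ⟨m, a, by rw [b], c⟩
  · have L' := L.swap
    rw [← map_mul] at L' hq
    obtain ⟨m, a, b, c⟩ := A.swap.build P (Commute.mul_right cu cu).eq (Commute.mul_right ck ck).eq
      (cσ.imp (fun c => by rw [← conj_mul, c]) fun c => by rw [← conj_mul, c, mul_inv_rev])
      pu pk pσ L' f0 hf hh hq
    exact ⟨m, a, by rw [b, ← A.ω_inv, zpowers_inv], c⟩

end HD

open Classical in
/-- coordinates in the centraliser give coordinates in the group -/
noncomputable def up {G : Type*} [Group G] {z : G} (m : Md (centralizer ({z} : Set G)))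
    (hz : (m.z : G) = z) : Md G where
  z := z
  ω := m.ω
  u := m.u
  k := m.k
  σ := m.σ
  s v := m.s v
  π g := if h : g ∈ centralizer ({z} : Set G) then m.π ⟨g, h⟩ else 1
  zz := by rw [← hz]; exact congrArg Subtype.val m.zz
  z1 c := m.z1 (Subtype.ext (hz.trans c))
  ω3 := congrArg Subtype.val m.ω3
  s_zero := congrArg Subtype.val m.s_zero
  s_mul v w hv hw := by
    have := congrArg Subtype.val (m.s_mul v w hv hw)
    rwa [Subgroup.coe_mul, Subgroup.coe_mul, Subgroup.coe_pow, hz] at this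
  s_z v _ := mem_centralizer_singleton_iff.1 (m.s v).2
  s_inj v hv c := m.s_inj v hv (c.imp Subtype.ext fun c => Subtype.ext (c.trans hz.symm))
  ω_z := mem_centralizer_singleton_iff.1 m.ω.2
  u_z := mem_centralizer_singleton_iff.1 m.u.2
  k_z := mem_centralizer_singleton_iff.1 m.k.2
  σ_z := mem_centralizer_singleton_iff.1 m.σ.2
  ω_s v hv := congrArg Subtype.val (m.ω_s v hv)
  u_s v hv := congrArg Subtype.val (m.u_s v hv)
  k_s v hv := congrArg Subtype.val (m.k_s v hv)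
  σ_s v hv := by
    have := congrArg Subtype.val (m.σ_s v hv)
    rwa [Subgroup.coe_mul _ (m.s _), Subgroup.coe_pow, hz] at this
  u_ω := congrArg Subtype.val m.u_ω
  k_ω := congrArg Subtype.val m.k_ω
  σ_ω := congrArg Subtype.val m.σ_ω
  π_mul g h hg hh := by
    have hg' := mem_centralizer_singleton_iff.2 hg
    have hh' := mem_centralizer_singleton_iff.2 hh
    rw [dif_pos hg', dif_pos hh', dif_pos (mul_mem hg' hh')]
    exact m.π_mul ⟨g, hg'⟩ ⟨h, hh'⟩ (Subtype.ext (by simpa [hz] using hg))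
      (Subtype.ext (by simpa [hz] using hh))
  π_mem g hg := by
    rw [dif_pos (mem_centralizer_singleton_iff.2 hg)]
    exact m.π_mem _ (Subtype.ext (by simpa [hz] using hg))
  π_s v hv := by rw [dif_pos (m.s v).2]; exact m.π_s v hv
  π_z := by
    rw [dif_pos (mem_centralizer_singleton_iff.2 rfl), ← m.π_z]
    exact congrArg m.π (Subtype.ext hz.symm)
  π_ω := by rw [dif_pos m.ω.2]; exact m.π_ω
  π_u := by rw [dif_pos m.u.2]; exact m.π_u
  π_k := by rw [dif_pos m.k.2]; exact m.π_k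
  π_σ := by rw [dif_pos m.σ.2]; exact m.π_σ
  ker g hg c := by
    rw [dif_pos (mem_centralizer_singleton_iff.2 hg)] at c
    obtain ⟨v, hv, i, j, e⟩ := m.ker _ (Subtype.ext (by simpa [hz] using hg)) c
    refine ⟨v, hv, i, j, ?_⟩
    have := congrArg Subtype.val e
    rwa [Subgroup.coe_mul, Subgroup.coe_mul, Subgroup.coe_pow, Subgroup.coe_pow, hz] at this
  cent g hg c := (m.cent ⟨g, mem_centralizer_singleton_iff.2 hg⟩ (Subtype.ext (by simpa [hz] using hg))
    fun v hv => Subtype.ext (c v hv)).imp (congrArg Subtype.val) fun e =>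
      (congrArg Subtype.val e).trans hz

/-- the core statement: coordinates from the data on the centraliser -/
theorem exists_Md_of_HD {G : Type*} [Group G] [Finite G] {z : G} {z' ω : centralizer ({z} : Set G)}
    (hz : (z' : G) = z) {Q : Subgroup (centralizer ({z} : Set G))}
    {π : centralizer ({z} : Set G) →* Equiv.Perm GolayPt} (A : HD z' ω Q π) :
    ∃ m : Md G, m.z = z ∧ zpowers m.ω = zpowers (ω : G) := by
  obtain ⟨m, a, b, -⟩ := A.exists_Md
  refine ⟨up m (a ▸ hz), rfl, ?_⟩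
  have := congrArg (Subgroup.map (centralizer ({z} : Set G)).subtype) b
  rwa [MonoidHom.map_zpowers, MonoidHom.map_zpowers] at this

theorem eqns_Exists : True := by
  have := @HD.rho.eq_def.{0, 0}
  have := @HD.rho.eq_1.{0, 0}
  have := @up.eq_def.{0}
  have := @up.eq_1.{0}
  trivial

end H31.J4X

namespace H75.J4
open Cfsg H15 H95 Subgroup

theorem exists_Md {G : Type*} [Group G] [Finite G] {z : G} {P : Subgroup G}
    (hJ : IsOfJankoFourTypeWith z P) : ∃ m : Md G, m.z = z ∧ zpowers m.ω = P := by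
  obtain ⟨hz, hE, hc, hcent, ⟨N, hQN, hNH, -, hN, ⟨_, ⟨e⟩⟩, hPN⟩, hP, hfix, -, -⟩ := hJ
  obtain ⟨e2⟩ := MM.M22ext_equiv
  have := Fact.mk Nat.prime_three
  obtain ⟨ω0, hω0⟩ := exists_prime_orderOf_dvd_card' (G := P) 3 (by rw [hP])
  have hω : orderOf (ω0 : G) = 3 := by rw [orderOf_coe, hω0]
  have hωP : zpowers (ω0 : G) = P := eq_of_le_of_card_ge (zpowers_le.2 ω0.2)
    (by rw [hP, Nat.card_zpowers, hω])
  have hQH := hQN.trans hNH
  have es : ES (twoCoreOfCentralizer z) z := ES_of_central hE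
    (hfix.ge (mem_zpowers z)).1 (ne_one_of_orderOf_eq_two hz) fun x hx =>
      mem_centralizer_singleton_iff.1 (hQH hx)
  let π : centralizer ({z} : Set G) →* Equiv.Perm GolayPt :=
    M22ext.subtype.comp ((e.trans e2.symm).toMonoidHom.comp (QuotientGroup.mk' _))
  have hker : π.ker = N.subgroupOf (centralizer ({z} : Set G)) := by
    ext g
    rw [MonoidHom.mem_ker, ← QuotientGroup.eq_one_iff]
    exact (OneMemClass.coe_eq_one (x := (e.trans e2.symm) g)).trans (MulEquiv.map_eq_one_iff _)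
  rw [← hωP]
  refine H31.J4X.exists_Md_of_HD (z' := ⟨z, hQH es.mem⟩) (ω := ⟨ω0, hNH (hPN ω0.2)⟩) rfl
    (Q := (twoCoreOfCentralizer z).subgroupOf _) (π := π)
    ⟨es.subgroupOf hQH, ?_, fun g hg => ?_, ?_, by rw [← orderOf_coe]; exact hω, ?_, ?_, ?_, ?_,
      fun x hx c => ?_⟩
  · rw [twoCoreOfCentralizer, subgroupOf, comap_map_eq_self_of_injective (subtype_injective _)]
    infer_instance
  · have h1 : ∀ x ∈ twoCoreOfCentralizer z, x * g = g * x := fun x hx =>
      congrArg Subtype.val (hg ⟨x, hQH hx⟩ hx)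
    exact (es.nondeg g (hcent ⟨g.2, h1⟩) fun y hy => (h1 y hy).symm).imp Subtype.ext Subtype.ext
  · rw [Nat.card_congr (subgroupOfEquivOfLe hQH).toEquiv, hc]
  · ext y
    constructor
    · rintro ⟨g, rfl⟩; exact ((e.trans e2.symm) g).2
    · intro hy
      obtain ⟨a, ha⟩ := (e.trans e2.symm).surjective ⟨y, hy⟩
      obtain ⟨g, rfl⟩ := QuotientGroup.mk_surjective a
      exact ⟨g, congrArg Subtype.val ha⟩
  · rw [hker]; exact fun x hx => hQN hx
  · rw [← MonoidHom.mem_ker, hker]; exact hPN ω0.2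
  · rw [hker, Nat.card_congr (subgroupOfEquivOfLe hNH).toEquiv, hN, hc]
  · have c' : Commute (x : G) ω0 := congrArg Subtype.val c
    have := hfix.le ⟨hx, fun y hy => by
      rw [← hωP] at hy
      obtain ⟨n, rfl⟩ := hy
      exact (c'.zpow_right n).symm.eq⟩
    exact (es.mem_zpowers.1 this).imp Subtype.ext Subtype.ext

end H75.J4
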