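import Mathlib
import Cfsg.Agent.Lib.J4L.Exists
import Cfsg.Agent.Lib.Core.CoprimeNorm

/-!
# Coordinates `Md` from other forms of the hypothesis on the centraliser
-/

set_option autoImplicit false
set_option maxRecDepth 100000

namespace H31.J4X
open Cfsg H15 H75.J4 H95 Subgroup
open scoped commutatorElement

/-- a central element of order three of the commutator subgroup acting freely -/
theorem nine_dvd {X Ω : Type*} [Group X] [Finite X] [Finite Ω] [MulAction X Ω] {o : X}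
    (ho : o ^ 3 = 1) (hc : ∀ g, g * o = o * g) (hp : o ∈ commutator X) (hf : ∀ w : Ω, o • w ≠ w) :
    9 ∣ Nat.card Ω := by
  classical
  have := Fact.mk Nat.prime_three
  obtain ⟨R, hR⟩ := (show IsPGroup 3 (zpowers o) from
    isPGroup_of_pow 1 fun x ⟨n, hn⟩ => by
      rw [← hn, pow_one, ← zpow_natCast, ← zpow_mul, mul_comm, zpow_mul, zpow_natCast, ho,
        one_zpow]).exists_le_sylow
  have oR : o ∈ (R : Subgroup X) := hR (mem_zpowers o)
  have key : ∀ w : Ω, 9 ∣ (MulAction.stabilizer (R : Subgroup X) w).index := by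
    intro w
    generalize hS : MulAction.stabilizer (R : Subgroup X) w = S
    have hoS : (⟨o, oR⟩ : (R : Subgroup X)) ∉ S := fun c => hf w (by rw [← hS] at c; exact c)
    obtain ⟨k, hk⟩ := R.isPGroup'.index S
    rcases k with _ | _ | k
    · rw [pow_zero, index_eq_one] at hk
      exact absurd (hk ▸ mem_top _) hoS
    · exfalso
      have hN : S.Normal := by
        have h1 : S ⊔ zpowers ⟨o, oR⟩ = ⊤ := by
          have h2 := index_dvd_of_le (le_sup_left : S ≤ S ⊔ zpowers ⟨o, oR⟩)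
          rw [hk, zero_add, pow_one, Nat.dvd_prime Nat.prime_three] at h2
          refine index_eq_one.1 (h2.resolve_right fun c => hoS ?_)
          have h3 := relIndex_mul_index (le_sup_left : S ≤ S ⊔ zpowers ⟨o, oR⟩)
          rw [c, hk, zero_add, pow_one] at h3
          exact relIndex_eq_one.1 (Nat.eq_of_mul_eq_mul_right (by norm_num) (h3.trans (one_mul 3).symm))
            (mem_sup_right (mem_zpowers _))
        rw [← normalizer_eq_top_iff, eq_top_iff, ← h1]
        refine sup_le le_normalizer (zpowers_le.2 (centralizer_le_normalizer _ fun x _ => ?_))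
        exact Subtype.ext (hc x)
      have hA : Nat.card ((R : Subgroup X) ⧸ S) = 3 := by rw [← index_eq_card, hk]; rfl
      have hcyc : IsCyclic ((R : Subgroup X) ⧸ S) := isCyclic_of_prime_card hA
      let _ := IsCyclic.commGroup (α := (R : Subgroup X) ⧸ S)
      have h1 : MonoidHom.transfer (QuotientGroup.mk' S) o = 1 :=
        Abelianization.commutator_subset_ker _ hp
      rw [MonoidHom.transfer_eq_pow _ o fun k g _ => by
        rw [mul_assoc, ← (Commute.pow_right (hc g) k).eq, inv_mul_cancel_left]] at h1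
      have h2 : (QuotientGroup.mk' S ⟨o, oR⟩) ^ (R : Subgroup X).index = 1 := by
        rw [← map_pow]; exact h1
      have h3 : (QuotientGroup.mk' S ⟨o, oR⟩) ^ 3 = 1 := by
        rw [← map_pow, show (⟨o, oR⟩ : (R : Subgroup X)) ^ 3 = 1 from Subtype.ext ho, map_one]
      exact hoS ((QuotientGroup.eq_one_iff _).1 ((pow_eq_one_iff_of_coprime
        ((Nat.Prime.coprime_iff_not_dvd Nat.prime_three).2 R.not_dvd_index)).1 ⟨h3, h2⟩))
    · rw [hk, pow_succ, pow_succ, mul_assoc]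
      exact Dvd.intro_left _ rfl
  have := Fintype.ofFinite (Quotient (MulAction.orbitRel (R : Subgroup X) Ω))
  rw [Nat.card_congr (MulAction.selfEquivSigmaOrbits (R : Subgroup X) Ω), Nat.card_sigma]
  refine Finset.dvd_sum fun q _ => ?_
  rw [Nat.card_congr (MulAction.orbitEquivQuotientStabilizer (R : Subgroup X) q.out)]
  exact key _

section
variable {H : Type*} [Group H] {π : H →* Equiv.Perm GolayPt}

theorem M22_le_map (hr : π.range = M22ext) {S : Subgroup H}
    (hn : ∀ h, π h ∈ Spor.M22 → ∀ g ∈ S, h * g * h⁻¹ ∈ S) {g : H} (hg : g ∈ S)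
    (h0 : π g ∈ Spor.M22) (h1 : π g ≠ 1) : Spor.M22 ≤ S.map π := by
  have := isSimple_M22
  have hN : ((S.map π).subgroupOf Spor.M22).Normal := ⟨by
    rintro ⟨_, hx⟩ ⟨x, hxS, rfl⟩ ⟨y, hy⟩
    obtain ⟨h, rfl⟩ := hr.ge (M22_le_ext hy)
    exact ⟨_, hn h hy x hxS, by simp⟩⟩
  rcases hN.eq_bot_or_eq_top with c | c
  · exact absurd (congrArg Subtype.val (mem_bot.1 (c.le (show (⟨_, h0⟩ : Spor.M22) ∈ _ from
      ⟨g, hg, rfl⟩)))) h1
  · exact subgroupOf_eq_top.1 c

theorem beta_facts : permOf betaC ∈ Spor.M22 ∧ permOf betaC ≠ 1 ∧ permOf betaC ^ 11 = 1 := by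
  have gb : Good Spor.M22 betaC := good_M22 inM24_betaC (by decide +kernel) (by decide +kernel)
  exact ⟨gb.2, permOf_ne_one gb.1 (i := 1) (by norm_num) (by decide +kernel),
    permOf_pow_eq_one gb.1 (by decide +kernel)⟩

theorem ker_dec [Finite H] {ω : H} {Q : Subgroup H} [Q.Normal] (card : Nat.card Q = 2 ^ 13)
    (ω3 : orderOf ω = 3) (Qker : Q ≤ π.ker) (ωker : π ω = 1) (cardker : Nat.card π.ker = 3 * 2 ^ 13)
    {g : H} (hg : π g = 1) : ∃ x ∈ Q, ∃ i : ℕ, g = x * ω ^ i := by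
  have h1 : Q ⊔ zpowers ω ≤ π.ker := sup_le Qker (zpowers_le.2 ωker)
  have h2 : 2 ^ 13 ∣ Nat.card ↥(Q ⊔ zpowers ω) := card ▸ card_dvd_of_le le_sup_left
  have h3 : 3 ∣ Nat.card ↥(Q ⊔ zpowers ω) := by
    rw [← ω3, ← Nat.card_zpowers]; exact card_dvd_of_le le_sup_right
  have h4 := eq_of_le_of_card_ge h1 (cardker ▸ Nat.le_of_dvd Nat.card_pos
    (Nat.Coprime.mul_dvd_of_dvd_of_dvd (by norm_num) h3 h2))
  have h5 : g ∈ Q ⊔ zpowers ω := h4 ▸ hg
  obtain ⟨x, hx, y, hy, rfl⟩ := (mem_sup_iff_of_norm (by rw [normalizer_eq_top]; exact le_top)).1 h5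
  obtain ⟨i, rfl⟩ := (mem_powers_iff_mem_zpowers).2 hy
  exact ⟨x, hx, i, rfl⟩

/-- the element of order three acts without fixed points when the extension `3.M22` is perfect -/
theorem HD_of_perf [Finite H] {z ω : H} {Q : Subgroup H} (es : ES Q z) [Q.Normal]
    (cent : ∀ g, (∀ x ∈ Q, x * g = g * x) → g = 1 ∨ g = z) (card : Nat.card Q = 2 ^ 13)
    (ω3 : orderOf ω = 3) (range : π.range = M22ext) (Qker : Q ≤ π.ker) (ωker : π ω = 1)
    (cardker : Nat.card π.ker = 3 * 2 ^ 13)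
    (cen : ∀ g, π g ∈ Spor.M22 → g * ω * g⁻¹ * ω⁻¹ ∈ Q)
    (perf : Spor.M22.comap π ≤ ⁅Spor.M22.comap π, Spor.M22.comap π⁆ ⊔ Q) : HD z ω Q π := by
  refine ⟨es, inferInstance, cent, card, ω3, range, Qker, ωker, cardker, ?_⟩
  obtain ⟨V, _, _, ⟨P⟩⟩ := es.top.exists_pres
  have l3 : L3 Q z := ⟨es, cent, fun g _ => by rw [normalizer_eq_top]; trivial⟩
  have hV : Nat.card V = 4096 := by have := P.card_eq; omega
  have := Nat.finite_of_card_ne_zero (α := V) (by omega)
  have hπ := HD.rho_eq_iff P es.top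
  generalize HD.rho P es.top = ρ at hπ
  have rQ : ∀ x ∈ Q, ρ x = 1 := fun x hx => LinearEquiv.ext fun v => by
    obtain ⟨y, rfl⟩ := P.surj v
    exact (hπ x y).2 (es.conj y.2 hx)
  have ω3' : ω ^ 3 = 1 := by rw [← ω3, pow_orderOf_eq_one]
  have o3 : ρ ω ^ 3 = 1 := by rw [← map_pow, ω3', map_one]
  have o1 : ρ ω ≠ 1 := fun c => by
    have h1 : ω ∈ Q := l3.mem_of_trivial fun x hx => (hπ ω ⟨x, hx⟩).1 (by rw [c]; rfl)
    have h2 := orderOf_dvd_of_pow_eq_one (es.pow_four h1)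
    rw [ω3] at h2
    omega
  have rk : ∀ g, π g = 1 → ∃ i : ℕ, ρ g = ρ ω ^ i := fun g hg => by
    obtain ⟨x, hx, i, rfl⟩ := ker_dec card ω3 Qker ωker cardker hg
    exact ⟨i, by rw [map_mul, rQ x hx, one_mul, map_pow]⟩
  have co : ∀ g, π g ∈ Spor.M22 → ρ g * ρ ω = ρ ω * ρ g := fun g hg => by
    have := rQ _ (cen g hg)
    rwa [map_mul, map_mul, map_mul, map_inv, map_inv, mul_inv_eq_one, mul_inv_eq_iff_eq_mul] at this
  have ωM : π ω ∈ Spor.M22 := ωker ▸ one_mem _
  generalize ho : ρ ω = o at o3 o1 rk co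
  have ooo : ∀ v, o (o (o v)) = v := fun v => by
    rw [← LinearEquiv.mul_apply, ← LinearEquiv.mul_apply, ← pow_three', o3]; rfl
  let U : AddSubgroup V :=
    { carrier := {v | v + o v + o (o v) = 0}
      zero_mem' := by simp
      add_mem' := fun {a b} ha hb => by
        have ha' : a + o a + o (o a) = 0 := ha
        have hb' : b + o b + o (o b) = 0 := hb
        show a + b + o (a + b) + o (o (a + b)) = 0
        rw [map_add, map_add, ← add_zero (0 : V)]
        nth_rewrite 1 [← ha', ← hb']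
        abel
      neg_mem' := fun {a} ha => by rwa [vec2_neg] }
  have mU : ∀ v, v ∈ U ↔ v + o v + o (o v) = 0 := fun v => Iff.rfl
  have Uinv : ∀ φ : V ≃ₗ[ZMod 2] V, φ * o = o * φ → ∀ v ∈ U, φ v ∈ U := fun φ c v hv => by
    rw [mU, ← app c, ← app c, ← map_add, ← map_add, (mU v).1 hv, map_zero]
  have Ufix : ∀ v ∈ U, o v = v → v = 0 := fun v hv c => by
    have := (mU v).1 hv
    rwa [c, c, vec2_add_self, zero_add] at this
  -- the action on the nonzero vectors of `U`
  have h9 : 9 ∣ (U : Set V).ncard - 1 := by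
    let X := (Spor.M22.comap π).map ρ
    have cX : ∀ g : X, (g : V ≃ₗ[ZMod 2] V) * o = o * g := by
      rintro ⟨_, g, hg, rfl⟩; exact co g hg
    let _ : MulAction X {v // v ∈ U ∧ v ≠ 0} :=
      { smul := fun g v => ⟨g.1 v.1, Uinv _ (cX g) _ v.2.1, fun c => v.2.2 ((map_eq_zero_iff _ g.1.injective).1 c)⟩
        one_smul := fun v => rfl
        mul_smul := fun g h v => rfl }
    have oX : o ∈ X := ⟨ω, ωM, ho⟩
    have : Finite X := Finite.of_surjective _ (ρ.subgroupMap_surjective _)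
    have hp : (⟨o, oX⟩ : X) ∈ commutator X := by
      have h1 : X ≤ ⁅X, X⁆ := by
        refine (map_mono perf).trans ?_
        rw [Subgroup.map_sup, map_commutator]
        refine sup_le le_rfl ?_
        rintro _ ⟨x, hx, rfl⟩
        rw [rQ x hx]; exact one_mem _
      have h2 := h1 oX
      rw [← map_subtype_commutator] at h2
      obtain ⟨y, hy, e⟩ := h2
      rwa [← show y = ⟨o, oX⟩ from Subtype.ext e]
    have h1 := nine_dvd (Ω := {v // v ∈ U ∧ v ≠ 0}) (o := (⟨o, oX⟩ : X)) (Subtype.ext o3)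
      (fun g => Subtype.ext (cX g)) hp fun w c => w.2.2 (Ufix _ w.2.1 (congrArg Subtype.val c))
    rwa [← Set.ncard_sdiff_singleton_of_mem (show (0 : V) ∈ (U : Set V) from U.zero_mem),
      ← Nat.card_coe_set_eq]
  obtain ⟨a, ha, hU⟩ := ncard_pow hV U
  have hU0 : U ≠ ⊥ := fun c => o1 (LinearEquiv.ext fun v => by
    have h1 : v + o v ∈ U := by
      rw [mU, map_add, map_add, ooo]
      calc _ = (v + v) + (o v + o v) + (o (o v) + o (o v)) := by abel
        _ = 0 := by simp only [vec2_add_self]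
    rw [c, AddSubgroup.mem_bot, add_eq_zero_iff_eq_neg, vec2_neg] at h1
    exact h1.symm)
  have ha' : a = 0 ∨ a = 6 ∨ a = 12 := by
    rw [hU] at h9
    interval_cases a <;> simp at h9 ⊢
  rcases ha' with rfl | rfl | rfl
  · exact absurd (AddSubgroup.eq_bot_of_card_eq U (by rw [← Nat.card_coe_set_eq] at hU; exact hU)) hU0
  · exfalso
    let J : Subgroup H :=
      { carrier := {g | ∀ v ∈ U, ρ g v = v}
        one_mem' := fun v _ => by rw [map_one]; rfl
        mul_mem' := fun {a b} ha hb v hv => by rw [map_mul, LinearEquiv.mul_apply, hb v hv, ha v hv]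
        inv_mem' := fun {a} ha v hv => by
          rw [← ha v hv, ← LinearEquiv.mul_apply, ← map_mul, inv_mul_cancel, map_one, ha v hv]; rfl }
    obtain ⟨b0, b1, b11⟩ := beta_facts
    obtain ⟨u0, hu0⟩ := range.ge (M22_le_ext b0)
    have pu : π (u0 ^ 12) = permOf betaC := by rw [map_pow, hu0, pow_succ, b11, one_mul]
    have ru : ρ (u0 ^ 12) ^ 11 = 1 := by
      obtain ⟨i, hi⟩ := rk (u0 ^ 11) (by rw [map_pow, hu0, b11])
      rw [← map_pow, ← pow_mul, mul_comm, pow_mul, map_pow, hi, ← pow_mul,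
        show i * 12 = 3 * (i * 4) by ring, pow_mul, o3, one_pow]
    have uJ : u0 ^ 12 ∈ J := by
      have h1 := ncard_modEq (A := (U : Set V)) (by norm_num) ru (Uinv _ (co _ (pu ▸ b0)))
      let F : AddSubgroup V := U ⊓ (LinearMap.eqLocus (ρ (u0 ^ 12)).toLinearMap LinearMap.id).toAddSubgroup
      obtain ⟨b, hb, hF⟩ := ncard_pow hV F
      have h2 : (F : Set V) ⊆ U := fun v hv => hv.1
      have h3 := Set.ncard_le_ncard h2
      rw [show {v | v ∈ (U : Set V) ∧ ρ (u0 ^ 12) v = v} = (F : Set V) from rfl, hU, hF] at h1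
      rw [hU, hF] at h3
      have h4 : b = 6 := by interval_cases b <;> first | rfl | omega | exact absurd h1 (by decide)
      have h5 := Set.eq_of_subset_of_ncard_le h2 (by rw [hU, hF, h4])
      exact fun v hv => (h5.ge hv).2
    have hM := M22_le_map range (S := J) (fun h hh g hg v hv => by
      rw [map_mul, map_mul, LinearEquiv.mul_apply, LinearEquiv.mul_apply,
        hg _ (Uinv _ (co _ (by rw [map_inv]; exact inv_mem hh)) v hv), ← LinearEquiv.mul_apply,
        ← map_mul, mul_inv_cancel, map_one]; rfl) uJ (pu ▸ b0) (pu ▸ b1)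
    have act : ∀ g, π g ∈ Spor.M22 → ∃ i : ℕ, ∀ v ∈ U, ρ g v = (o ^ i) v := fun g hg => by
      obtain ⟨j, hj, e⟩ := hM hg
      obtain ⟨i, hi⟩ := rk (g * j⁻¹) (by rw [map_mul, map_inv, e, mul_inv_cancel])
      refine ⟨i, fun v hv => ?_⟩
      rw [← hi, map_mul, LinearEquiv.mul_apply, J.inv_mem hj v hv]
    have hJ : ω ∈ J := by
      refine (sup_le (commutator_le.2 fun g hg h hh v hv => ?_) fun x hx v _ => ?_) (perf ωM)
      · obtain ⟨i, hi⟩ := act h hh
        have h1 := Uinv _ (co _ ((Spor.M22.comap π).inv_mem ((Spor.M22.comap π).mul_mem hh hg))) v hv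
        have h2 : ∀ w ∈ U, ρ (g * h) w = ρ (h * g) w := fun w hw => by
          rw [map_mul, map_mul, LinearEquiv.mul_apply, LinearEquiv.mul_apply, hi w hw,
            hi _ (Uinv _ (co g hg) w hw)]
          exact app (Commute.pow_right (co g hg) i).eq w
        rw [show ⁅g, h⁆ = g * h * (h * g)⁻¹ by rw [commutatorElement_def]; group, map_mul,
          LinearEquiv.mul_apply, h2 _ h1, ← LinearEquiv.mul_apply, ← map_mul, mul_inv_cancel, map_one]
        rfl
      · rw [rQ x hx]; rfl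
    exact hU0 ((AddSubgroup.eq_bot_iff_forall U).2 fun v hv => Ufix v hv (ho ▸ hJ v hv))
  · intro x hx c
    have h1 : (U : Set V) = Set.univ := Set.eq_of_subset_of_ncard_le (Set.subset_univ _)
      (by rw [hU, Set.ncard_univ, hV]; rfl)
    have h2 := Ufix (P.π ⟨x, hx⟩) (h1.ge trivial) (ho ▸ (hπ ω ⟨x, hx⟩).2 (Or.inl
      (mul_inv_eq_iff_eq_mul.2 c.symm)))
    exact ((P.ker _).1 h2).imp (congrArg Subtype.val) (congrArg Subtype.val)

theorem exists_ω [Finite H] (cardker : Nat.card π.ker = 3 * 2 ^ 13) :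
    ∃ ω : H, orderOf ω = 3 ∧ π ω = 1 := by
  have := Fact.mk Nat.prime_three
  obtain ⟨ω, h⟩ := exists_prime_orderOf_dvd_card' (G := π.ker) 3 (by rw [cardker]; decide)
  exact ⟨ω, by rw [orderOf_coe, h], ω.2⟩

end

theorem cent_of {H : Type*} [Group H] {z : H} {Q : Subgroup H} (hz : orderOf z = 2)
    (hzc : ∀ g, g * z = z * g) (hQ : IsExtraspecial 2 Q) (h2c : centralizer (Q : Set H) ≤ Q) :
    ES Q z ∧ ∀ g, (∀ x ∈ Q, x * g = g * x) → g = 1 ∨ g = z := by
  have es := ES_of_central hQ (h2c fun x _ => hzc x) (ne_one_of_orderOf_eq_two hz) fun x _ => hzc x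
  exact ⟨es, fun g hg => es.nondeg g (h2c hg) fun y hy => (hg y hy).symm⟩

/-- the hypotheses of S1646 and S1670 -/
theorem HD_1646 {H : Type*} [Group H] [Finite H] {z : H} (hz : orderOf z = 2)
    (hzc : ∀ g, g * z = z * g) (Q N M : Subgroup H) [Q.Normal] [N.Normal] [M.Normal] (hQN : Q ≤ N)
    (hNM : N ≤ M) (hM : M.index = 2) (hQ : IsExtraspecial 2 Q) (hcard : Nat.card Q = 2 ^ 13)
    (hN : Nat.card N = 3 * Nat.card Q) (hcent : ⁅M, N⁆ ≤ Q) (hperf : M ≤ ⁅M, M⁆ ⊔ Q)
    (h2c : centralizer (Q : Set H) ≤ Q) (hout : ∀ c : H, (∀ m ∈ M, c * m * c⁻¹ * m⁻¹ ∈ N) → c ∈ M)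
    (hM22 : Spor.IsoM22 (M ⧸ N.subgroupOf M)) : ∃ ω π, HD z ω Q π := by
  obtain ⟨e⟩ := hM22
  obtain ⟨es, cent⟩ := cent_of hz hzc hQ h2c
  let c : H →* MulAut (M ⧸ N.subgroupOf M) := H2.quotAut MulAut.conjNormal _ fun a x hx =>
    Normal.conj_mem inferInstance (H := N) _ hx a
  let f : M →* Equiv.Perm GolayPt :=
    Spor.M22.subtype.comp (e.toMonoidHom.comp (QuotientGroup.mk' _))
  have fm : ∀ m, f m ∈ Spor.M22 := fun m => (e m).2
  have fs : ∀ y ∈ Spor.M22, ∃ m, f m = y := fun y hy => by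
    obtain ⟨a, ha⟩ := e.surjective ⟨y, hy⟩
    obtain ⟨m, rfl⟩ := QuotientGroup.mk_surjective a
    exact ⟨m, congrArg Subtype.val ha⟩
  have fk : ∀ m : M, f m = 1 ↔ (m : H) ∈ N := fun m =>
    ((OneMemClass.coe_eq_one (x := e m)).trans (MulEquiv.map_eq_one_iff _)).trans
      (QuotientGroup.eq_one_iff _)
  have ex : ∀ h : H, ∃ s ∈ M22ext, ∀ m : M, f (MulAut.conjNormal h m) = s * f m * s⁻¹ := fun h => by
    obtain ⟨s, hs, h1⟩ := aut_M22 ((e.symm.trans (c h)).trans e)
    refine ⟨s, hs, fun m => Eq.trans ?_ (h1 (e m))⟩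
    rw [MulEquiv.trans_apply, MulEquiv.trans_apply, e.symm_apply_apply]
    rfl
  have uq : ∀ s ∈ M22ext, ∀ s' ∈ M22ext, (∀ m : M, s * f m * s⁻¹ = s' * f m * s'⁻¹) → s = s' :=
    fun s hs s' hs' h => by
      have h1 : ∀ y ∈ Spor.M22, s'⁻¹ * s * y = y * (s'⁻¹ * s) := fun y hy => by
        obtain ⟨m, rfl⟩ := fs y hy
        rw [mul_assoc, mul_inv_eq_iff_eq_mul.1 (h m)]; group
      exact (inv_mul_eq_one.1 (eq_one_of_comm_beta_delta (M22ext_le_M24 (mul_mem (inv_mem hs') hs))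
        (h1 _ beta_facts.1)
        (h1 _ (good_M22 inM24_deltaC (by decide +kernel) (by decide +kernel)).2))).symm
  choose p pm hp using ex
  let π : H →* Equiv.Perm GolayPt := MonoidHom.mk' p fun a b =>
    uq _ (pm _) _ (mul_mem (pm a) (pm b)) fun m => by
      rw [← hp, map_mul, MulAut.mul_apply, hp, hp]; group
  have pM : ∀ m : M, π m = f m := fun m => uq _ (pm _) _ (M22_le_ext (fm m)) fun x => by
    rw [← hp, ← map_inv, ← map_mul, ← map_mul]; rfl
  have k1 : ∀ h, π h = 1 → h ∈ M := fun h hh => hout h fun m hm => by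
    have := hp h ⟨m, hm⟩
    rw [show p h = 1 from hh, one_mul, inv_one, mul_one, ← mul_inv_eq_one, ← map_inv, ← map_mul,
      fk] at this
    exact this
  have hker : π.ker = N := by
    ext h
    exact ⟨fun hh => (fk ⟨h, k1 h hh⟩).1 ((pM ⟨h, k1 h hh⟩).symm.trans hh),
      fun hh => (pM ⟨h, hNM hh⟩).trans ((fk ⟨h, hNM hh⟩).2 hh)⟩
  have hcomap : Spor.M22.comap π = M := by
    ext h
    refine ⟨fun hh => ?_, fun hh => mem_comap.2 ((pM ⟨h, hh⟩).symm ▸ fm ⟨h, hh⟩ :)⟩
    obtain ⟨m, hm⟩ := fs _ hh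
    have := k1 (h * (m : H)⁻¹) (by rw [map_mul, map_inv, pM, hm, mul_inv_cancel])
    exact (mul_mem_cancel_right (inv_mem m.2)).1 this
  have hr : π.range = M22ext := by
    refine eq_of_le_of_card_ge (by rintro _ ⟨h, rfl⟩; exact pm h) ?_
    have h1 := relIndex_mul_index hNM
    rw [hM, relIndex, index_eq_card, Nat.card_congr e.toEquiv, card_M22, ← hker, index_ker] at h1
    rw [← h1, card_M22ext]
  have ck : Nat.card π.ker = 3 * 2 ^ 13 := by rw [hker, hN, hcard]
  obtain ⟨ω, ω3, ωk⟩ := exists_ω ck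
  refine ⟨ω, π, HD_of_perf es cent hcard ω3 hr (hker ▸ hQN) ωk ck (fun g hg => ?_) (hcomap ▸ hperf)⟩
  exact hcent (commutator_mem_commutator (hcomap.le hg) (hker.le ωk))

/-- the hypotheses of S5585 -/
theorem HD_5585 {H : Type*} [Group H] [Finite H] {z : H} (hz : orderOf z = 2)
    (hzc : ∀ g, g * z = z * g) (Q N : Subgroup H) [Q.Normal] [N.Normal] (hQN : Q ≤ N)
    (hQ : IsExtraspecial 2 Q) (hcard : Nat.card Q = 2 ^ 13) (hN : Nat.card N = 3 * Nat.card Q)
    (h2c : centralizer (Q : Set H) ≤ Q) (hns : ∀ K : Subgroup H, K ⊓ N = Q → K ⊔ N = ⊤ → False)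
    (hAut : Nonempty (H ⧸ N ≃* MulAut Spor.M22)) : ∃ ω π, HD z ω Q π := by
  obtain ⟨e⟩ := hAut
  obtain ⟨e2⟩ := MM.M22ext_equiv
  obtain ⟨es, cent⟩ := cent_of hz hzc hQ h2c
  let π : H →* Equiv.Perm GolayPt :=
    M22ext.subtype.comp ((e.trans e2.symm).toMonoidHom.comp (QuotientGroup.mk' _))
  have hker : π.ker = N := by
    ext g
    rw [MonoidHom.mem_ker, ← QuotientGroup.eq_one_iff]
    exact (OneMemClass.coe_eq_one (x := (e.trans e2.symm) g)).trans (MulEquiv.map_eq_one_iff _)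
  have hr : π.range = M22ext := by
    ext y
    constructor
    · rintro ⟨g, rfl⟩; exact ((e.trans e2.symm) g).2
    · intro hy
      obtain ⟨a, ha⟩ := (e.trans e2.symm).surjective ⟨y, hy⟩
      obtain ⟨g, rfl⟩ := QuotientGroup.mk_surjective a
      exact ⟨g, congrArg Subtype.val ha⟩
  have ck : Nat.card π.ker = 3 * 2 ^ 13 := by rw [hker, hN, hcard]
  clear_value π
  subst hker
  obtain ⟨ω, ω3, ωk⟩ := exists_ω ck
  have kd := fun {g} => ker_dec hcard ω3 hQN ωk ck (g := g)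
  have ω3' : ω ^ 3 = 1 := by rw [← ω3, pow_orderOf_eq_one]
  obtain ⟨b0, b1, b11⟩ := beta_facts
  obtain ⟨u, hu⟩ := hr.ge (M22_le_ext b0)
  refine ⟨ω, π, HD_of_perf es cent hcard ω3 hr hQN ωk ck (fun g hg => ?_) ?_⟩
  · let φ := QuotientGroup.mk' Q
    let C := (centralizer ({φ ω} : Set (H ⧸ Q))).comap φ
    have mC : ∀ g, g ∈ C ↔ φ g * φ ω * (φ g)⁻¹ = φ ω := fun g =>
      mem_centralizer_singleton_iff.trans mul_inv_eq_iff_eq_mul.symm
    have pk : ∀ g, π g = 1 → ∃ i : ℕ, φ g = φ ω ^ i := fun g hg => by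
      obtain ⟨x, hx, i, rfl⟩ := kd hg
      exact ⟨i, by rw [map_mul, map_pow, show φ x = 1 from (QuotientGroup.eq_one_iff x).2 hx, one_mul]⟩
    have p3 : φ ω ^ 3 = 1 := by rw [← map_pow, ω3', map_one]
    have cj : ∀ g, ∃ i : ℕ, φ g * φ ω * (φ g)⁻¹ = φ ω ^ i := fun g => by
      rw [← map_inv, ← map_mul, ← map_mul]
      exact pk _ (by rw [map_mul, map_mul, ωk, mul_one, map_inv, mul_inv_cancel])
    have hsq : u * u ∈ C := by
      obtain ⟨i, hi⟩ := cj u
      have h1 : φ (u * u) * φ ω * (φ (u * u))⁻¹ = φ ω ^ (i * i) := by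
        rw [pow_mul, ← hi, conj_pow, ← hi, map_mul]; group
      rw [mC, h1, pow_eq_pow_mod _ p3, Nat.mul_mod]
      rw [pow_eq_pow_mod _ p3] at hi
      have : i % 3 < 3 := Nat.mod_lt _ (by norm_num)
      generalize i % 3 = j at *
      interval_cases j
      · rw [pow_zero, conj_eq_one_iff] at hi; rw [hi, one_pow]
      · exact pow_one _
      · exact pow_one _
    have hM := M22_le_map hr (S := C) (fun h _ g hg => by
      obtain ⟨i, hi⟩ := cj h⁻¹
      have h1 : φ g * φ ω ^ i * (φ g)⁻¹ = φ ω ^ i := by rw [← conj_pow, (mC g).1 hg]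
      rw [← hi, map_inv] at h1
      rw [mC, map_mul, map_mul, map_inv]
      calc _ = φ h * (φ g * ((φ h)⁻¹ * φ ω * (φ h)⁻¹⁻¹) * (φ g)⁻¹) * (φ h)⁻¹ := by group
        _ = _ := by rw [h1]; group) (pow_mem hsq 6)
      (by rw [map_pow, map_mul, hu]; exact pow_mem (mul_mem b0 b0) 6)
      (by rwa [map_pow, map_mul, hu, ← pow_two, ← pow_mul, show 2 * 6 = 11 + 1 from rfl, pow_succ, b11,
        one_mul])
    obtain ⟨c, hc, e⟩ := hM hg
    obtain ⟨i, hi⟩ := pk (g * c⁻¹) (by rw [map_mul, map_inv, e, mul_inv_cancel])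
    rw [map_mul, map_inv, mul_inv_eq_iff_eq_mul] at hi
    rw [← QuotientGroup.eq_one_iff]
    show φ _ = 1
    rw [map_mul, map_mul, map_mul, map_inv, map_inv, hi, mul_inv_eq_one]
    calc _ = φ ω ^ i * (φ c * φ ω * (φ c)⁻¹) * (φ ω ^ i)⁻¹ := by group
      _ = _ := by rw [(mC c).1 hc]; group
  · have hMn : (Spor.M22.comap π).Normal := ⟨fun x hx g => by
      rw [mem_comap, map_mul, map_mul, map_inv]
      exact M22ext_normalizes _ (hr.le ⟨g, rfl⟩) _ hx⟩
    generalize hD : ⁅Spor.M22.comap π, Spor.M22.comap π⁆ ⊔ Q = D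
    have hDn : D.Normal := hD ▸ inferInstance
    have QD : Q ≤ D := hD ▸ le_sup_right
    have DM : D ≤ Spor.M22.comap π := hD ▸ sup_le (commutator_le_right _ _) fun x hx => by
      rw [mem_comap, show π x = 1 from hQN hx]; exact one_mem _
    have gd : Good Spor.M22 deltaC := good_M22 inM24_deltaC (by decide +kernel) (by decide +kernel)
    obtain ⟨d, hd⟩ := hr.ge (M22_le_ext gd.2)
    have hc : ⁅d, u⁆ ∈ D := hD ▸ mem_sup_left (commutator_mem_commutator
      (show π d ∈ _ from hd ▸ gd.2) (show π u ∈ _ from hu ▸ b0))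
    have hM := M22_le_map hr (S := D) (fun h _ g hg => hDn.conj_mem g hg h) hc (DM hc) (by
      rw [map_commutatorElement, hd, hu, Ne, commutatorElement_eq_one_iff_mul_comm,
        ← mulP_eq_iff gd.1 (okP_of_inM24 inM24_betaC) (okP_of_inM24 inM24_betaC) gd.1]
      decide +kernel)
    have key : ω ∈ D := by
      by_contra hω
      have gg : Good M22ext gammaC := gensX_good _ (by simp)
      have g2 : permOf gammaC ^ 2 = 1 := permOf_pow_eq_one gg.1 (by decide +kernel)
      have g0 : permOf gammaC ∉ Spor.M22 := fun c => absurd ((out_eq_zero gg.1).2 (mem_M22.1 c).2.2)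
        (by decide +kernel)
      obtain ⟨g, hg⟩ := hr.ge gg.2
      have DN : ∀ x ∈ D, π x = 1 → x ∈ Q := fun x hx h1 => by
        obtain ⟨y, hy, i, rfl⟩ := kd h1
        have h2 := (mul_mem_cancel_left (QD hy)).1 hx
        rw [pow_eq_pow_mod _ ω3'] at h2 ⊢
        have : i % 3 < 3 := Nat.mod_lt _ (by norm_num)
        generalize i % 3 = j at *
        interval_cases j
        · simpa using hy
        · exact absurd (pow_one ω ▸ h2) hω
        · refine absurd ?_ hω
          have := pow_mem h2 2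
          rwa [← pow_mul, show 2 * 2 = 3 + 1 from rfl, pow_succ, ω3', one_mul] at this
      have s1 : π (g ^ 3) = permOf gammaC := by rw [map_pow, hg, pow_succ, g2, one_mul]
      have s2 : (g ^ 3) ^ 2 ∈ Q := by
        obtain ⟨y, hy, i, e⟩ := kd (g := g ^ 2) (by rw [map_pow, hg, g2])
        rw [← pow_mul, mul_comm, pow_mul, e, ← QuotientGroup.eq_one_iff, QuotientGroup.mk_pow,
          QuotientGroup.mk_mul, (QuotientGroup.eq_one_iff y).2 hy, one_mul, ← QuotientGroup.mk_pow,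
          ← pow_mul, mul_comm, pow_mul, ω3', one_pow, QuotientGroup.mk_one]
      generalize g ^ 3 = σ at s1 s2
      refine hns (D ⊔ zpowers σ) (le_antisymm ?_ (le_inf (QD.trans le_sup_left) hQN)) ?_
      · rintro x ⟨hx, hx'⟩
        obtain ⟨a, ha, _, ⟨n, rfl⟩, rfl⟩ :=
          (mem_sup_iff_of_norm (by rw [normalizer_eq_top]; exact le_top)).1 hx
        obtain ⟨k, rfl | rfl⟩ := Int.even_or_odd' n
        · refine DN _ (mul_mem ha (QD ?_)) hx'
          show σ ^ (2 * k) ∈ Q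
          rw [zpow_mul]; exact zpow_mem (by rw [zpow_ofNat]; exact s2) k
        · refine absurd ?_ g0
          have h1 : π (a * σ ^ (2 * k + 1)) = 1 := hx'
          rw [map_mul, map_zpow, s1, zpow_add, zpow_mul, zpow_ofNat, g2, one_zpow, one_mul, zpow_one,
            mul_eq_one_iff_inv_eq] at h1
          exact h1 ▸ inv_mem (DM ha)
      · rw [eq_top_iff]
        intro x _
        have h1 : π x ∈ (D ⊔ zpowers σ).map π := by
          have h2 := hM.trans (map_mono (le_sup_left : D ≤ D ⊔ zpowers σ))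
          refine M22ext_le (h2 b0) (h2 (good_M22 inM24_kappaC (by decide +kernel) (by decide +kernel)).2)
            ⟨σ, mem_sup_right (mem_zpowers σ), s1⟩ (hr.le ⟨x, rfl⟩)
        obtain ⟨y, hy, e⟩ := h1
        rw [← mul_inv_cancel_left y x]
        exact mul_mem (mem_sup_left hy) (mem_sup_right (show π _ = 1 by
          rw [map_mul, map_inv, e, inv_mul_cancel]))
    intro g hg
    obtain ⟨c, hc, e⟩ := hM hg
    obtain ⟨y, hy, i, e'⟩ := kd (g := g * c⁻¹) (by rw [map_mul, map_inv, e, mul_inv_cancel])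
    rw [mul_inv_eq_iff_eq_mul.1 e']
    exact mul_mem (mul_mem (QD hy) (pow_mem key i)) hc

end H31.J4X

namespace H75.J4
open Cfsg Subgroup

/-- coordinates from the hypotheses of S1646 and S1670 -/
theorem exists_Md_1646 {G : Type*} [Group G] [Finite G] (t : G) (ht : orderOf t = 2)
    (Q N M : Subgroup (centralizer ({t} : Set G))) [Q.Normal] [N.Normal] [M.Normal] (hQN : Q ≤ N)
    (hNM : N ≤ M) (hM : M.index = 2) (hQ : IsExtraspecial 2 Q) (hcard : Nat.card Q = 2 ^ 13)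
    (hN : Nat.card N = 3 * Nat.card Q) (hcent : ⁅M, N⁆ ≤ Q) (hperf : M ≤ ⁅M, M⁆ ⊔ Q)
    (h2c : centralizer (Q : Set (centralizer ({t} : Set G))) ≤ Q)
    (hout : ∀ c : centralizer ({t} : Set G), (∀ m ∈ M, c * m * c⁻¹ * m⁻¹ ∈ N) → c ∈ M)
    (hM22 : Spor.IsoM22 (M ⧸ N.subgroupOf M)) : ∃ m : Md G, m.z = t := by
  obtain ⟨ω, π, A⟩ := H31.J4X.HD_1646 (z := ⟨t, mem_centralizer_singleton_iff.2 rfl⟩)
    (by rw [← orderOf_coe]; exact ht) (fun g => Subtype.ext (mem_centralizer_singleton_iff.1 g.2))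
    Q N M hQN hNM hM hQ hcard hN hcent hperf h2c hout hM22
  obtain ⟨m, h, -⟩ := H31.J4X.exists_Md_of_HD rfl A
  exact ⟨m, h⟩

/-- coordinates from the hypotheses of S5585 -/
theorem exists_Md_5585 {G : Type*} [Group G] [Finite G] (t : G) (ht : orderOf t = 2)
    (Q N : Subgroup (centralizer ({t} : Set G))) [Q.Normal] [N.Normal] (hQN : Q ≤ N)
    (hQ : IsExtraspecial 2 Q) (hcard : Nat.card Q = 2 ^ 13) (hN : Nat.card N = 3 * Nat.card Q)
    (h2c : centralizer (Q : Set (centralizer ({t} : Set G))) ≤ Q)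
    (hns : ∀ K : Subgroup (centralizer ({t} : Set G)), K ⊓ N = Q → K ⊔ N = ⊤ → False)
    (hAut : Nonempty (centralizer ({t} : Set G) ⧸ N ≃* MulAut Spor.M22)) : ∃ m : Md G, m.z = t := by
  obtain ⟨ω, π, A⟩ := H31.J4X.HD_5585 (z := ⟨t, mem_centralizer_singleton_iff.2 rfl⟩)
    (by rw [← orderOf_coe]; exact ht) (fun g => Subtype.ext (mem_centralizer_singleton_iff.1 g.2))
    Q N hQN hQ hcard hN h2c hns hAut
  obtain ⟨m, h, -⟩ := H31.J4X.exists_Md_of_HD rfl A
  exact ⟨m, h⟩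

end H75.J4
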