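import Mathlib
import Cfsg.Agent.Lib.J4L.Gen
import Cfsg.Agent.Lib.Core.Frattini

/-!
# The normaliser `2^{3+12}.(S5 × L3(2))` of a pure eight-group
-/

set_option autoImplicit false
set_option maxRecDepth 100000

namespace H75.J4
open Cfsg H15 H96.Geo Subgroup
open H54 (band band_eq_true bimp bimp_eq_true bor bor_eq_true allL allL_iff anyL anyL_iff nth cntLt cntLt_eq tb tb_eq sel sel_eq)
open scoped Pointwise commutatorElement

noncomputable def chD_6 : H54.Chain := .nil
noncomputable def chD_t5 : H54.Tr :=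
 (.leaf 0x12000000000012)
noncomputable def chD_5 : H54.Chain := .cons 18 262144 chD_t5
  []
  [] chD_6
noncomputable def chD_t4 : H54.Tr :=
 (.leaf 0x13000000000013)
noncomputable def chD_4 : H54.Chain := .cons 19 524288 chD_t4
  []
  [] chD_5
noncomputable def chD_t3 : H54.Tr :=
 (.node 0 (.leaf 0x840088040002504844280504000000420000008104aa000016080000000100000017)
 (.leaf 0x17000000000017))
noncomputable def chD_3 : H54.Chain := .cons 23 0x800001 chD_t3
  [0x5ab44ca111b8ec11268694ca7ac37]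
  [] chD_4
noncomputable def chD_t2 : H54.Tr :=
 (.node 13 (.node 7 (.node 2 (.leaf 0x10000008850010a4210c011800010020000412080002102432400000002000101000014)
 (.leaf 0x21040001885401080218c609cd00104a2000412080412180070182a80007000100000014))
 (.node 11 (.leaf 0x200484200c4001280218021900001048204250080040210246110060000b000200000007)
 (.leaf 0x1040409004420024248c238c904004a201000200005048a00251688000d000201000007)))
 (.node 20 (.node 18 (.leaf 0x2010880000000210200488038800400482040002000042482040016400012000202000007)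
 (.leaf 0x14000000000014))
 (.node 24 (.leaf 0x21040001885401080218c609cd00104a2000412080412180070182a80018000000000000)
 (.node 25 (.leaf 0x10000008850010a4210c011800010020000412080002102432400000019000000000000)
 (.leaf 0x8400004420080208c21841040000004240000085010244351288001a000000000000)))))
noncomputable def chD_2 : H54.Chain := .cons 20 0x142884 chD_t2
  [0x5aa7089f1522869126e5958383537, 0xbdaa209c6483a46a46686958f52d20, 0x5aa299c83539a65bc28930b185137]
  [[26, 20, 7, 25, 25, 24, 7, 13]] chD_3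
noncomputable def chD_t1 : H54.Tr :=
 (.node 12 (.node 5 (.node 3 (.node 2 (.leaf 0x210800010420210a4240c2b0c00410402000500080050482032110c00002000300000004)
 (.leaf 0x2004800104600008009840a1000000082040500080402402031188400003000100000015))
 (.node 4 (.leaf 0x22108002088142000505804108004104800405120008504aa061088000004000201000007)
 (.leaf 0x21000400803401025258c6894400100a000211a48081058041240e280005000301000011)))
 (.node 7 (.node 6 (.leaf 0x20048008080401080088049942000048205040000080218005008a280006000200000007)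
 (.leaf 0x2000800000c7400085008c628ca041000200000a0000004aa42159a080007000101000015))
 (.node 10 (.leaf 0x10004010c0020204298860040001000200011288045010804051e80000a000300000011)
 (.node 11 (.leaf 0x108802184140102525806184b0010020050412c000001a004059648000b000300000014)
 (.leaf 0x4218024000a1048c00805040000000211200080058201301208000c000301000004)))))
 (.node 17 (.node 15 (.node 13 (.leaf 0x8040800242022409806198d040040205000040045000002119a08000d00040000000f)
 (.leaf 0x2104800104640128029806194c00104a2000000c80402582042092a8000f000300000006))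
 (.node 16 (.leaf 0x201088420804420080258c218c9040000200041248045258a422402c8001000040000000b)
 (.leaf 0x484208c740000424840100004104a0002412880c0008a442408000011000200000003)))
 (.node 20 (.node 18 (.leaf 0x88000007400005090463080000048005050200080002a000184000012000301000014)
 (.leaf 0x1000008044401081098869803001002001040000080210007158a080014000201000003))
 (.node 21 (.leaf 0x15000000000015)
 (.node 24 (.leaf 0x2004800104600008009840a1000000082040500080402402031188400018000000000000)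
 (.leaf 0x2000800000c7400085008c628ca041000200000a0000004aa42159a080019000000000000))))))
noncomputable def chD_1 : H54.Chain := .cons 21 0x37bcfc chD_t1
  [0xbd86b9914c6a0f48542e33e4289520, 0x58f248cab7a0d0ac42e2284ca3677]
  [[6, 25, 18, 5, 10, 21, 2], [25, 10, 4, 24, 16, 20, 5, 4], [20, 16, 25, 24, 11, 24, 20]] chD_2
noncomputable def chD_t0 : H54.Tr :=
 (.node 12 (.node 5 (.node 2 (.node 1 (.leaf 0x2210c80018834200050904620c004000a205001288084002a002184000001000201000013)
 (.leaf 0x21000001084401204288023885001008200211a880c10000002496880002000301000007))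
 (.node 3 (.leaf 0x804298004010210488018450400022050018c00c0248200349a880003000500000011)
 (.node 4 (.leaf 0x4842808440100128800888b0010480010400000452008013082480004000301000015)
 (.leaf 0xc04288c24012002988028c50410480012112400c1002a020516080005000100000016))))
 (.node 9 (.node 6 (.leaf 0x10c802888242100501882284d0000082050500000442022042596a80006000300000001)
 (.node 7 (.leaf 0x10c8420082020005000c680400400082042500480000002011590400007000200000005)
 (.leaf 0x2000000208014200812584019860410000000112080850580420502280009000300000007)))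
 (.node 10 (.leaf 0x480290c640008128846b988000048201040008005200a41019288000a000300000015)
 (.node 11 (.leaf 0x10c042100602008408086b800001008000200088045202043248020000b000201000005)
 (.leaf 0x84200c00002a1280829940040002204250048045050841040000000c000400000009)))))
 (.node 18 (.node 15 (.node 13 (.leaf 0x22008042104540000100042b04004104a000201208084200043040400000d000401000006)
 (.leaf 0x1000000887421204288800886040040200011a400c4210a41058e28000f00030000000b))
 (.node 16 (.leaf 0x2010880018004210200184021c0041008200040208085248a041404a00010000401000002)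
 (.node 17 (.leaf 0x1080400082000084210c490c00010002010100880012582012492a00011000400000012)
 (.leaf 0x21008008046400201088c209450410402010000000c4000803300288001200030100000b))))
 (.node 21 (.node 19 (.leaf 0x210404010844202810184208c10010482042100000c5018a051112680013000101000016)
 (.node 20 (.leaf 0x200000208450000012080429c0041040200040200040200a060516c00014000400000004)
 (.leaf 0x21042401084240c69000001002005000000081018801149ac00015000200000013)))
 (.node 22 (.leaf 0x16000000000016)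
 (.node 24 (.leaf 0xc04288c24012002988028c50410480012112400c1002a020516080018000000000000)
 (.leaf 0x210404010844202810184208c10010482042100000c5018a051112680019000000000000))))))
noncomputable def chD_0 : H54.Chain := .cons 22 0x7fbefe chD_t0
  [0x154dac4615ba427cd884c0f4258d7, 0x4c860b067aa1f19292e135742c2d7]
  [[3, 24, 21, 21, 20, 2, 24, 12], [12, 25, 24, 6]] chD_1
noncomputable def chD : H54.Chain := chD_0

theorem chD_low0 : H54.checkLow cfg24 chD_0 = true := by decide +kernel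
theorem chD_low : H54.checkLow cfg24 chD = true := chD_low0
theorem chD_size : chD.size cfg24.n = 3840 := by decide +kernel

theorem chD_good : H54.Good cfg24 pt chD (M22ext ⊓ St (ofMask 16640)) ∧
    H54.grp (Equiv.Perm GolayPt) cfg24 pt chD.gens = M22ext ⊓ St (ofMask 16640) :=
  stab_of_check (x := 0x400000010000000000) (by decide +kernel) chD_low (by decide +kernel)

theorem chD_card : Nat.card ↥(M22ext ⊓ St (ofMask 16640)) = 3840 :=
  (chD_good.1.card X24 K24).trans chD_size

noncomputable def chW_6 : H54.Chain := .nil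
noncomputable def chW_t5 : H54.Tr :=
 (.leaf 0x12000000000012)
noncomputable def chW_5 : H54.Chain := .cons 18 262144 chW_t5
  []
  [] chW_6
noncomputable def chW_t4 : H54.Tr :=
 (.leaf 0x13000000000013)
noncomputable def chW_4 : H54.Chain := .cons 19 524288 chW_t4
  []
  [] chW_5
noncomputable def chW_t3 : H54.Tr :=
 (.node 0 (.leaf 0x840088040002504844280504000000420000008104aa000016080000000100000017)
 (.leaf 0x17000000000017))
noncomputable def chW_3 : H54.Chain := .cons 23 0x800001 chW_t3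
  [0x5ab44ca111b8ec11268694ca7ac37]
  [] chW_4
noncomputable def chW_t2 : H54.Tr :=
 (.node 11 (.node 2 (.leaf 0x10000008850010a4210c01180001002000041208000210243240000000200020100000d)
 (.node 7 (.leaf 0x800180440008124040108000000000404120008101a240240a400007000100000014)
 (.leaf 0x20000000881400204018c608810000002000412480c1000806119208000b00020000000d)))
 (.node 18 (.node 13 (.leaf 0x1040409004420024248c238c904004a201000200005048a00251688000d000101000014)
 (.leaf 0x2010880000000210200488038800400482040002000042482040016400012000300000002))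
 (.node 20 (.leaf 0x14000000000014)
 (.leaf 0x1040409004420024248c238c904004a201000200005048a002516880019000000000000))))
noncomputable def chW_2 : H54.Chain := .cons 20 0x142884 chW_t2
  [0xbdaa798a2f8216668c2ea30a454920, 0x5aad4ae038a0453bc2ea30ca24a77]
  [[25, 25, 25, 25, 11, 2]] chW_3
noncomputable def chW_t1 : H54.Tr :=
 (.node 12 (.node 5 (.node 3 (.node 2 (.leaf 0x2010804208c54010a40c80009ca0410022002412c8001018000151a28000200020100000c)
 (.leaf 0x10000010420010a02088208000010020000000000002100051010000003000300000011))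
 (.node 4 (.leaf 0x10000000000212a009040880000000220004000804421a2012410000004000201000007)
 (.leaf 0x210c00098c64202250184611c000004a005000a880c5000006358880000500020000000c)))
 (.node 7 (.node 6 (.leaf 0x804010400200a5218448080000000000040080004012a472480000006000501000012)
 (.leaf 0x210800098c24210012100480c00010482010512c0085012001048e200007000101000015))
 (.node 10 (.leaf 0x221088420881401005018860889041048004211200000202a00350208000a000400000014)
 (.node 11 (.leaf 0x2010880008c442102525806280f04000020125080800504a246149608000b000400000010)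
 (.leaf 0x10004290824002802c802298600104a0012400000c120a842149a68000c000100000015)))))
 (.node 17 (.node 15 (.node 13 (.leaf 0x2210c04210c642008505800288904100800100000800504aa42101a08000d000301000002)
 (.leaf 0x2104800104640128029806194c00104a2000000c80402582042092a8000f000301000011))
 (.node 16 (.leaf 0x200084010800002a5000020880001048004200048041052a000100000010000301000005)
 (.leaf 0x10484290c442000420880288b04004a201000a080040008000416080011000200000007)))
 (.node 20 (.node 18 (.leaf 0x10800000034002a5080c420000010020050002080c0050a01348440001200040000000d)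
 (.leaf 0x100002008300028128004b100001002001000a480402002030482c00014000301000004))
 (.node 21 (.leaf 0x15000000000015)
 (.node 24 (.leaf 0x10004290824002802c802298600104a0012400000c120a842149a680018000000000000)
 (.leaf 0x210800098c24210012100480c00010482010512c0085012001048e200019000000000000))))))
noncomputable def chW_1 : H54.Chain := .cons 21 0x37bcfc chW_t1
  [0x598a0c06b3a245a366e89aaf11137, 0xbd8f5999f12a06292c2e22a1463520]
  [[25, 24, 12, 25, 15, 25, 24, 5], [10, 24, 6, 13, 24, 12]] chW_2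
noncomputable def chW_t0 : H54.Tr :=
 (.node 19 (.node 1 (.leaf 0x10804080464212812880439c6000002201011a880c12000422592480001000100000016)
 (.node 9 (.leaf 0x80001005021224098421180001000201211ac804104a8062508600009000200000001)
 (.leaf 0x2000884010c2420085040049040040000001000008084018a030402800013000101000016)))
 (.node 22 (.leaf 0x16000000000016)
 (.node 24 (.leaf 0x10804080464212812880439c6000002201011a880c12000422592480018000000000000)
 (.leaf 0x2000884010c2420085040049040040000001000008084018a030402800019000000000000))))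
noncomputable def chW_0 : H54.Chain := .cons 22 0x480202 chW_t0
  [0x6429a9a63a083596cead1f183137, 0xbce44b2d558a0ef8312e2d06269820]
  [[25, 24, 25], [9, 24, 25, 9, 25, 24, 19, 9]] chW_1
noncomputable def chW : H54.Chain := chW_0

theorem chW_low0 : H54.checkLow cfg24 chW_0 = true := by decide +kernel
theorem chW_low : H54.checkLow cfg24 chW = true := chW_low0
theorem chW_size : chW.size cfg24.n = 768 := by decide +kernel

noncomputable def chF_2 : H54.Chain := .nil
noncomputable def chF_t1 : H54.Tr :=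
 (.node 6 (.node 5 (.leaf 0x201008409804400004298420800041000005241a000c00008472110000005000101000015)
 (.leaf 0x80420801021080090409900000000000011208044218003241a200006000100000015))
 (.node 12 (.leaf 0x48020042400021048840800000008200010000080048205101000000c000201000006)
 (.leaf 0x15000000000015)))
noncomputable def chF_1 : H54.Chain := .cons 21 0x201060 chF_t1
  [0xbd8c39bdaa93a25241281558ba1c20, 0xbd8af98c87a396668928832b192820]
  [] chF_2
noncomputable def chF_t0 : H54.Tr :=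
 (.node 22 (.node 9 (.node 1 (.leaf 0x1008009844421000280c680400010020010418000842000413580000001000100000016)
 (.leaf 0x2000000008c44000052088009800400000042012000c52000471010000009000102000016))
 (.node 19 (.leaf 0x10880208c04002a10008218800400000002112000c00500013410800013000202000001)
 (.leaf 0x16000000000016)))
 (.node 25 (.node 24 (.leaf 0x1008009844421000280c680400010020010418000842000413580000018000000000000)
 (.leaf 0x201008409804400004298420800041000005241a000c00008472110000019000000000000))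
 (.node 26 (.leaf 0x2000000008c44000052088009800400000042012000c5200047101000001a000000000000)
 (.leaf 0x10804208060202a40c8422080000000001201000045018a04250400001b000000000000))))
noncomputable def chF_0 : H54.Chain := .cons 22 0x480202 chF_t0
  [0xb84a34bd70938868aa683b2ada0ac0, 0xbd8af98c87a396668928832b192820, 0xba4b40c9a27ba2621ec8532ab1c260, 0xba5830be27939b558ac8814c4a2a60]
  [[27, 1, 22, 1, 26, 9, 9], [22, 25, 1, 24, 26, 1, 19]] chF_1
noncomputable def chF : H54.Chain := chF_0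

theorem chF_low0 : H54.checkLow cfg24 chF_0 = true := by decide +kernel
theorem chF_low : H54.checkLow cfg24 chF = true := chF_low0
theorem chF_up0 : H54.checkUp cfg24 chF_0 = true := by decide +kernel
theorem chF_up : H54.checkUp cfg24 chF = true := chF_up0
theorem chF_size : chF.size cfg24.n = 16 := by decide +kernel

noncomputable def chL_3 : H54.Chain := .nil
noncomputable def chL_t2 : H54.Tr :=
 (.node 6 (.leaf 0x10880018414002a0200808001001002004000a080c00500430402000006000100000015)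
 (.node 19 (.leaf 0x880010414000a0210008000000000204001a080c10500411402080013000200000006)
 (.leaf 0x15000000000015)))
noncomputable def chL_2 : H54.Chain := .cons 21 0x280040 chL_t2
  [0xbd8caac8a47ba086268b3cc6d88402]
  [] chL_3
noncomputable def chL_t1 : H54.Tr :=
 (.node 12 (.node 8 (.node 4 (.leaf 0x400008410010200d08218080000080002012000410582451102280004000101000016)
 (.leaf 0x80000800421080280403987040040200000200080202241051e680008000401000012))
 (.node 11 (.leaf 0x1088409844400001080042800041040205051208080002200009608000b00020000000c)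
 (.leaf 0x2200c04010c740000008004280104100a000051240081000000009600000c000100000016)))
 (.node 16 (.node 13 (.leaf 0x48000040421005010c0b00e001048201001808085012843141ea0000d00020100000c)
 (.leaf 0x10804080c40010200400418080000082010100800010182450080a80010000400000012))
 (.node 18 (.leaf 0x221008000040401020090c000010410422050000880c0240000300208001200030100000b)
 (.node 22 (.leaf 0x16000000000016)
 (.leaf 0x400008410010200d08218080000080002012000410582451102280019000000000000)))))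
noncomputable def chL_1 : H54.Chain := .cons 22 0x453910 chL_t1
  [0xbb293ac04d7ba4bb24c83a82488c05, 0xb91333200b7bacd952b03a82c28c51]
  [[11, 25, 18, 25, 4]] chL_2
noncomputable def chL_t0 : H54.Tr :=
 (.node 3 (.node 1 (.node 0 (.leaf 0x2210004280424010a4018c698cb04000a201040048000058007218a480000000401000002)
 (.leaf 0x20008400843400024040c6080a0410400000012080440180003582480001000500000003))
 (.node 2 (.leaf 0x200480210464012842080200080000480052118480c101a0401112280002000300000011)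
 (.leaf 0x20100002080102100509004280c0410080040102000050480023096680003000400000002)))
 (.node 17 (.node 5 (.leaf 0x10084010014000a109000080a001002005001a880410508050400080005000100000017)
 (.leaf 0x10004200c140122421000a14a0400082002512000442500472404200011000200000005))
 (.node 23 (.leaf 0x17000000000017)
 (.node 24 (.leaf 0x10084010014000a109000080a001002005001a880410508050400080018000000000000)
 (.leaf 0x221008000040401020090c000010410422050000880c02400003002080019000000000000)))))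
noncomputable def chL_0 : H54.Chain := .cons 23 0x82002f chL_t0
  [0x2a0e9ac8567ba046cccca2a2b08c17, 0xbc8c99d8a87b9646aa903d62c18022]
  [[17, 0, 0, 25, 23, 3, 5], [24, 25, 3, 2, 5, 23, 17]] chL_1
noncomputable def chL : H54.Chain := chL_0

theorem chL_low0 : H54.checkLow cfg24 chL_0 = true := by decide +kernel
theorem chL_low : H54.checkLow cfg24 chL = true := chL_low0
theorem chL_up0 : H54.checkUp cfg24 chL_0 = true := by decide +kernel
theorem chL_up : H54.checkUp cfg24 chL = true := chL_up0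
theorem chL_size : chL.size cfg24.n = 168 := by decide +kernel

/-- an element of order 5 fixing `521` -/
def wf : List ℕ := [1, 1, 0, 0, 1, 1, 0, 0, 0]
def Xf : ℕ := 0xf7c0842800c0880090080480088180002001
def Pf : ℕ := 0xbc5e7588a1538c3acda8b4a8c82480
def Pfi : ℕ := 0xb9d6551ac3ab9249bc48a362164a00
/-- the elements fixing the five hexads through the duad -/
def LE : List (List ℕ × ℕ × ℕ) := [([], 0x800400200100080040020010008004002001, 0xbdab49ca307b9ac5a928398a418820), ([2, 1, 0, 1, 0, 0, 1, 1, 0, 2, 1, 0, 1, 1, 1], 0xa09a49a41a175dec0057eb07600b13f14e48, 0xbd8c39bdaa93a25241281558ba1c20), ([2, 0, 0, 0, 1, 0, 0, 0, 1, 0, 2, 1, 1, 0, 1, 0], 0x8008d1932a86289c9157eec87eb98bb30cd0, 0xbd8af98c87a396668928832b192820), ([2, 0, 0, 0, 0, 0, 1, 0, 0, 0, 0, 1, 0, 1, 0, 2, 1], 0xa096981731917d70d10205df1e329c426299, 0xbd9929d1621b89589d28514cd7c020), ([3, 3, 0, 2, 1, 0, 0, 0, 0, 1, 1, 1, 0, 0, 0, 2, 1, 1, 0, 1], 0xd5e11f9cc6165de20877750f98c712bce249, 0xbcd8fb0db0a3a3522828394cb90920),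 ([3, 3, 2, 1, 1, 0, 0, 1, 0, 1, 0, 0, 2, 1, 0, 0, 1, 0], 0xf57d5f4d3f08080c41229c118d3e0c186e09, 0xbccb2b522a1b9a65c028132a479d20), ([1, 0, 0, 0, 1, 0, 2, 1, 1, 0, 2, 1, 0, 0], 0xd5edce2fed907d7ed9229bd7e6fe9d0fce98, 0xbccd4b49677b885888288558d1a920), ([3, 3, 1, 1, 0, 1, 0, 0, 0, 1, 1, 0, 0, 0, 2, 1, 0, 0, 2, 1], 0xf5718efe148e2890907772c9f30783ab42d8, 0xbcea3b3c829396c69c28518b1a4120), ([1, 0, 0, 1, 0, 0, 2, 1, 1, 0, 0, 0, 0, 2, 1, 0, 0, 0, 0], 0x8007b96df5ee7d73f957e6f776e3bd6d43b8, 0xba4d20d0901b9656aac83d59178a60), ([3, 3, 1, 0, 0, 0, 2, 1, 1, 0, 1, 0, 1, 0, 1, 1, 1, 0, 2], 0xa099f0e9eef9289fb9020de01668aa9c2df1, 0xba6af08d6aa388c8c2c8118ad91e60), ([2, 0, 2, 1, 0, 1, 0, 1, 1, 0, 0, 2, 1, 0, 2, 1, 1, 1, 0], 0x8009618b3c615ded21020a267da83b8b8d60, 0xba5830be27939b558ac8814c4a2a60), ([0, 0, 1, 0, 0, 0, 0, 1, 0, 1, 0, 1, 0, 0, 0], 0xa097280f277608016157e1311d232c7ae329, 0xba4b40c9a27ba2621ec8532ab1c260), ([3, 2, 0, 0, 1, 1, 0, 0, 0, 2, 1, 0, 0, 0, 0, 1, 0,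 1], 0xd5e2a6d132f82891b12293e8eea4abd181f0, 0xb84a34bd70938868aa683b2ada0ac0), ([3, 3, 0, 2, 1, 0, 0, 2, 1, 1, 1, 0, 1, 0, 0, 0, 1, 1, 0, 0], 0xf57ee600cbe67d7ff8777af6fb5db5750db0, 0xb85944c88a7b9756c268114d119ec0), ([3, 3, 0, 0, 1, 1, 0, 0, 1, 1, 0, 1, 0, 2, 1, 0, 0, 2, 1], 0xd5ec7e37fb77080f69777f39e5ef2d374f28, 0xb86b24d1a71ba2c20a68818ab7aac0), ([2, 1, 0, 0, 1, 0, 0, 0, 0, 0, 1, 0, 1, 0, 0, 2], 0xf5703ee602695de120229627f0163393c368, 0xb84cf48e22a39a559e6855584942c0)]
/-- an element of order 7 of `M24` permuting seven sextets -/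
def a7 : ℕ := 0x2a0e9ac8567ba046cccca2a2b08c17
/-- the set of points `13124355` in the format of the chains -/
def setO : ℕ := 0x84000800000400000210000000021

/-- the singular point -/
def in3 (w : ℕ) : Prop := w = 0 ∨ w = 521 ∨ w = 1374 ∨ w = 1879

instance : DecidablePred in3 := fun w => inferInstanceAs (Decidable (w = 0 ∨ w = 521 ∨ w = 1374 ∨ w = 1879))

/-- the vectors of the point -/
noncomputable def v3 (a : ℕ) : ℕ := nth [0, 521, 1374, 1879] (a % 4)
/-- tetrads of the seven sextets -/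
noncomputable def T3 (a : ℕ) : ℕ := nth [0, 16397, 131083, 8388649, 8388615, 131109, 16419, 8536065] a
/-- codes of the elements in `V` -/
def c3 (a : ℕ) : ℕ := 4 * (a % 4) + 64 * (a / 4)
/-- singular vectors spanning the perp of the point -/
def LP : List ℕ := [5, 11, 17, 37, 65, 133, 257, 514, 1025, 2053]

theorem in3_spec {w : ℕ} (h : in3 w) : w < 4096 ∧ qc w = 0 ∧ bl w 521 = 0 ∧ bl w 1374 = 0 ∧
    (w ≠ 0 → supp w = 16640) ∧ ∃ a, a < 4 ∧ v3 a = w ∧ v3 (a + 4) = w := by
  rcases h with rfl | rfl | rfl | rfl <;> decide +kernel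

theorem in3_of_supp : ∀ w, w < 4096 → supp w = 16640 → in3 w := by decide +kernel

theorem chW_good : H54.Good cfg24 pt chW (M22ext ⊓ St (ofMask 16640) ⊓ St (ofMask 13124355)) := by
  have e : H54.setObj cfg24 pt 0 setO = ofMask 13124355 := by
    ext y
    obtain ⟨i, hi, rfl⟩ := pt_surj y
    rw [H54.pt_mem_setObj X24 hi, pt_mem_ofMask hi]
    revert i
    decide +kernel
  rw [← e]
  exact (chD_good.1.setStab X24 chW_low (by decide +kernel)).1

theorem chW_card : Nat.card ↥(M22ext ⊓ St (ofMask 16640) ⊓ St (ofMask 13124355)) = 768 :=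
  (chW_good.card X24 K24).trans chW_size

/-- the kernel of the action on the five hexads -/
noncomputable def E16 : Subgroup (Equiv.Perm GolayPt) := H54.grp (Equiv.Perm GolayPt) cfg24 pt chF.gens

theorem chF_good : H54.Good cfg24 pt chF E16 := good_full (by decide +kernel) chF_low chF_up

theorem card_E16 : Nat.card E16 = 16 := (chF_good.card X24 K24).trans chF_size

theorem mem_E16 {a : ℕ} (ha : okP a = true) (h : permOf a ∈ M22ext ⊓ St (ofMask 16640)) (h0 : out a = 0)
    (h1 : ∀ i, i < 5 → permOf Pf ^ i * permOf a * (permOf Pf ^ i)⁻¹ ∈ St (ofMask 13124355)) : permOf a ∈ E16 := by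
  obtain ⟨c, i1, e, i3⟩ := forall_elts chD_good.1 (P := fun c => H54.force c fun c => bimp (band (Nat.beq (out c) 0)
    (allL (fun u => Nat.beq (imgM c u) u) [13124355, 8546577, 10506593, 9748745, 8471941])) (H54.memb cfg24 chF c)) (by decide +kernel) _ h
  rw [H54.force_eq, bimp_eq_true, band_eq_true, allL_iff, Nat.beq_eq, out_congr i1 ha e] at i3
  refine e ▸ (good_of_memb chF_good (i3 ⟨h0, fun u hu => ?_⟩)).2
  obtain ⟨l, i, hi, e'⟩ := (by decide +kernel : ∀ u ∈ [13124355, 8546577, 10506593, 9748745, 8471941], u < 2 ^ 24 ∧ ∃ i, i < 5 ∧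
    imgM (powP Pf i) u = 13124355) u hu
  have k := powP_spec (a := Pf) (by decide +kernel) i
  have := (conj_mem_St_iff (k := permOf Pf ^ i) (x := ofMask u) (by rw [← k.2, permOf_smul k.1, e']) _).1 (h1 i hi)
  rw [mem_St_set, ← e, permOf_smul i1] at this
  rw [Nat.beq_eq]; exact ofMask_inj (imgM_lt i1 _) l this

/-- a subgroup `L3(2)` of `M24` -/
noncomputable def J7 : Subgroup (Equiv.Perm GolayPt) := H54.grp (Equiv.Perm GolayPt) cfg24 pt chL.gens

theorem chL_good : H54.Good cfg24 pt chL J7 := good_full (by decide +kernel) chL_low chL_up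

theorem card_J7 : Nat.card J7 = 168 := (chL_good.card X24 K24).trans chL_size

theorem J7_le : J7 ≤ M24 :=
  le_of_grp_eq rfl fun s hs => good_M24 ((by decide +kernel : ∀ s ∈ chL.gens, inM24 s = true) s hs)

theorem J7_chk {g : Equiv.Perm GolayPt} (hg : g ∈ J7) : ∃ c, okP c = true ∧ permOf c = g ∧
    (∀ a, a < 8 → ∃ b, b < 8 ∧ encL lamL (imgM c (T3 a)) = c3 b) ∧
    ((∀ a, a < 8 → encL lamL (imgM c (T3 a)) = c3 a) → g = 1) := by
  obtain ⟨c, i1, rfl, i3⟩ := forall_elts chL_good (P := fun c => H54.force c fun c => band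
    (H54.allLt (fun a => H54.force (encL lamL (imgM c (T3 a))) fun t => anyLt 8 fun b => Nat.beq t (c3 b)) 8)
    (bimp (H54.allLt (fun a => Nat.beq (encL lamL (imgM c (T3 a))) (c3 a)) 8) (eqP c idP))) (by decide +kernel) g hg
  simp only [H54.force_eq, band_eq_true, bimp_eq_true, H54.allLt_iff, anyLt_iff, Nat.beq_eq] at i3
  exact ⟨c, i1, rfl, i3.1, fun h => (permOf_eq_of_eqP i1 okP_idP (i3.2 h)).trans permOf_idP⟩

/-- the properties of the matrices of the elements of `L` -/
def eProp (p : ℕ) : Prop := mm p p = Id12 ∧ (∀ y ∈ LP, in3 (y ^^^ mv p y)) ∧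
  ((∀ y ∈ LP, mv p y = y) → p = Id12)

theorem LE_chk : ∀ e ∈ LE, wchk e.1 e.2.1 e.2.2 = true ∧ mv (mm e.2.1 Om) 521 ≠ 521 ∧
    mv (mm e.2.1 Om2) 521 ≠ 521 ∧ eProp e.2.1 := by
  unfold eProp; decide +kernel

theorem in3_of_perp {x : ℕ} (hx : x < 4096) (h : ∀ y ∈ LP, bl x y = 0) : in3 x := by
  have := (H54.allLt_iff _ _).1 (by decide +kernel : H54.allLt (fun x => bimp (allL (fun y => Nat.beq (bl x y) 0) LP)
    (decide (in3 x))) 4096 = true) x hx
  rw [bimp_eq_true, allL_iff, decide_eq_true_eq] at this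
  exact this fun y hy => by rw [Nat.beq_eq]; exact h y hy

theorem LP_spec : ∀ y ∈ LP, y < 4096 ∧ qc y = 0 ∧ bl y 521 = 0 ∧ bl y 1374 = 0 := by decide +kernel

theorem bl_in3 {x w : ℕ} (hx : x < 4096) (h1 : bl x 521 = 0) (h2 : bl x 1374 = 0) (h : in3 w) : bl x w = 0 := by
  rcases h with rfl | rfl | rfl | rfl
  exacts [bl_zero_right x, h1, h2, by
    rw [show 1879 = 521 ^^^ 1374 by decide +kernel, bl_xor_right hx (by norm_num) (by norm_num), h1, h2]; rfl]

theorem cnt_perp : cntLt (fun x => band (Nat.beq (bl x 521) 0) (Nat.beq (bl x 1374) 0)) 4096 = 1024 := by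
  decide +kernel

namespace Md
variable {G : Type*} [Group G] (m : Md G)

/-- the elements of the pure eight-group -/
noncomputable def e3 (a : ℕ) : G := m.s (v3 a) * m.z ^ (a / 4)

theorem ea3 : EA 3 m.e3 where
  add a b ha hb := by
    obtain ⟨i1, i2, i3, i4, i5⟩ := (by decide +kernel : ∀ a, a < 2 ^ 3 → ∀ b, b < 2 ^ 3 → v3 a < 4096 ∧ v3 b < 4096 ∧
      v3 (a ^^^ b) = v3 a ^^^ v3 b ∧ bt (v3 a) (v3 b) = 0 ∧ (a ^^^ b) / 4 = a / 4 ^^^ b / 4) a ha b hb
    unfold e3
    rw [i3, i5, m.zpow_xor, m.s_xor i1 i2, i4, pow_zero, mul_one,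
      Commute.mul_mul_mul_comm (b := m.z ^ _) (c := m.s _) (m.zpow_comm (m.s_mem_H i2) _).symm]
  inj a ha e := by
    obtain ⟨i1, i2⟩ := (by decide +kernel : ∀ a, a < 2 ^ 3 → v3 a < 4096 ∧ (v3 a = 0 → a / 4 = 0 → a = 0)) a ha
    obtain ⟨e2, e3⟩ := m.s_eq (w := 0) (b := 0) i1 (by norm_num) (by rw [← e3, e, m.s_zero]; simp)
    exact i2 e2 (m.zpow_inj (by omega) (by norm_num) e3)

/-- the pure eight-group -/
noncomputable def Z3 : Subgroup G := m.ea3.sub

theorem mem_Z3 {x : G} : x ∈ m.Z3 ↔ ∃ w, in3 w ∧ ∃ c : ℕ, x = m.s w * m.z ^ c := by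
  constructor
  · rintro ⟨a, ha, rfl⟩
    exact ⟨_, (by decide +kernel : ∀ a, a < 2 ^ 3 → in3 (v3 a)) a ha, _, rfl⟩
  · rintro ⟨w, hw, c, rfl⟩
    obtain ⟨a, ha, i1, i2⟩ := (in3_spec hw).2.2.2.2.2
    rcases m.zpow_cases c with h | h <;> rw [h]
    · exact ⟨a, by omega, by rw [e3, i1, Nat.div_eq_of_lt ha, pow_zero]⟩
    · exact ⟨a + 4, by omega, by rw [e3, i2, show (a + 4) / 4 = 1 by omega, pow_one]⟩

theorem s_mem_Z3 {w : ℕ} (h : in3 w) : m.s w ∈ m.Z3 := m.mem_Z3.2 ⟨w, h, 0, by simp⟩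
theorem z_mem_Z3 : m.z ∈ m.Z3 := m.mem_Z3.2 ⟨0, Or.inl rfl, 1, by simp [m.s_zero]⟩
theorem e3_four : m.e3 4 = m.z := by rw [e3, show v3 4 = 0 by decide +kernel, m.s_zero]; simp

theorem Z3_le_Q : m.Z3 ≤ m.Q := fun x hx => by
  obtain ⟨w, hw, c, rfl⟩ := m.mem_Z3.1 hx
  exact m.mem_Q.2 ⟨w, (in3_spec hw).1, c, rfl⟩

theorem card_Z3 : Nat.card m.Z3 = 2 ^ 3 := m.ea3.card

theorem sz_mem_Z3 {w c : ℕ} (hw : w < 4096) : m.s w * m.z ^ c ∈ m.Z3 ↔ in3 w := by
  refine ⟨fun h => ?_, fun h => m.mem_Z3.2 ⟨w, h, c, rfl⟩⟩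
  obtain ⟨w', h', c', e⟩ := m.mem_Z3.1 h
  exact (m.s_eq hw (in3_spec h').1 e).1 ▸ h'

/-- the normaliser of the eight-group -/
abbrev N3 : Subgroup G := normalizer (m.Z3 : Set G)
/-- the centraliser of the eight-group -/
abbrev C3 : Subgroup G := centralizer (m.Z3 : Set G)

theorem C3_le_H : m.C3 ≤ m.H := fun _ hg => m.mem_H.2 (mem_centralizer_iff.1 hg _ m.z_mem_Z3).symm
theorem C3_le_N3 : m.C3 ≤ m.N3 := centralizer_le_normalizer _
theorem Z3_le_C3 : m.Z3 ≤ m.C3 := m.ea3.le_cent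

theorem conj_mem_C3 {n g : G} (hn : n ∈ m.N3) (hg : g ∈ m.C3) : n * g * n⁻¹ ∈ m.C3 :=
  mem_centralizer_iff.2 fun t ht => by
    have := mem_centralizer_iff.1 hg _ ((mem_normalizer_iff''.1 hn t).1 ht)
    calc t * (n * g * n⁻¹) = n * (n⁻¹ * t * n * g) * n⁻¹ := by group
      _ = _ := by rw [this]; group

variable {m} in
theorem KR.sk_mem_C3 {k : G} {p a x : ℕ} (h : m.KR k p a) (hx : x < 4096) : m.s x * k ∈ m.C3 ↔
    (mv p 521 = 521 ∧ bl x 521 = 0) ∧ mv p 1374 = 1374 ∧ bl x 1374 = 0 := by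
  rw [← h.comm_s_iff hx (by norm_num) (by decide +kernel), ← h.comm_s_iff hx (by norm_num) (by decide +kernel)]
  refine ⟨fun e => ⟨(mem_centralizer_iff.1 e _ (m.s_mem_Z3 (by decide))).symm,
    (mem_centralizer_iff.1 e _ (m.s_mem_Z3 (by decide))).symm⟩, fun ⟨e1, e2⟩ => mem_centralizer_iff.2 fun t ht => ?_⟩
  obtain ⟨w, hw, c, rfl⟩ := m.mem_Z3.1 ht
  refine (Commute.mul_right ?_ (m.zpow_comm (m.H.mul_mem (m.s_mem_H hx) h.memH) c)).symm
  rcases hw with rfl | rfl | rfl | rfl
  · rw [m.s_zero]; exact Commute.one_right _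
  · exact e1
  · exact e2
  · rw [show 1879 = 521 ^^^ 1374 by decide +kernel, m.s_xor (by norm_num) (by norm_num)]
    exact (Commute.mul_right e1 e2).mul_right (m.zpow_comm (m.H.mul_mem (m.s_mem_H hx) h.memH) _)

variable {m} in
theorem KR.mem_C3 {k : G} {p a : ℕ} (h : m.KR k p a) : k ∈ m.C3 ↔ mv p 521 = 521 ∧ mv p 1374 = 1374 := by
  have := h.sk_mem_C3 (x := 0) (by norm_num)
  rwa [m.s_zero, one_mul, bl_zero_left, bl_zero_left, and_iff_left rfl, and_iff_left rfl] at this

theorem s_mem_C3 {x : ℕ} (hx : x < 4096) : m.s x ∈ m.C3 ↔ bl x 521 = 0 ∧ bl x 1374 = 0 := by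
  have := m.KR_one.sk_mem_C3 hx
  rwa [mul_one, mv_Id _ (by norm_num), mv_Id _ (by norm_num), and_iff_right rfl, and_iff_right rfl] at this

theorem KR_wf : m.KR (m.ev wf) Xf Pf := m.KR_of_wchk (by decide +kernel)

variable {m} in
theorem KR.f_mem_C3 {x : G} (h : m.KR x Xf Pf) : x ∈ m.C3 := h.mem_C3.2 (by decide +kernel)

/-- the special group of order `2 ^ 15` -/
noncomputable def L : Subgroup G := m.C3 ⊓ m.pre E16

theorem s_mem_L {x : ℕ} (hx : x < 4096) (h : bl x 521 = 0 ∧ bl x 1374 = 0) : m.s x ∈ m.L :=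
  ⟨(m.s_mem_C3 hx).2 h, m.mem_pre.2 ⟨m.s_mem_H hx, m.π_s x hx ▸ one_mem _⟩⟩

theorem Z3_le_L : m.Z3 ≤ m.L := fun _ hx =>
  ⟨m.Z3_le_C3 hx, m.mem_pre.2 ⟨m.Q_le_H (m.Z3_le_Q hx), m.π_Q (m.Z3_le_Q hx) ▸ one_mem _⟩⟩

theorem map_Z3 {G' : Type*} [Group G'] (e : G ≃* G') : (m.map e).Z3 = m.Z3.map e.toMonoidHom := by
  ext x
  constructor
  · rintro ⟨a, ha, rfl⟩; exact ⟨_, m.ea3.mem ha, by simp [e3, map]⟩
  · rintro ⟨_, ⟨a, ha, rfl⟩, rfl⟩; exact ⟨a, ha, by simp [e3, map]⟩

variable [Finite G]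

theorem N3_inf_H : m.N3 ⊓ m.H = m.pre (M22ext ⊓ St (ofMask 16640)) := by
  ext g
  rw [m.mem_pre, mem_inf, and_comm]
  refine and_congr_right fun hg => ?_
  obtain ⟨x, hx, k, p, a, hk, rfl⟩ := m.dec_H' hg
  rw [mem_inf, and_iff_right (m.π_mem' hg), hk.π_sk hx, mem_St_set, permOf_smul hk.ok]
  constructor
  · intro h
    have := (mem_normalizer_iff.1 h _).1 (m.s_mem_Z3 (w := 521) (by decide))
    rw [hk.conj_s hx (by norm_num), m.sz_mem_Z3 (mv_lt _ _)] at this
    rw [← show supp 521 = 16640 by decide +kernel, ← hk.supp_mv (by norm_num), (in3_spec this).2.2.2.2.1 fun e =>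
      absurd (hk.mv_inj (by norm_num) (by norm_num) (e.trans (mv_zero p).symm)) (by norm_num)]
    exact congrArg _ (by decide +kernel)
  · intro h
    refine H95.mem_normalizer_of_finite fun t ht => ?_
    obtain ⟨w, hw, c, rfl⟩ := m.mem_Z3.1 ht
    have l := (in3_spec hw).1
    rw [show ∀ a b c : G, a * (b * c) * a⁻¹ = a * b * a⁻¹ * (a * c * a⁻¹) by intros; group, m.conj_zpow hg,
      hk.conj_s hx l, mul_assoc, ← pow_add, m.sz_mem_Z3 (mv_lt _ _)]
    by_cases h0 : w = 0
    · rw [h0, mv_zero]; exact Or.inl rfl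
    · refine in3_of_supp _ (mv_lt _ _) ?_
      rw [hk.supp_mv l, (in3_spec hw).2.2.2.2.1 h0]
      exact ofMask_inj (imgM_lt hk.ok _) (by norm_num) h

theorem L_dec {g : G} (hg : g ∈ m.L) : ∃ x k p a, x < 4096 ∧ m.KR k p a ∧ out a = 0 ∧ eProp p ∧
    bl x 521 = 0 ∧ bl x 1374 = 0 ∧ g = m.s x * k := by
  obtain ⟨h1, h2⟩ := m.mem_pre.1 hg.2
  obtain ⟨x, hx, k, p, a, hk, rfl⟩ := m.dec_H' h1
  obtain ⟨⟨i1, i2⟩, i3, i4⟩ := (hk.sk_mem_C3 hx).1 hg.1
  refine ⟨x, k, p, a, hx, hk, hk.out_of_fix (by norm_num) (by norm_num) i1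
    (by rwa [show mv Om 521 = 1374 by decide +kernel]), ?_, i2, i4, rfl⟩
  obtain ⟨c, j1, e, j3⟩ := forall_elts chF_good (P := fun c => anyL (fun e => eqP c e.2.2) LE)
    (by decide +kernel) _ h2
  obtain ⟨t, ht, j4⟩ := (anyL_iff _ _).1 j3
  obtain ⟨l1, l2, l3, l4⟩ := LE_chk t ht
  have k' := m.KR_of_wchk l1
  rcases k'.eq_of_perm hk (by rw [← permOf_eq_of_eqP j1 k'.ok j4, e, hk.π_sk hx]) with rfl | rfl | rfl
  exacts [l4, absurd i1 l2, absurd i1 l3]

theorem L_sq {g : G} (hg : g ∈ m.L) : g * g ∈ m.Z3 := by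
  obtain ⟨x, k, p, a, hx, hk, h0, ⟨i1, i2, -⟩, j1, j2, rfl⟩ := m.L_dec hg
  rw [hk.mul_sk hx hx, hk.sq_eq_one h0 i1, mul_one]
  refine m.mem_Z3.2 ⟨_, in3_of_perp (xor_lt hx (mv_lt _ _)) fun y hy => ?_, _, rfl⟩
  have l := (LP_spec y hy).1
  have := hk.bl_mv hx (mv_lt p y)
  rw [← mv_mm _ _ _ l, i1, mv_Id _ l] at this
  rw [bl_xor_left hx (mv_lt _ _) l, this, ← bl_xor_right hx l (mv_lt _ _)]
  exact bl_in3 hx j1 j2 (i2 y hy)

theorem mem_Z3_of_cent {g : G} (hg : g ∈ m.L) (h : ∀ l ∈ m.L, l * g = g * l) : g ∈ m.Z3 := by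
  obtain ⟨x, k, p, a, hx, hk, -, ⟨-, -, i3⟩, -, -, rfl⟩ := m.L_dec hg
  have key : ∀ y ∈ LP, mv p y = y ∧ bl x y = 0 := fun y hy => by
    obtain ⟨l1, l2, l3⟩ := LP_spec y hy
    exact (hk.comm_s_iff hx l1 l2).1 (h _ (m.s_mem_L l1 l3)).symm
  obtain rfl := i3 fun y hy => (key y hy).1
  obtain ⟨c, -, rfl⟩ := hk.triv'
  exact m.mem_Z3.2 ⟨x, in3_of_perp hx fun y hy => (key y hy).2, c, rfl⟩

theorem card_L_le : Nat.card m.L ≤ 2 ^ 15 := by
  have h1 : Nat.card ↥(m.L ⊓ m.pre ⊥) ≤ Nat.card ↥(m.L ⊓ m.Q) := card_le_of_le fun g hg =>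
    ⟨hg.1, mem_Q_of_sq (m.mem_pre.1 hg.2).1 (m.mem_pre.1 hg.2).2 (m.Z3_le_Q (m.L_sq hg.1))⟩
  have h2 := card_inf_Q (m.Z3_le_L m.z_mem_Z3)
  have h3 : (m.WB m.L).card ≤ 1024 := by
    rw [← cnt_perp, cntLt_eq]
    refine Finset.card_le_card fun x hx => ?_
    obtain ⟨l, hx⟩ := mem_WB.1 hx
    simpa [band_eq_true, l] using (m.s_mem_C3 l).1 hx.1
  have h4 : Nat.card (m.bar m.L) ≤ 16 := card_E16 ▸ card_le_of_le fun x hx => by
    obtain ⟨b, hb, -, rfl⟩ := mem_bar.1 hx; exact (m.mem_pre.1 hb.2).2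
  rw [card_eq_bar (m := m) (B := m.L) (inf_le_left.trans m.C3_le_H)]
  calc _ ≤ 2048 * 16 := Nat.mul_le_mul (by omega) h4
    _ = _ := by norm_num

variable [IsSimpleGroup G]

theorem e3_d {a : ℕ} (ha : a < 8) {u : ℕ} (hu : u < 2 ^ 24) (e : encL lamL u = c3 a) :
    m.M.d (ofMask u) = m.e3 a := by
  obtain ⟨i1, i2, i3⟩ := (by decide +kernel : ∀ a, a < 8 → 4 * (a % 4) < 64 ∧ a / 4 ≤ 1 ∧
    mv BU (4 * (a % 4)) = v3 a) a ha
  rw [m.M_d, m.dS_mask hu, e, e3, ← i3, ← mul_one (_ * _), ← m.FV.ah_zero, ← m.FV.el_mk i1 i2]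
  rfl

theorem c_e3 {g : M24} {c a b : ℕ} (hc : okP c = true) (hg : permOf c = g) (ha : a < 8) (hb : b < 8)
    (e : encL lamL (imgM c (T3 a)) = c3 b) : m.M.c g * m.e3 a * (m.M.c g)⁻¹ = m.e3 b := by
  obtain ⟨i1, i2, i3⟩ := (by decide +kernel : ∀ a, a < 8 → T3 a < 2 ^ 24 ∧ encL lamL (T3 a) = c3 a ∧
    Even (wt (T3 a))) a ha
  rw [← m.e3_d ha i1 i2, m.M.c_conj _ _ (by rwa [card_ofMask]), ← hg, permOf_smul hc, m.e3_d hb (imgM_lt hc _) e]

/-- a complement `L3(2)` -/
noncomputable def K2 : Subgroup G := (J7.subgroupOf M24).map m.M.c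

theorem card_K2 : Nat.card m.K2 = 168 := by
  rw [K2, card_map_of_injective m.M.c_inj, Nat.card_congr (subgroupOfEquivOfLe J7_le).toEquiv, card_J7]

theorem K2_le : m.K2 ≤ m.N3 ⊓ normalizer (m.V : Set G) := by
  rintro _ ⟨g, hg, rfl⟩
  refine ⟨H95.mem_normalizer_of_finite ?_, m.M_V ▸ (m.M.ov_c g).mem_norm⟩
  rintro _ ⟨a, ha, rfl⟩
  obtain ⟨c, i1, i2, i3, -⟩ := J7_chk (mem_subgroupOf.1 hg)
  obtain ⟨b, hb, e⟩ := i3 a ha
  exact ⟨b, hb, m.c_e3 i1 i2 ha hb e⟩

theorem K2_inf : m.K2 ⊓ m.C3 = ⊥ := by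
  refine eq_bot_iff.2 ?_
  rintro _ ⟨⟨g, hg, rfl⟩, h⟩
  obtain ⟨c, i1, i2, i3, i4⟩ := J7_chk (mem_subgroupOf.1 hg)
  have : g = 1 := Subtype.ext (i4 fun a ha => by
    obtain ⟨b, hb, e⟩ := i3 a ha
    have := m.c_e3 i1 i2 ha hb e
    rw [← mem_centralizer_iff.1 h _ (m.ea3.mem ha), mul_inv_cancel_right, m.ea3.eq_iff ha hb] at this
    rw [e, this])
  rw [this, map_one]; exact one_mem _

theorem K2_trans {t : G} (ht : t ∈ m.Z3) (h1 : t ≠ 1) : ∃ g ∈ m.K2, g * m.z * g⁻¹ = t := by
  obtain ⟨a, ha, rfl⟩ := ht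
  obtain ⟨j, -, i1, i2⟩ := (by decide +kernel : ∀ a, a < 2 ^ 3 → a ≠ 0 → ∃ j, j < 7 ∧
    H54.memb cfg24 chL (powP a7 j) = true ∧ encL lamL (imgM (powP a7 j) (T3 4)) = c3 a) a ha
    fun e => h1 (e ▸ m.ea3.zero)
  have k := good_of_memb chL_good i1
  exact ⟨_, ⟨⟨_, J7_le k.2⟩, k.2, rfl⟩, m.e3_four ▸ m.c_e3 k.1 rfl (by norm_num) ha i2⟩

omit [Finite G] [IsSimpleGroup G] in
theorem card_of_trans {K : Subgroup G} (hK : K ≤ m.N3) (h : ∀ t ∈ m.Z3, t ≠ 1 → ∃ g ∈ K, g * m.z * g⁻¹ = t) :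
    Nat.card K = 7 * Nat.card ↥(K ⊓ m.H) := by
  classical
  rw [← H54.ncard_clsIn_mul K m.z]
  congr 1
  rw [show H54.clsIn K m.z = {x | x ∈ m.ea3.sub ∧ x ≠ 1} from Set.ext fun x => ⟨by
      rintro ⟨g, hg, rfl⟩
      exact ⟨(mem_normalizer_iff.1 (hK hg) _).1 m.z_mem_Z3, by simpa using m.z1⟩, fun hx => h x hx.1 hx.2⟩,
    m.ea3.ncard, Finset.filter_congr (q := fun a => a ≠ 0) fun a ha => not_congr
      ⟨m.ea3.inj a (Finset.mem_range.1 ha), fun e => e ▸ m.ea3.zero⟩]
  rfl

theorem N3_trans {t : G} (ht : t ∈ m.Z3) (h1 : t ≠ 1) : ∃ g ∈ m.N3, g * m.z * g⁻¹ = t :=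
  let ⟨g, hg, e⟩ := m.K2_trans ht h1
  ⟨g, (m.K2_le hg).1, e⟩

theorem conj_Z3 {t : G} (ht : t ∈ m.Z3) (h1 : t ≠ 1) : IsConj m.z t :=
  let ⟨g, _, e⟩ := m.N3_trans ht h1
  isConj_iff.2 ⟨g, e⟩

theorem card_N3 : Nat.card m.N3 = 2 ^ 15 * (120 * 168) := by
  rw [m.card_of_trans le_rfl fun t => m.N3_trans, m.N3_inf_H, m.card_pre inf_le_left, chD_card]; norm_num

theorem card_N3V : Nat.card m.N3 = 5 * Nat.card ↥(m.N3 ⊓ normalizer (m.V : Set G)) := by
  rw [m.card_of_trans (K := m.N3 ⊓ normalizer (m.V : Set G)) inf_le_left fun t ht h1 =>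
      let ⟨g, hg, e⟩ := m.K2_trans ht h1; ⟨g, m.K2_le hg, e⟩,
    show m.N3 ⊓ normalizer (m.V : Set G) ⊓ m.H = m.pre (M22ext ⊓ St (ofMask 16640) ⊓ St (ofMask 13124355)) by
      rw [inf_inf_distrib_right, m.N3_inf_H, inf_comm _ m.H, m.norm_V]
      ext g
      simp only [mem_inf, m.mem_pre]
      tauto, m.card_pre (inf_le_left.trans inf_le_left), chW_card, m.card_N3]
  norm_num

theorem exists_φ : Nat.card m.L = 2 ^ 15 ∧
    ∃ φ : m.N3 →* Equiv.Perm (Fin 5) × Matrix.SpecialLinearGroup (Fin 3) (ZMod 2),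
      Function.Surjective φ ∧ (∀ g, φ g = 1 ↔ (g : G) ∈ m.L) ∧ ∀ g, (φ g).2 = 1 ↔ (g : G) ∈ m.C3 := by
  obtain ⟨φ2, h2⟩ := exists_perm_hom m.card_N3V
  obtain ⟨φ1, h1⟩ := exists_hom_SL3 m.ea3.elem m.card_Z3 (le_refl m.N3)
  have hk : (φ2.prod φ1).ker.map m.N3.subtype ≤ m.L := by
    rintro _ ⟨g, hg, rfl⟩
    obtain ⟨e2, e1⟩ := Prod.ext_iff.1 (MonoidHom.mem_ker.1 hg)
    have c := (h1 g).1 e1
    have hH := m.C3_le_H c
    refine ⟨c, m.mem_pre.2 ⟨hH, ?_⟩⟩
    have s := (m.mem_pre.1 (m.N3_inf_H.le (mem_inf.2 ⟨g.2, hH⟩))).2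
    have n : ∀ i, permOf Pf ^ i * m.π g * (permOf Pf ^ i)⁻¹ ∈ St (ofMask 13124355) := fun i => by
      have k := pow_mem m.KR_wf.memH i
      have := (m.mem_pre.1 (m.norm_V.le (mem_inf.2 ⟨m.H.mul_mem (m.H.mul_mem k hH) (m.H.inv_mem k),
        h2 g e2 _ (pow_mem (m.C3_le_N3 m.KR_wf.f_mem_C3) i)⟩))).2.2
      rwa [m.π_conj k hH, m.π_pow m.KR_wf.memH, m.KR_wf.per] at this
    obtain ⟨x, hx, k, p, a, hk, e⟩ := m.dec_H' hH
    change m.π g ∈ _
    rw [e] at c s n ⊢
    rw [hk.π_sk hx] at s n ⊢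
    obtain ⟨⟨i1, -⟩, i3, -⟩ := (hk.sk_mem_C3 hx).1 c
    exact mem_E16 hk.ok s (hk.out_of_fix (by norm_num) (by norm_num) i1
      (by rwa [show mv Om 521 = 1374 by decide +kernel])) fun i _ => n i
  have c1 := card_le_of_le hk
  have c2 := m.card_L_le
  have c3 := (φ2.prod φ1).ker.card_mul_index
  have c4 := (φ2.prod φ1).range.card_le_card_group
  rw [card_map_of_injective m.N3.subtype_injective] at c1
  rw [index_ker, m.card_N3] at c3
  rw [Nat.card_prod, card_SL3, Nat.card_perm, Nat.card_fin] at c4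
  have c5 : 2 ^ 15 ≤ Nat.card (φ2.prod φ1).ker :=
    Nat.le_of_mul_le_mul_right (c3 ▸ Nat.mul_le_mul_left _ c4 : 2 ^ 15 * (120 * 168) ≤ _ * (120 * 168)) (by norm_num)
  have c6 : Nat.card (φ2.prod φ1).ker = 2 ^ 15 := by omega
  have e := eq_of_le_of_card_ge hk (by rw [card_map_of_injective m.N3.subtype_injective]; omega)
  refine ⟨by omega, φ2.prod φ1, MonoidHom.range_eq_top.1 (eq_top_of_card_eq _ ?_), fun g => ?_, h1⟩
  · rw [c6] at c3
    rw [Nat.eq_of_mul_eq_mul_left (by norm_num) c3, Nat.card_prod, card_SL3, Nat.card_perm, Nat.card_fin]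
    rfl
  · rw [← e, ← MonoidHom.mem_ker]
    exact ⟨fun h => ⟨g, h, rfl⟩, fun ⟨a, h, e'⟩ => Subtype.ext e' ▸ h⟩

theorem card_L : Nat.card m.L = 2 ^ 15 := m.exists_φ.1

/-- the map onto `S5 × L3(2)` -/
noncomputable def φ : m.N3 →* Equiv.Perm (Fin 5) × Matrix.SpecialLinearGroup (Fin 3) (ZMod 2) :=
  m.exists_φ.2.choose

theorem φ_surj : Function.Surjective m.φ := m.exists_φ.2.choose_spec.1
theorem φ_eq_one {g : m.N3} : m.φ g = 1 ↔ (g : G) ∈ m.L := m.exists_φ.2.choose_spec.2.1 g
theorem φ_snd {g : m.N3} : (m.φ g).2 = 1 ↔ (g : G) ∈ m.C3 := m.exists_φ.2.choose_spec.2.2 g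

omit [Finite G] [IsSimpleGroup G] in
theorem L_le_N3 : m.L ≤ m.N3 := inf_le_left.trans m.C3_le_N3

theorem conj_mem_L {n l : G} (hn : n ∈ m.N3) (hl : l ∈ m.L) : n * l * n⁻¹ ∈ m.L := by
  have := (m.φ_eq_one (g := ⟨n, hn⟩ * ⟨l, m.L_le_N3 hl⟩ * ⟨n, hn⟩⁻¹)).1 (by
    rw [map_mul, map_mul, (m.φ_eq_one (g := ⟨l, _⟩)).2 hl, map_inv, mul_one, mul_inv_cancel])
  exact this

theorem norm_L : normalizer (m.L : Set G) = m.N3 := by
  refine le_antisymm (fun g hg => H95.mem_normalizer_of_finite fun t ht => m.mem_Z3_of_cent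
    ((mem_normalizer_iff.1 hg t).1 (m.Z3_le_L ht)) fun l hl => ?_)
    fun g hg => H95.mem_normalizer_of_finite fun l hl => m.conj_mem_L hg hl
  have := mem_centralizer_iff.1 ((mem_normalizer_iff''.1 hg l).1 hl).1 t ht
  calc l * (g * t * g⁻¹) = g * (g⁻¹ * l * g * t) * g⁻¹ := by group
    _ = _ := by rw [← this]; group

omit [IsSimpleGroup G] in
theorem center_L : center m.L = m.Z3.subgroupOf m.L := by
  ext g
  exact ⟨fun h => m.mem_Z3_of_cent g.2 fun l hl => congrArg Subtype.val (mem_center_iff.1 h ⟨l, hl⟩),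
    fun h => mem_center_iff.2 fun l => Subtype.ext (mem_centralizer_iff.1 l.2.1 _ h).symm⟩

omit [IsSimpleGroup G] in
theorem card_center_L : Nat.card (center m.L) = 8 := by
  rw [m.center_L, Nat.card_congr (subgroupOfEquivOfLe m.Z3_le_L).toEquiv, m.card_Z3]; rfl

omit [Finite G] [IsSimpleGroup G] in
theorem mem_iff_of_eq {X : Type*} [Group X] {S : Subgroup X} {a b : X} (h : a = b) : a ∈ S ↔ b ∈ S := h ▸ Iff.rfl

theorem special_L : IsSpecial 2 m.L := by
  have hp : IsPGroup 2 m.L := IsPGroup.of_card m.card_L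
  have sq : ∀ x : m.L, x ^ 2 ∈ center m.L := fun x => by rw [m.center_L, pow_two]; exact m.L_sq x.2
  have h1 : commutator m.L ≤ center m.L := commutator_le.2 fun a _ b _ => by
    rw [show ⁅a, b⁆ = a ^ 2 * (a⁻¹ * b) ^ 2 * b⁻¹ ^ 2 by simp only [commutatorElement_def, pow_two]; group]
    exact mul_mem (mul_mem (sq _) (sq _)) (sq _)
  have h2 : center m.L ≤ commutator m.L := fun t ht => by
    by_cases h1 : (t : G) = 1
    · exact (show t = 1 from Subtype.ext h1) ▸ one_mem _
    rw [m.center_L] at ht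
    obtain ⟨g, hg, e⟩ := m.N3_trans ht h1
    have := commutator_mem_commutator (mem_top (⟨_, m.conj_mem_L hg (m.s_mem_L (x := 5) (by norm_num)
      (by decide +kernel))⟩ : m.L)) (mem_top (⟨_, m.conj_mem_L hg (m.s_mem_L (x := 17) (by norm_num)
      (by decide +kernel))⟩ : m.L))
    refine (mem_iff_of_eq ?_).2 this
    refine Subtype.ext ?_
    change (t : G) = g * _ * g⁻¹ * (g * _ * g⁻¹) * (g * _ * g⁻¹)⁻¹ * (g * _ * g⁻¹)⁻¹
    have k := m.s_conj (v := 5) (w := 17) (by norm_num) (by norm_num)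
    rw [show bl 5 17 = 1 by decide +kernel, pow_one, m.s_z _ (by norm_num), ← mul_inv_eq_iff_eq_mul] at k
    rw [← show _ = (t : G) from e, ← k]; group
  exact ⟨hp, le_antisymm ((H1.frattini_le_iff_of_isPGroup hp).2 ⟨h1, sq⟩) (h2.trans (H1.commutator_le_frattini hp)),
    le_antisymm h1 h2⟩

end Md
end H75.J4
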