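import Mathlib
import Cfsg.Agent.Lib.J4L.Pentad
import Cfsg.Agent.Lib.Core.HallSZ

/-!
# The 7-local structure
-/

set_option autoImplicit false
set_option maxRecDepth 100000

namespace H75.J4
open Cfsg H15 H96.Geo Subgroup
open H54 (band band_eq_true bimp bimp_eq_true bor bor_eq_true allL allL_iff anyL anyL_iff nth cntLt cntLt_eq tb tb_eq sel sel_eq)
open scoped Pointwise commutatorElement

/-- an element of order 7 -/
def wsv : List ℕ := [1, 0, 2, 1, 1, 0, 2, 1, 0, 1, 0, 0, 2, 1, 0, 2]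
def Xsv : ℕ := 0xee5b9d2d138be700a99ef263fd346c7d5703
/-- an element squaring it -/
def wsn : List ℕ := [2, 1, 0, 0, 0, 2, 1, 1, 0, 0, 1, 0, 1, 0, 0, 1]
def Xsn : ℕ := 0x626d5834ad826bfeb0f3a713df333c7d7702
def Psn : ℕ := 0xb95ed822a68b82c50d243cc525da80

section General
variable {G : Type*} [Group G]

theorem cent_zp (x : G) : centralizer (zpowers x : Set G) = centralizer {x} := by
  rw [zpowers_eq_closure, centralizer_closure]

theorem eq_one_of_coprime {x : G} {a b : ℕ} (h : Nat.Coprime a b) (ha : x ^ a = 1) (hb : x ^ b = 1) : x = 1 :=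
  orderOf_eq_one_iff.1 (Nat.eq_one_of_dvd_coprimes h (orderOf_dvd_of_pow_eq_one ha) (orderOf_dvd_of_pow_eq_one hb))

theorem pow_card_eq_one_of_mem {K : Subgroup G} {x : G} (hx : x ∈ K) : x ^ Nat.card K = 1 :=
  congrArg Subtype.val (pow_card_eq_one' (x := (⟨x, hx⟩ : K)))

theorem orderOf_dvd_card_of_mem {K : Subgroup G} {x : G} (hx : x ∈ K) : orderOf x ∣ Nat.card K :=
  orderOf_dvd_of_pow_eq_one (pow_card_eq_one_of_mem hx)

theorem zpowers_pow_prime [Finite G] {x : G} {p i : ℕ} (hp : p.Prime) (o : orderOf x = p) (hi : i < p)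
    (h0 : i ≠ 0) : zpowers (x ^ i) = zpowers x :=
  le_antisymm (zpowers_le.2 (pow_mem (mem_zpowers x) i)) (zpowers_le.2 (mem_zpowers_pow_iff.2 (by
    rw [o]; exact (Nat.coprime_of_lt_prime h0 hi hp).symm)))

theorem cent_pow_prime [Finite G] {x : G} {p i : ℕ} (hp : p.Prime) (o : orderOf x = p) (hi : i < p)
    (h0 : i ≠ 0) : centralizer {x ^ i} = centralizer {x} := by
  rw [← cent_zp, zpowers_pow_prime hp o hi h0, cent_zp]

theorem exists_pow_of_mem [Finite G] {x y : G} (h : y ∈ zpowers x) : ∃ i, i < orderOf x ∧ y = x ^ i := by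
  classical
  rw [mem_zpowers_iff_mem_range_orderOf, Finset.mem_image] at h
  obtain ⟨i, hi, e⟩ := h
  exact ⟨i, Finset.mem_range.1 hi, e.symm⟩

theorem exists_gen [Finite G] {S : Subgroup G} {p : ℕ} [Fact p.Prime] (hS : Nat.card S = p) :
    ∃ x, orderOf x = p ∧ zpowers x = S := by
  obtain ⟨x, ox⟩ := exists_prime_orderOf_dvd_card' (G := S) p (by rw [hS])
  rw [← orderOf_coe] at ox
  exact ⟨x, ox, eq_of_le_of_card_ge (zpowers_le.2 x.2) (by rw [hS, Nat.card_zpowers, ox])⟩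

theorem card_inf_cent {X : Type*} [Group X] {I : Subgroup G} (e : I ≃* X) (y : I) :
    Nat.card ↥(I ⊓ centralizer {(y : G)}) = Nat.card (centralizer {e y}) := by
  refine Nat.card_congr ⟨fun g => ⟨e ⟨g, g.2.1⟩, mem_centralizer_singleton_iff.2 ?_⟩,
    fun a => ⟨e.symm a, (e.symm a).2, mem_centralizer_singleton_iff.2 ?_⟩, fun g => by simp, fun a => by simp⟩
  · rw [← map_mul, ← map_mul]
    exact congrArg e (Subtype.ext (mem_centralizer_singleton_iff.1 g.2.2))
  · rw [← coe_mul, ← coe_mul]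
    exact congrArg _ (e.injective (by simpa using mem_centralizer_singleton_iff.1 a.2))

theorem mem_sup_cent {x g : G} {I : Subgroup G} (hI : I ≤ centralizer {x}) (hg : g ∈ zpowers x ⊔ I) :
    ∃ a ∈ zpowers x, ∃ j ∈ I, a * j = g := by
  have := coe_mul_of_right_le_normalizer_left (zpowers x) I
    (hI.trans (cent_zp x ▸ centralizer_le_normalizer _))
  exact this.le hg

theorem conj_pow_eq {n x : G} {a : ℕ} (h : n * x * n⁻¹ = x ^ a) (k : ℕ) : n ^ k * x * (n ^ k)⁻¹ = x ^ a ^ k := by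
  induction k with
  | zero => simp
  | succ k ih =>
    rw [pow_succ a, pow_mul, ← ih, conj_pow, ← h, pow_succ]; group

end General

namespace Md
variable {G : Type*} [Group G] {m : Md G}

theorem KR.sk_comm {x k : G} {p a y : ℕ} (h : m.KR x p a) (h0 : out a = 0) (hk : k ∈ m.K) (hy : y < 4096)
    (e : m.s y * k * x = x * (m.s y * k)) : mv p y = y ∧ k * x = x * k := by
  rw [← mul_assoc, h.mul_s hy, h0, zero_mul, pow_zero, mul_one, mul_assoc, mul_assoc] at e
  have := sk_eq (m.K.mul_mem hk h.memK) (m.K.mul_mem h.memK hk) hy (mv_lt _ _) e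
  exact ⟨this.1.symm, this.2⟩

theorem K_eq_of_pow {k k' : G} (hk : k ∈ m.K0) (hk' : k' ∈ m.K) (e : m.π k = m.π k') {n : ℕ}
    (hn : Nat.Coprime n 6) (h : k ^ n = 1) (h' : k' ^ n = 1) : k = k' := by
  have : k⁻¹ * k' ∈ zpowers (m.ω * m.z) := m.K_inf_pre.le ⟨m.K.mul_mem (m.K.inv_mem (m.K0_le hk)) hk',
    m.mem_pre.2 ⟨m.H.mul_mem (m.H.inv_mem hk.1) hk'.1, by
      rw [m.π_mul' (m.H.inv_mem hk.1) hk'.1, m.π_inv hk.1, e, inv_mul_cancel]; exact one_mem _⟩⟩
  have c : Commute k (k⁻¹ * k') := by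
    obtain ⟨i, e'⟩ := this
    rw [← e']
    exact (Commute.mul_right (mem_centralizer_singleton_iff.1 hk.2) (m.mem_H.1 hk.1)).zpow_right i
  have h1 := pow_card_eq_one_of_mem this
  rw [Nat.card_zpowers, m.orderOf_ωz] at h1
  exact inv_mul_eq_one.1 (eq_one_of_coprime hn (by
    rw [← one_mul (_ ^ n), ← h, ← c.mul_pow, mul_inv_cancel_left, h', h]) h1)

theorem conj_mem_K {k x : G} (hk : k ∈ m.K) (hx : x ∈ m.K) : k * x * k⁻¹ ∈ m.K :=
  m.K.mul_mem (m.K.mul_mem hk hx) (m.K.inv_mem hk)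

variable [Finite G]

theorem seven_std {x : G} (h : m.KR x Xsv M22.c7A) (h7 : x ^ 7 = 1) :
    Nat.card ↥(m.H ⊓ centralizer {x}) = 84 ∧ (∃ n ∈ m.H, n * x * n⁻¹ = x ^ 2) ∧ ∀ n ∈ m.H, n * x * n⁻¹ ≠ x⁻¹ := by
  have h0 : out M22.c7A = 0 := by decide +kernel
  refine ⟨?_, ?_, fun n hn e => ?_⟩
  · rw [show m.H ⊓ centralizer {x} = m.K ⊓ m.pre (M22ext ⊓ centralizer {permOf M22.c7A}) from ?_,
      m.card_K_pre inf_le_left, MM.card_ext_cent (s := 7071085118430414243076461544291607)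
      (by decide +kernel) (by decide +kernel) (by decide +kernel) (by decide +kernel)
      (by decide +kernel), M22.card_cent7A]
    ext g
    rw [mem_inf, mem_inf, m.mem_pre, mem_inf, mem_centralizer_singleton_iff (g := x),
      mem_centralizer_singleton_iff (g := permOf _)]
    constructor
    · rintro ⟨hg, e⟩
      refine ⟨?_, hg, m.π_mem' hg, by rw [← h.per, ← m.π_mul' hg h.memH, e, m.π_mul' h.memH hg]⟩
      obtain ⟨y, hy, k, hk, rfl⟩ := m.dec_H hg
      rwa [(by decide +kernel : ∀ y, y < 4096 → mv Xsv y = y → y = 0) y hy (h.sk_comm h0 hk hy e).1, m.s_zero,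
        one_mul]
    · rintro ⟨hk, hg, -, e⟩
      exact ⟨hg, (eq_mul_inv_iff_mul_eq.1 (K_eq_of_pow (h.mem_K0 h0) (conj_mem_K hk h.memK)
        (by rw [m.π_conj hg h.memH, h.per, e, mul_inv_cancel_right]) (by norm_num) h7
        (by rw [conj_pow, h7]; simp))).symm⟩
  · have k : m.KR (m.ev wsn) Xsn Psn := m.KR_of_wchk (by decide +kernel)
    refine ⟨_, k.memH, (K_eq_of_pow (pow_mem (h.mem_K0 h0) 2) (conj_mem_K k.memK h.memK) ?_ (n := 7) (by norm_num)
      (by rw [← pow_mul, mul_comm, pow_mul, h7, one_pow]) (by rw [conj_pow, h7]; simp)).symm⟩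
    rw [m.π_conj k.memH h.memH, m.π_pow h.memH, h.per, k.per, eq_mul_inv_iff_mul_eq, pow_two,
      ← permOf_mulP h.ok h.ok, ← permOf_mulP (okP_mulP h.ok h.ok) k.ok, ← permOf_mulP k.ok h.ok]
    exact congrArg _ (by decide +kernel)
  · have e' := congrArg m.π e
    rw [m.π_conj hn h.memH, m.π_inv h.memH, h.per,
      permOf_inv_of_mul (b := M22.c7B) h.ok (by decide +kernel) (by decide +kernel)] at e'
    by_cases i : m.π n ∈ Spor.M22
    · exact M22.nc7A_7B _ i e'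
    · have s : Good M22ext 7071085118430414243076461544291607 := good_of_memb chainX.1 (by decide +kernel)
      refine M22.nc7A_7B _ (mul_mem_M22 (m.π_mem' hn) s.2 i fun j => ?_) ?_
      · exact absurd ((out_eq_zero s.1).2 (mem_M22.1 j).2.2) (by decide +kernel)
      · rw [← e', mul_assoc (m.π n), ← permOf_mulP s.1 h.ok, show mulP 7071085118430414243076461544291607 M22.c7A =
          mulP M22.c7A 7071085118430414243076461544291607 by decide +kernel, permOf_mulP h.ok s.1]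
        group

theorem seven_H {x : G} (hx : x ∈ m.H) (o : orderOf x = 7) :
    Nat.card ↥(m.H ⊓ centralizer {x}) = 84 ∧ (∃ n ∈ m.H, n * x * n⁻¹ = x ^ 2) ∧ ∀ n ∈ m.H, n * x * n⁻¹ ≠ x⁻¹ := by
  haveI : Fact (Nat.Prime 7) := ⟨by norm_num⟩
  obtain ⟨y, k, h7⟩ := (m.KR_of_wchk (w := wsv) (p := Xsv) (a := M22.c7A) (by decide +kernel)).exists_odd (n := 7)
    (by decide) (by decide +kernel)
  have oy : orderOf y = 7 := orderOf_eq_prime h7 fun e =>
    permOf_ne_one k.ok (i := 1) (by norm_num) (by decide +kernel) (by rw [← k.per, e, m.π_one])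
  obtain ⟨i1, ⟨n, hn, i2⟩, i3⟩ := seven_std k h7
  obtain ⟨g, hg, i, hi, e⟩ := exists_conj_prime (p := 7) (by rw [m.card_H]; norm_num) k.memH hx oy o
  have i0 : i ≠ 0 := fun e' => by
    rw [e', pow_zero, conj_eq_one_iff] at e; rw [e, orderOf_one] at oy; exact absurd oy (by norm_num)
  obtain ⟨j, -, e'⟩ := exists_pow_of_mem (zpowers_pow_prime (by norm_num) o hi i0 ▸ mem_zpowers x)
  rw [← e, conj_pow] at e'
  refine ⟨?_, ⟨_, m.H.mul_mem (m.H.mul_mem hg hn) (m.H.inv_mem hg), ?_⟩, fun n hn e'' => i3 _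
    (m.H.mul_mem (m.H.mul_mem (m.H.inv_mem hg) hn) hg) ?_⟩
  · rw [← cent_pow_prime (by norm_num) o hi i0, ← e, ← i1, ← MM.card_cent2_conj g m.z y, m.conj_z hg]
  · rw [e', conj_pow, ← pow_mul, mul_comm j, pow_mul, ← i2, conj_pow]; group
  · have : n * x ^ i * n⁻¹ = (x ^ i)⁻¹ := by rw [← conj_pow, e'', inv_pow]
    rw [← e] at this
    calc _ = g⁻¹ * (n * (g * y * g⁻¹) * n⁻¹) * g := by group
      _ = _ := by rw [this]; group

theorem seven_a {t x : G} (ht : IsConj m.z t) (hx : x * t = t * x) (o : orderOf x = 7) :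
    Nat.card ↥(centralizer {t} ⊓ centralizer {x}) = 84 ∧ (∃ n ∈ centralizer {t}, n * x * n⁻¹ = x ^ 2) ∧
      ∀ n ∈ centralizer {t}, n * x * n⁻¹ ≠ x⁻¹ := by
  obtain ⟨g, rfl⟩ := isConj_iff.1 ht
  have := seven_H (m := m.map (MulAut.conj g)) (mem_centralizer_singleton_iff.2 hx) o
  exact this

variable [IsSimpleGroup G] (m)

theorem seven_b {t x : G} (h1 : t ≠ 1) (h2 : t * t = 1) (ht : ¬ IsConj m.z t) (hx : x * t = t * x)
    (o : orderOf x = 7) : Nat.card ↥(centralizer {t} ⊓ centralizer {x}) = 56 := by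
  have hS : (ofMask 3).card = 2 := by rw [card_ofMask]; decide +kernel
  obtain ⟨g, rfl⟩ := m.exists_conj_duad h1 h2 ht hS
  exact (m.M.conj g).cent7 (m.M_loc.conj g) hS o hx

theorem five_b {t x : G} (h1 : t ≠ 1) (h2 : t * t = 1) (ht : ¬ IsConj m.z t) (hx : x * t = t * x)
    (o : orderOf x = 5) : Nat.card ↥(centralizer {t} ⊓ centralizer {x}) = 80 := by
  have hS : (ofMask 3).card = 2 := by rw [card_ofMask]; decide +kernel
  obtain ⟨g, rfl⟩ := m.exists_conj_duad h1 h2 ht hS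
  exact (m.M.conj g).cent5 (m.M_loc.conj g) hS o hx

include m in
theorem not16 {x : G} (o : orderOf x = 7) : ¬ 2 ^ 4 ∣ Nat.card (centralizer {x}) := fun h => by
  obtain ⟨P, hP, c⟩ := exists_sub_card h
  obtain ⟨y, hy, y1, y2, l⟩ := exists_central (IsPGroup.of_card c) fun e => by simp [e] at c
  have d := card_dvd_of_le (le_inf l hP)
  have e := (mem_centralizer_singleton_iff.1 (hP hy)).symm
  rw [c] at d
  by_cases ht : IsConj m.z y
  · rw [(seven_a ht e o).1] at d; norm_num at d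
  · rw [m.seven_b y1 y2 ht e o] at d; norm_num at d

theorem φ_fst {x : m.N3} (o : orderOf (x : G) = 7) : (m.φ x).1 = 1 :=
  eq_one_of_coprime (a := 7) (b := 120) (by norm_num)
    (by rw [← Prod.pow_fst, ← map_pow, ← o, orderOf_coe, pow_orderOf_eq_one, map_one, Prod.fst_one])
    (by have := pow_card_eq_one' (x := (m.φ x).1); rwa [Nat.card_perm, Nat.card_fin] at this)

theorem φ_snd_five {x : m.N3} (o : orderOf (x : G) = 5) : (x : G) ∈ m.C3 :=
  m.φ_snd.1 (eq_one_of_coprime (a := 5) (b := 168) (by norm_num)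
    (by rw [← Prod.pow_snd, ← map_pow, show x ^ 5 = 1 from Subtype.ext (o ▸ pow_orderOf_eq_one (x : G)), map_one,
      Prod.snd_one])
    (card_SL3 ▸ pow_card_eq_one'))

theorem lift7 {x n : m.N3} (o : orderOf (x : G) = 7) (h : m.φ (n * x * n⁻¹) = m.φ x) :
    ∃ l : m.N3, m.φ l = 1 ∧ Commute (l * n) x := by
  haveI : Fact (Nat.Prime 7) := ⟨by norm_num⟩
  rw [orderOf_coe] at o
  obtain ⟨k, hk, j, -, e⟩ := exists_conj_prime (p := 7) (K := (zpowers (m.φ x)).comap m.φ)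
    (fun d => by have := d.trans (card_subgroup_dvd_card _); rw [m.card_N3] at this; norm_num at this)
    (x := n * x * n⁻¹) (y := x) (by rw [mem_comap, h]; exact mem_zpowers _) (mem_zpowers _)
    (by rw [H9.orderOf_conj, o]) o
  obtain ⟨a, ha⟩ := hk
  have hl : m.φ ((x ^ a)⁻¹ * k) = 1 := by rw [map_mul, map_inv, map_zpow, inv_mul_eq_one]; exact ha
  have e' : (x ^ a)⁻¹ * k * n * x * ((x ^ a)⁻¹ * k * n)⁻¹ = x ^ j := by
    calc _ = (x ^ a)⁻¹ * (k * (n * x * n⁻¹) * k⁻¹) * x ^ a := by group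
      _ = _ := by rw [e]; group
  refine ⟨_, hl, mul_inv_eq_iff_eq_mul.1 (e'.trans (mul_inv_eq_one.1 (eq_one_of_coprime (a := 7) (b := 2 ^ 15)
    (by norm_num) ?_ ?_)))⟩
  · rw [((Commute.refl x).pow_left j).inv_right.mul_pow, ← pow_mul, mul_comm, pow_mul, inv_pow, ← o,
      pow_orderOf_eq_one]; simp
  · refine Subtype.ext (m.card_L ▸ pow_card_eq_one_of_mem (m.φ_eq_one.1 ?_))
    rw [← e', map_mul, map_inv, mul_inv_eq_one, ← h, mul_assoc _ n, mul_inv_rev, ← mul_assoc _ n⁻¹,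
      mul_assoc _ (n * x), map_mul, map_mul, hl, map_inv, hl, inv_one, one_mul, mul_one]

theorem exists_S5 {x : G} (hx : x ∈ m.N3) (o : orderOf x = 7) :
    Nonempty (↥(m.C3 ⊓ centralizer {x}) ≃* Equiv.Perm (Fin 5)) := by
  let ψ := ((MonoidHom.fst _ _).comp m.φ).comp (inclusion (inf_le_left.trans m.C3_le_N3 :
    m.C3 ⊓ centralizer {x} ≤ m.N3))
  have hs : Function.Surjective ψ := fun σ => by
    obtain ⟨n, hn⟩ := m.φ_surj (σ, 1)
    obtain ⟨l, hl, c⟩ := m.lift7 (x := ⟨x, hx⟩) (n := n) o (by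
      rw [map_mul, map_mul, map_inv, hn, mul_inv_eq_iff_eq_mul]
      exact Prod.ext (by simp [m.φ_fst (x := ⟨x, hx⟩) o]) (by simp))
    have e : m.φ (l * n) = (σ, 1) := by rw [map_mul, hl, one_mul, hn]
    exact ⟨⟨(l * n : m.N3), m.φ_snd.1 (by rw [e]), mem_centralizer_singleton_iff.2 (congrArg Subtype.val c)⟩,
      congrArg Prod.fst e⟩
  refine ⟨MulEquiv.ofBijective ψ ⟨(MonoidHom.ker_eq_bot_iff ψ).1 (by_contra fun h => m.not16 o ?_), hs⟩⟩
  have c := ψ.ker.card_mul_index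
  rw [index_ker, MonoidHom.range_eq_top.2 hs, card_top, Nat.card_perm, Nat.card_fin] at c
  have : IsPGroup 2 ψ.ker := fun g => ⟨15, Subtype.ext (Subtype.ext (m.card_L ▸ pow_card_eq_one_of_mem
    ((m.φ_eq_one (g := ⟨g, m.C3_le_N3 g.1.2.1⟩)).1 (Prod.ext g.2 (m.φ_snd.2 g.1.2.1)))))⟩
  obtain ⟨n, hn, e⟩ := this.nontrivial_iff_card.1 ((nontrivial_iff_ne_bot _).2 h)
  refine Dvd.dvd.trans ?_ (card_dvd_of_le (inf_le_right : m.C3 ⊓ centralizer {x} ≤ _))
  obtain ⟨n, rfl⟩ := Nat.exists_eq_succ_of_ne_zero hn.ne'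
  rw [← c, e, pow_succ 2 n]
  exact ⟨2 ^ n * 15, by rw [show Nat.factorial 5 = 120 from rfl]; ring⟩

theorem seven_main {x : G} (hx : x ∈ m.N3) (o : orderOf x = 7) :
    zpowers x ⊔ m.C3 ⊓ centralizer {x} = centralizer {x} ∧ zpowers x ⊓ (m.C3 ⊓ centralizer {x}) = ⊥ ∧
      Nat.card (centralizer {x}) = 840 ∧ Nat.card (normalizer (zpowers x : Set G)) = 2520 ∧
      normalizer (zpowers x : Set G) ≤ m.N3 := by
  haveI : Fact (Nat.Prime 7) := ⟨by norm_num⟩
  obtain ⟨ψ⟩ := m.exists_S5 hx o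
  set I := m.C3 ⊓ centralizer {x} with hI
  have x7 : x ^ 7 = 1 := o ▸ pow_orderOf_eq_one x
  have cI : Nat.card I = 120 := by rw [Nat.card_congr ψ.toEquiv, Nat.card_perm, Nat.card_fin]; rfl
  have l0 : zpowers x ⊔ I ≤ centralizer {x} := sup_le (zpowers_le.2 (mem_centralizer_singleton_iff.2 rfl)) inf_le_right
  have inv : ∀ y ∈ zpowers x ⊔ I, y * y = 1 → y ∈ I := fun y hy y2 => by
    obtain ⟨a, ⟨i, rfl⟩, j, hj, rfl⟩ := mem_sup_cent inf_le_right hy
    have c : Commute (x ^ i) j := (show Commute j x from mem_centralizer_singleton_iff.1 hj.2).symm.zpow_left i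
    have : (x ^ i * j) ^ 7 = x ^ i * j := by rw [pow_succ, show 6 = 2 * 3 from rfl, pow_mul, pow_two, y2]; simp
    rw [← this, c.mul_pow, ← zpow_natCast, ← zpow_mul, mul_comm i, zpow_mul, zpow_natCast, x7, one_zpow, one_mul]
    exact pow_mem hj 7
  have key : ∀ y : I, (y : G) ≠ 1 → (y : G) * y = 1 → ∀ c, Nat.card (centralizer {ψ y}) = c → c = 12 ∨ c = 8 →
      centralizer {x} ⊓ centralizer {(y : G)} ≤ zpowers x ⊔ I ∧ (IsConj m.z y ↔ c = 12) := fun y y1 y2 c hc h => by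
    have e := (mem_centralizer_singleton_iff.1 y.2.2).symm
    have d1 : 7 ∣ Nat.card ↥((zpowers x ⊔ I) ⊓ centralizer {(y : G)}) :=
      o ▸ orderOf_dvd_card_of_mem ⟨mem_sup_left (mem_zpowers x), mem_centralizer_singleton_iff.2 e⟩
    have d2 : c ∣ Nat.card ↥((zpowers x ⊔ I) ⊓ centralizer {(y : G)}) := by
      rw [← hc, ← card_inf_cent]; exact card_dvd_of_le (inf_le_inf_right _ le_sup_right)
    have d3 := Nat.Coprime.mul_dvd_of_dvd_of_dvd (by rcases h with rfl | rfl <;> norm_num) d1 d2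
    have l := inf_le_inf_right (centralizer {(y : G)}) l0
    have d4 := d3.trans (card_dvd_of_le l)
    have d5 := Nat.le_of_dvd Nat.card_pos d3
    rw [inf_comm] at d4
    by_cases ht : IsConj m.z y
    · have := (seven_a ht e o).1
      rw [this] at d4
      obtain rfl : c = 12 := h.resolve_right fun e => by norm_num [e] at d4
      exact ⟨(eq_of_le_of_card_ge l (by rw [inf_comm, this]; omega)).ge.trans inf_le_left, iff_of_true ht rfl⟩
    · have := m.seven_b y1 y2 ht e o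
      rw [this] at d4
      obtain rfl : c = 8 := h.resolve_left fun e => by norm_num [e] at d4
      exact ⟨(eq_of_le_of_card_ge l (by rw [inf_comm, this]; omega)).ge.trans inf_le_left,
        iff_of_false ht (by norm_num)⟩
  have s5 : ∀ y : I, (y : G) ≠ 1 → (y : G) * y = 1 → (Nat.card (centralizer {ψ y}) = 12 ∧
      IsConj (Equiv.swap 0 1) (ψ y)) ∨ Nat.card (centralizer {ψ y}) = 8 := fun y y1 y2 =>
    S5_invol _ (fun e => y1 (by rw [ψ.map_eq_one_iff.1 e]; rfl)) (by rw [← map_mul, ψ.map_eq_one_iff]; exact Subtype.ext y2)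
  have hc : ∀ y ∈ zpowers x ⊔ I, y ≠ 1 → y * y = 1 → centralizer {x} ⊓ centralizer {y} ≤ zpowers x ⊔ I :=
    fun y hy y1 y2 => (key ⟨y, inv y hy y2⟩ y1 y2 _ rfl ((s5 ⟨y, inv y hy y2⟩ y1 y2).imp_left And.left)).1
  have sy : ∀ σ : Equiv.Perm (Fin 5), σ ≠ 1 → σ * σ = 1 → (ψ.symm σ : G) ≠ 1 ∧ (ψ.symm σ : G) * ψ.symm σ = 1 :=
    fun σ h1 h2 => ⟨fun e => h1 (ψ.symm.map_eq_one_iff.1 (Subtype.ext e)), by rw [← coe_mul, ← map_mul, h2, map_one]; rfl⟩
  obtain ⟨u1, u2⟩ := sy (Equiv.swap 0 1) (by decide) (by decide)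
  obtain ⟨t1, t2⟩ := sy (Equiv.swap 0 1 * Equiv.swap 2 3) (by decide) (by decide)
  have uz := (key _ u1 u2 12 (by rw [ψ.apply_symm_apply, S5_swap.1]) (Or.inl rfl)).2.2 rfl
  have tz := mt (key _ t1 t2 8 (by rw [ψ.apply_symm_apply, S5_swap.2]) (Or.inr rfl)).2.1 (by norm_num)
  set u := ψ.symm (Equiv.swap 0 1) with hu
  have red : ∀ n ∈ normalizer (zpowers x : Set G), ∃ j ∈ I, j⁻¹ * n ∈ centralizer {(u : G)} := fun n hn => by
    have w2 : n * u * n⁻¹ * (n * u * n⁻¹) = 1 := by rw [conj_mul, u2]; simp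
    have wz := m.isConj_conj n _ uz
    have wD : n * u * n⁻¹ ∈ centralizer {x} := by
      rw [← cent_zp]
      refine mem_centralizer_iff.2 fun a ha => ?_
      have := mem_centralizer_iff.1 ((cent_zp x).ge u.2.2) _ ((mem_normalizer_iff''.1 hn a).1 ha)
      calc _ = n * (n⁻¹ * a * n * u) * n⁻¹ := by group
        _ = _ := by rw [this]; group
    have wI := inv _ (invol_mem l0 hc (mem_sup_right (ψ.symm _).2) t1 t2 wD w2 fun e => tz (wz.trans e)) w2
    have w1 : n * u * n⁻¹ ≠ 1 := fun e => u1 (conj_eq_one_iff.1 e)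
    rcases s5 ⟨_, wI⟩ w1 w2 with ⟨-, h⟩ | h
    · obtain ⟨σ, e⟩ := isConj_iff.1 h
      have := congrArg (fun a => (ψ.symm a : G)) e
      simp only [map_mul, map_inv, MulEquiv.symm_apply_apply, coe_mul, coe_inv, ← hu] at this
      refine ⟨_, (ψ.symm σ).2, mem_centralizer_singleton_iff.2 ?_⟩
      calc _ = (ψ.symm σ : G)⁻¹ * (n * u * n⁻¹) * n := by group
        _ = _ := by rw [← this]; group
    · exact absurd ((key ⟨_, wI⟩ w1 w2 8 h (Or.inr rfl)).2.1 wz) (by norm_num)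
  have cn : centralizer {x} ≤ normalizer (zpowers x : Set G) := cent_zp x ▸ centralizer_le_normalizer _
  have eD : zpowers x ⊔ I = centralizer {x} := le_antisymm l0 fun n hn => by
    obtain ⟨j, hj, h⟩ := red n (cn hn)
    exact (Subgroup.mul_mem_cancel_left _ (inv_mem (mem_sup_right hj))).1
      (hc _ (mem_sup_right u.2) u1 u2 (mem_inf.2 ⟨mul_mem (inv_mem (mem_inf.1 hj).2) hn, h⟩))
  have eb : zpowers x ⊓ I = ⊥ := inf_eq_bot_of_coprime (by rw [Nat.card_zpowers, o, cI]; norm_num)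
  have cD : Nat.card (centralizer {x}) = 840 := by
    rw [← eD, H3.card_sup_of_inf_eq_bot (inf_le_right.trans cn) eb, Nat.card_zpowers, o, cI]
  obtain ⟨-, ⟨r, hr, r2⟩, ninv⟩ := seven_a uz (mem_centralizer_singleton_iff.1 u.2.2).symm o
  have rn : r ∈ normalizer (zpowers x : Set G) := H95.mem_normalizer_of_finite (by
    rintro _ ⟨i, rfl⟩
    rw [← _root_.conj_zpow, r2]; exact zpow_mem (pow_mem (mem_zpowers x) 2) i)
  have cN : Nat.card (normalizer (zpowers x : Set G)) = 2520 := by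
    classical
    rw [← H54.ncard_clsIn_mul _ x, inf_eq_right.2 cn, cD,
      show H54.clsIn (normalizer (zpowers x : Set G)) x = ↑(({1, 2, 4} : Finset ℕ).image (x ^ ·)) from ?_,
      Set.ncard_coe_finset, Finset.card_image_of_injOn]
    · rfl
    · intro a ha b hb e
      refine pow_injOn_Iio_orderOf ?_ ?_ e <;> rw [o]
      · revert ha; simp only [Finset.coe_insert, Finset.coe_singleton]; rintro (rfl | rfl | rfl) <;> norm_num
      · revert hb; simp only [Finset.coe_insert, Finset.coe_singleton]; rintro (rfl | rfl | rfl) <;> norm_num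
    ext y
    simp only [Finset.coe_image, Finset.coe_insert, Finset.coe_singleton, Set.mem_image, Set.mem_insert_iff,
      Set.mem_singleton_iff]
    constructor
    · rintro ⟨n, hn, rfl⟩
      obtain ⟨i, hi, e⟩ := exists_pow_of_mem ((mem_normalizer_iff.1 hn x).1 (mem_zpowers x))
      refine ⟨i, by_contra fun h => ?_, e.symm⟩
      obtain ⟨j, hj, h'⟩ := red n hn
      have e' : j⁻¹ * n * x * (j⁻¹ * n)⁻¹ = x ^ i := by
        have c : Commute j (x ^ i) := (show Commute j x from mem_centralizer_singleton_iff.1 hj.2).pow_right i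
        calc _ = j⁻¹ * (n * x * n⁻¹ * j) := by group
          _ = _ := by rw [e, ← c.eq]; group
      have i0 : i ≠ 0 := fun e0 => by
        rw [e0, pow_zero, conj_eq_one_iff] at e; rw [e, orderOf_one] at o; exact absurd o (by norm_num)
      obtain ⟨k, hk⟩ : ∃ k, (2 ^ k * i + 1) % 7 = 0 := by
        rw [o] at hi
        interval_cases i
        exacts [absurd rfl i0, by simp at h, by simp at h, ⟨1, rfl⟩, by simp at h, ⟨2, rfl⟩, ⟨0, rfl⟩]
      refine ninv _ (mul_mem (pow_mem hr k) h') (eq_inv_of_mul_eq_one_left ?_)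
      rw [show r ^ k * (j⁻¹ * n) * x * (r ^ k * (j⁻¹ * n))⁻¹ = r ^ k * (j⁻¹ * n * x * (j⁻¹ * n)⁻¹) * (r ^ k)⁻¹ by
        group, e', ← conj_pow, conj_pow_eq r2, ← pow_mul, ← pow_succ, ← pow_mod_orderOf, o, hk, pow_zero]
    · rintro ⟨i, rfl | rfl | rfl, rfl⟩
      exacts [⟨_, pow_mem rn 0, conj_pow_eq r2 0⟩, ⟨_, pow_mem rn 1, conj_pow_eq r2 1⟩,
        ⟨_, pow_mem rn 2, conj_pow_eq r2 2⟩]
  refine ⟨eD, eb, cD, cN, ?_⟩
  obtain ⟨k, hk, e⟩ := card_norm_modEq (p := 7) (zpowers_le.2 hx) (by rw [Nat.card_zpowers, o])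
    (by rw [m.card_N3]; norm_num)
  obtain ⟨a, ha⟩ := card_dvd_of_le (le_inf (eD.ge.trans (sup_le (zpowers_le.2 hx) (inf_le_left.trans m.C3_le_N3))) cn)
  have d := card_dvd_of_le (inf_le_right : m.N3 ⊓ normalizer (zpowers x : Set G) ≤ _)
  rw [cN, ha, cD] at d
  have : a ∣ 3 := Nat.dvd_of_mul_dvd_mul_left (by norm_num) d
  rcases (Nat.dvd_prime Nat.prime_three).1 this with rfl | rfl
  · rw [m.card_N3, ha, cD] at e
    have : k = 786432 := by omega
    rw [this] at hk; exact absurd hk (by decide)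
  · exact (eq_of_le_of_card_ge inf_le_right (by rw [cN, ha, cD])).ge.trans inf_le_left

include m in
theorem not49 : ¬ 7 ^ 2 ∣ Nat.card G := by
  haveI : Fact (Nat.Prime 7) := ⟨by norm_num⟩
  obtain ⟨y, oy⟩ := exists_prime_orderOf_dvd_card' (G := m.N3) 7 (by rw [m.card_N3]; norm_num)
  rw [← orderOf_coe] at oy
  exact not_sq_dvd (A := zpowers (y : G)) (by rw [Nat.card_zpowers, oy])
    (by rw [(m.seven_main y.2 oy).2.2.2.1]; norm_num)

include m in
theorem exists_map7 {x : G} (ox : orderOf x = 7) : ∃ m' : Md G, x ∈ m'.N3 := by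
  haveI : Fact (Nat.Prime 7) := ⟨by norm_num⟩
  obtain ⟨y, oy⟩ := exists_prime_orderOf_dvd_card' (G := m.N3) 7 (by rw [m.card_N3]; norm_num)
  rw [← orderOf_coe] at oy
  obtain ⟨g, -, i, -, e⟩ := exists_conj_prime (K := ⊤) (by rw [card_top]; exact m.not49) (mem_top x)
    (mem_top (y : G)) ox oy
  refine ⟨m.map (MulAut.conj g⁻¹), ?_⟩
  rw [N3, m.map_Z3, ← map_equiv_normalizer_eq]
  exact ⟨_, pow_mem y.2 i, by rw [← e]; simp [mul_assoc]⟩

end Md
end H75.J4
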