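import Mathlib
import Cfsg.Agent.Lib.J4L.Seven

/-!
# The 5-local structure
-/

set_option autoImplicit false
set_option maxRecDepth 100000

namespace H75.J4
open Cfsg H15 H96.Geo Subgroup
open H54 (band band_eq_true bimp bimp_eq_true bor bor_eq_true allL allL_iff anyL anyL_iff nth cntLt cntLt_eq tb tb_eq sel sel_eq)
open scoped Pointwise commutatorElement

/-- an element of order 4 squaring the element of order 5 -/
def wk4 : List ℕ := [0, 2, 1, 1, 0, 0, 2, 1, 0, 0, 2, 1, 1, 0, 2]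
def Xk4 : ℕ := 0xd440b58c66f93583298f01c18c7c6155c208
def Pk4 : ℕ := 0xbd8514aca36a2b034a6ea28ec23c20

theorem cent_Pf {g : Equiv.Perm GolayPt} (hg : g ∈ M22ext) (h : g * permOf Pf = permOf Pf * g) :
    g ∈ St (ofMask 16640) ∧ (g ∈ Spor.M22 → ∃ i, i < 5 ∧ g = permOf (powP Pf i)) := by
  have ok : okP Pf = true := by decide +kernel
  have h1 : g ∈ St (ofMask 16640) := by
    have e : Fix (permOf Pf) = ofMask 8405249 := by rw [Fix_permOf ok]; exact congrArg _ (by decide +kernel)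
    have := Fix_conj g (permOf Pf)
    rw [h, mul_inv_cancel_right, e] at this
    rw [mem_St_set, show 16640 = 8405249 ^^^ 8388609 by decide +kernel, ofMask_xor', smul_symmDiff, ← this,
      ofMask_pair, mem_St_set.1 hg.2]
  refine ⟨h1, fun h0 => ?_⟩
  obtain ⟨c, i1, rfl, i3⟩ := forall_elts chD_good.1 (P := fun c => H54.force c fun c => bimp (band
    (Nat.beq (out c) 0) (Nat.beq (mulP c Pf) (mulP Pf c))) (anyLt 5 fun i => eqP c (powP Pf i)))
    (by decide +kernel) g ⟨hg, h1⟩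
  simp only [H54.force_eq, bimp_eq_true, band_eq_true, anyLt_iff, Nat.beq_eq] at i3
  obtain ⟨i, hi, e⟩ := i3 ⟨(out_eq_zero i1).2 (mem_M22.1 h0).2.2, permOf_inj (okP_mulP i1 ok) (okP_mulP ok i1)
    (mulP_lt _ _) (mulP_lt _ _) (by rw [permOf_mulP i1 ok, permOf_mulP ok i1, h])⟩
  exact ⟨i, hi, permOf_eq_of_eqP i1 (powP_spec ok i).1 e⟩

theorem fix_Xf : ∀ w, w < 4096 → mv Xf w = w → (bl w 521 = 0 → bl w 1374 = 0 → in3 w) ∧ (qc w = 0 → in3 w ∨
    wt (supp w) = 6 ∧ cntLt (fun u => band (Nat.beq (mv Xf u) u) (Nat.beq (bl u w) 0)) 4096 = 8) := by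
  decide +kernel

/-- a linear map on three bits -/
def lin3 (a b c i : ℕ) : ℕ := (i % 2 * a ^^^ i / 2 % 2 * b) ^^^ i / 4 % 2 * c

set_option synthInstance.maxSize 1000 in
theorem lin3_chk : ∀ a, a < 8 → ∀ b, b < 8 → ∀ c, c < 8 → (∀ i, i < 8 → lin3 a b c (lin3 a b c i) = i) →
    ∃ t, t < 8 ∧ t ≠ 0 ∧ lin3 a b c t = t ∧ ∀ i, i < 8 → lin3 a b c i = i ∨ lin3 a b c i = i ^^^ t := by
  decide +kernel

section General
variable {G : Type*} [Group G]

theorem EA.invol {f : ℕ → G} (E : EA 3 f) {y : G} (hy : y ∈ normalizer (E.sub : Set G)) (y2 : y * y = 1) :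
    ∃ t ∈ E.sub, t ≠ 1 ∧ y * t = t * y ∧ ∀ e ∈ E.sub, y * e * y⁻¹ = e ∨ y * e * y⁻¹ = e * t := by
  obtain ⟨φ, h1, h2, -⟩ := E.exists_map hy
  have h0 : φ 0 = 0 := by simpa using h2 0 0 (by norm_num) (by norm_num)
  have e : ∀ i, i < 8 → φ i = lin3 (φ 1) (φ 2) (φ 4) i := fun i hi => by
    have h3 : φ 3 = _ := h2 1 2 (by norm_num) (by norm_num)
    have h5 : φ 5 = _ := h2 1 4 (by norm_num) (by norm_num)
    have h6 : φ 6 = _ := h2 2 4 (by norm_num) (by norm_num)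
    have h7 : φ 7 = _ := h2 3 4 (by norm_num) (by norm_num)
    interval_cases i <;> simp [lin3, h0, h3, h5, h6, h7]
  obtain ⟨t, ht, t0, i1, i2⟩ := lin3_chk _ (h1 1 (by norm_num)).1 _ (h1 2 (by norm_num)).1 _ (h1 4 (by norm_num)).1
    fun i hi => by
      rw [← e i hi, ← e _ (h1 i hi).1, ← E.eq_iff (h1 _ (h1 i hi).1).1 hi, ← (h1 _ (h1 i hi).1).2, ← (h1 i hi).2]
      calc _ = y * y * f i * (y * y)⁻¹ := by group
        _ = _ := by rw [y2]; simp
  refine ⟨_, E.mem ht, fun h => t0 (E.inj t ht h), mul_inv_eq_iff_eq_mul.1 (by rw [(h1 t ht).2, e t ht, i1]), ?_⟩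
  rintro _ ⟨i, hi, rfl⟩
  rw [(h1 i hi).2, e i hi, ← E.add i t hi ht]
  exact (i2 i hi).imp (congrArg f) (congrArg f)

theorem exists_compl_cent [Finite G] {x : G} {p : ℕ} (hp : p.Prime) (o : orderOf x = p)
    (h : ¬ p ^ 2 ∣ Nat.card (centralizer {x})) : ∃ J, IsInternalDirectProduct (zpowers x) J (centralizer {x}) := by
  have l : zpowers x ≤ centralizer {x} := zpowers_le.2 (mem_centralizer_singleton_iff.2 rfl)
  haveI : ((zpowers x).subgroupOf (centralizer {x})).Normal :=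
    (normal_subgroupOf_iff_le_normalizer l).2 (cent_zp x ▸ centralizer_le_normalizer _)
  have c : Nat.card ((zpowers x).subgroupOf (centralizer {x})) = p := by
    rw [Nat.card_congr (subgroupOfEquivOfLe l).toEquiv, Nat.card_zpowers, o]
  obtain ⟨J, hJ⟩ := exists_right_complement'_of_coprime (N := (zpowers x).subgroupOf (centralizer {x})) (by
    rw [c, hp.coprime_iff_not_dvd]
    exact fun d => h (by
      rw [← ((zpowers x).subgroupOf (centralizer {x})).card_mul_index, c, pow_two]; exact Nat.mul_dvd_mul_left _ d))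
  have e := map_subgroupOf_eq_of_le l
  refine ⟨J.map (centralizer {x}).subtype, l, map_subtype_le _, ?_, ?_, ?_⟩
  · rintro _ ⟨i, rfl⟩ _ ⟨b, -, rfl⟩
    exact ((show Commute (b : G) x from mem_centralizer_singleton_iff.1 b.2).zpow_right i).symm
  · rw [← e, ← map_inf _ _ _ (subtype_injective _), hJ.disjoint.eq_bot, Subgroup.map_bot]
  · rw [← e, ← Subgroup.map_sup, hJ.sup_eq_top, ← MonoidHom.range_eq_map, range_subtype]

theorem conj_mem_cent {x n g : G} (hn : n ∈ normalizer (zpowers x : Set G)) (hg : g ∈ centralizer {x}) :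
    n * g * n⁻¹ ∈ centralizer {x} := by
  rw [← cent_zp] at hg ⊢
  refine mem_centralizer_iff.2 fun a ha => ?_
  have := mem_centralizer_iff.1 hg _ ((mem_normalizer_iff''.1 hn a).1 ha)
  calc _ = n * (n⁻¹ * a * n * g) * n⁻¹ := by group
    _ = _ := by rw [this]; group

end General

namespace Md
variable {G : Type*} [Group G] {m : Md G}

theorem le_card_inf_Q [Finite G] {B : Subgroup G} (hz : m.z ∈ B) : 2 * (m.WB B).card ≤ Nat.card ↥(B ⊓ m.Q) := by
  let f : m.WB B × Fin 2 → ↥(B ⊓ m.Q) := fun x => ⟨m.s x.1 * m.z ^ (x.2 : ℕ),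
    B.mul_mem (mem_WB.1 x.1.2).2 (B.pow_mem hz _), _, (mem_WB.1 x.1.2).1, _, rfl⟩
  have : Function.Injective f := fun a b e => by
    obtain ⟨i1, i2⟩ := m.s_eq (mem_WB.1 a.1.2).1 (mem_WB.1 b.1.2).1 (congrArg Subtype.val e)
    exact Prod.ext (Subtype.ext i1) (Fin.ext (m.zpow_inj (by omega) (by omega) i2))
  simpa [mul_comm] using Nat.card_le_card_of_injective f this

theorem exists_five : ∃ x, m.KR x Xf Pf ∧ x ^ 5 = 1 := m.KR_wf.exists_odd (by decide) (by decide +kernel)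

variable {x : G} (h : m.KR x Xf Pf)
include h

theorem KR.order5 (h5 : x ^ 5 = 1) : orderOf x = 5 :=
  haveI : Fact (Nat.Prime 5) := ⟨by norm_num⟩
  orderOf_eq_prime h5 fun e =>
    permOf_ne_one h.ok (i := 1) (by norm_num) (by decide +kernel) (by rw [← h.per, e, m.π_one])

theorem KR.s_comm5 {u : ℕ} (hu : u < 4096) (e : mv Xf u = u) : m.s u * x = x * m.s u := by
  have := h.act0 hu (by rw [show out Pf = 0 by decide +kernel, zero_mul])
  rw [e, mul_inv_eq_iff_eq_mul] at this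
  exact this.symm

variable [Finite G]

theorem KR.exists_k4 (h5 : x ^ 5 = 1) : ∃ k ∈ m.C3, k ^ 4 = 1 ∧ k * x * k⁻¹ = x ^ 2 := by
  have k : m.KR (m.ev wk4) Xk4 Pk4 := m.KR_of_wchk (by decide +kernel)
  refine ⟨_, k.mem_C3.2 (by decide +kernel), ?_, (K_eq_of_pow (pow_mem (h.mem_K0 (by decide +kernel)) 2)
    (conj_mem_K k.memK h.memK) ?_ (n := 5) (by norm_num)
      (by rw [← pow_mul, mul_comm, pow_mul, h5, one_pow]) (by rw [conj_pow, h5]; simp)).symm⟩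
  · rw [← (k.mul k).sq_eq_one (by decide +kernel) (by decide +kernel), ← pow_two, ← pow_two, ← pow_mul]
  · rw [m.π_conj k.memH h.memH, m.π_pow h.memH, h.per, k.per, eq_mul_inv_iff_mul_eq, pow_two,
      ← permOf_mulP h.ok h.ok, ← permOf_mulP (okP_mulP h.ok h.ok) k.ok, ← permOf_mulP k.ok h.ok]
    exact congrArg _ (by decide +kernel)

theorem KR.cent5_le : centralizer {x} ⊓ m.H ≤ m.N3 := fun g ⟨e, hg⟩ =>
  (m.N3_inf_H.ge (m.mem_pre.2 ⟨hg, m.π_mem' hg, (cent_Pf (m.π_mem' hg) (by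
    rw [← h.per, ← m.π_mul' hg h.memH, mem_centralizer_singleton_iff.1 e, m.π_mul' h.memH hg])).1⟩)).1

theorem KR.dec5 {y : G} (hy : y ∈ m.H) (e : y * x = x * y)
    (f : ∀ t ∈ m.Z3, y * t * y⁻¹ = t ∨ y * t * y⁻¹ = t * m.z) :
    ∃ w, w < 4096 ∧ mv Xf w = w ∧ ∃ c i : ℕ, y = m.s w * m.z ^ c * x ^ i := by
  obtain ⟨w, hw, k, p, a, hk, rfl⟩ := m.dec_H' hy
  have fx : ∀ v, in3 v → mv p v = v := fun v hv => by
    have l := (in3_spec hv).1
    have := f _ (m.s_mem_Z3 hv)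
    rw [hk.conj_s hw l] at this
    rcases this with e | e
    · exact (m.s_eq (b := 0) (mv_lt _ _) l (by rw [e]; simp)).1
    · exact (m.s_eq (b := 1) (mv_lt _ _) l (by rw [e]; simp)).1
  have h0 := hk.out_of_fix (v := 521) (by norm_num) (by norm_num) (fx _ (by decide))
    (by rw [show mv Om 521 = 1374 by decide +kernel]; exact fx _ (by decide))
  obtain ⟨i1, i2⟩ := h.sk_comm (by decide +kernel) hk.memK hw e
  obtain ⟨i, hi, e'⟩ := (cent_Pf hk.good.2 (by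
    rw [← h.per, ← hk.per, ← m.π_mul' hk.memH h.memH, i2, m.π_mul' h.memH hk.memH])).2 (hk.mem_M22 h0)
  obtain ⟨j1, j2⟩ := (by decide +kernel : ∀ i, i < 5 → mv (mm (mpw Xf i) Om) 521 ≠ 521 ∧
    mv (mm (mpw Xf i) Om2) 521 ≠ 521) i hi
  rcases (h.pow i).eq_of_perm hk e'.symm with rfl | rfl | rfl
  · obtain ⟨c, -, rfl⟩ := (h.pow i).eq_of_mat hk
    exact ⟨w, hw, i1, c, i, by rw [m.zpow_comm (h.pow i).memH, mul_assoc]⟩
  · exact absurd (fx _ (by decide)) j1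
  · exact absurd (fx _ (by decide)) j2

theorem KR.cent5_C3 : centralizer {x} ⊓ m.C3 = zpowers x ⊔ m.Z3 := by
  have c := h.f_mem_C3
  refine le_antisymm (fun y ⟨e, hy⟩ => ?_) (sup_le (zpowers_le.2 ⟨mem_centralizer_singleton_iff.2 rfl, c⟩)
    fun t ht => ⟨mem_centralizer_singleton_iff.2 (mem_centralizer_iff.1 c t ht), m.Z3_le_C3 ht⟩)
  obtain ⟨w, hw, i1, a, i, rfl⟩ := h.dec5 (m.C3_le_H hy) (mem_centralizer_singleton_iff.1 e) fun t ht =>
    Or.inl (mul_inv_eq_iff_eq_mul.2 (mem_centralizer_iff.1 hy t ht).symm)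
  have := (m.s_mem_C3 hw).1 ((m.C3.mul_mem_cancel_right (pow_mem (m.Z3_le_C3 m.z_mem_Z3) a)).1
    ((m.C3.mul_mem_cancel_right (pow_mem c i)).1 hy))
  exact mul_mem (mem_sup_right ((m.sz_mem_Z3 hw).2 ((fix_Xf w hw i1).1 this.1 this.2)))
    (mem_sup_left (pow_mem (mem_zpowers x) i))

variable [IsSimpleGroup G] (h5 : x ^ 5 = 1)
include h5

theorem KR.invol5 {y : G} (hy : y ∈ m.H) (e : y * x = x * y) (y2 : y * y = 1)
    (f : ∀ t ∈ m.Z3, y * t * y⁻¹ = t ∨ y * t * y⁻¹ = t * m.z) :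
    y ∈ m.Z3 ∨ ¬ IsConj m.z y ∧ centralizer {x} ⊓ centralizer {y} ≤ m.N3 := by
  have hQ : y ∈ m.Q := by
    obtain ⟨w, hw, -, c, i, e'⟩ := h.dec5 hy e f
    refine mem_Q_of_sq hy (eq_one_of_coprime (a := 2) (b := 5) (by norm_num) ?_ ?_) (y2 ▸ one_mem _)
    · rw [← m.π_pow hy, pow_two, y2, m.π_one]
    · have q := m.mem_Q.2 ⟨w, hw, c, rfl⟩
      rw [e', m.π_mul' (m.Q_le_H q) (pow_mem h.memH i), m.π_Q q, one_mul, ← m.π_pow (pow_mem h.memH i), ← pow_mul,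
        mul_comm, pow_mul, h5, one_pow, m.π_one]
  obtain ⟨w, hw, c, rfl⟩ := hQ
  have i1 := (h.sk_comm (by decide +kernel) (pow_mem m.z_mem_K c) hw e).1
  have i2 : qc w = 0 := m.zpow_inj (qc_le _) (by norm_num) (by
    rw [← m.s_sq hw, pow_zero, ← y2, mul_assoc, ← mul_assoc (m.z ^ c), ← m.zpow_comm (m.s_mem_H hw),
      mul_assoc, m.zpow_self, mul_one])
  refine ((fix_Xf w hw i1).2 i2).imp (m.sz_mem_Z3 hw).2 fun ⟨j1, j2⟩ => ?_
  have nc : ¬ IsConj m.z (m.s w * m.z ^ c) := fun k => m.not_conj_b ((HC_b hw j1 c).iff.2 k)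
  refine ⟨nc, ?_⟩
  have y1 : m.s w * m.z ^ c ≠ 1 := fun e => by
    have := (m.s_eq (w := 0) (b := 0) hw (by norm_num) (by rw [e, m.s_zero]; simp)).1
    rw [this] at j1; exact absurd j1 (by decide +kernel)
  have c80 := m.five_b y1 y2 nc e.symm (h.order5 h5)
  set W := centralizer {m.s w * m.z ^ c} ⊓ centralizer {x}
  have d1 := card_dvd_of_le (inf_le_left : W ⊓ m.H ≤ W)
  have d2 := card_dvd_of_le (inf_le_left : W ⊓ m.H ⊓ m.Q ≤ W ⊓ m.H)
  have d3 := card_dvd_of_le (inf_le_right : W ⊓ m.H ⊓ m.Q ≤ m.Q)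
  have d4 : 5 ∣ Nat.card ↥(W ⊓ m.H) := h.order5 h5 ▸ orderOf_dvd_card_of_mem
    ⟨⟨mem_centralizer_singleton_iff.2 e.symm, mem_centralizer_singleton_iff.2 rfl⟩, h.memH⟩
  have d5 := le_card_inf_Q (m := m) (B := W ⊓ m.H) ⟨⟨mem_centralizer_singleton_iff.2 (m.mem_H.1 hy).symm,
    mem_centralizer_singleton_iff.2 (m.mem_H.1 h.memH).symm⟩, m.z_mem_H⟩
  have d6 : 8 ≤ (m.WB (W ⊓ m.H)).card := by
    rw [← j2, cntLt_eq]
    refine Finset.card_le_card fun u hu => ?_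
    simp only [Finset.mem_filter, Finset.mem_range, band_eq_true, Nat.beq_eq] at hu
    obtain ⟨l, k1, k2⟩ := hu
    refine mem_WB.2 ⟨l, ⟨mem_centralizer_singleton_iff.2 ?_, mem_centralizer_singleton_iff.2 (h.s_comm5 l k1)⟩,
      m.s_mem_H l⟩
    refine (Commute.mul_right ?_ (m.zpow_comm (m.s_mem_H l) c)).eq
    have := m.s_comm l hw
    rwa [k2, pow_zero, mul_one] at this
  rw [c80] at d1
  rw [m.card_Q] at d3
  have d7 : _ ≤ 16 := Nat.le_of_dvd (by norm_num) (Nat.dvd_gcd (d2.trans d1) d3)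
  rw [show Nat.card ↥(W ⊓ m.H ⊓ m.Q) = 16 by omega] at d2
  have := eq_of_le_of_card_ge (inf_le_left : W ⊓ m.H ≤ W) (by
    rw [c80]; exact Nat.le_of_dvd Nat.card_pos (Nat.Coprime.mul_dvd_of_dvd_of_dvd (by norm_num) d2 d4))
  exact fun g hg => h.cent5_le ⟨hg.1, (this.ge ⟨hg.2, hg.1⟩).2⟩

theorem KR.lift5 {n : G} (hn : n ∈ m.N3) : ∃ c ∈ m.C3, c * n ∈ centralizer {x} := by
  haveI : Fact (Nat.Prime 5) := ⟨by norm_num⟩
  have o := h.order5 h5
  obtain ⟨k, hk, -, k2⟩ := h.exists_k4 h5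
  obtain ⟨c, hc, j, hj, e⟩ := exists_conj_prime (p := 5) (K := m.C3)
    (fun d => by have := d.trans (card_dvd_of_le m.C3_le_N3); rw [m.card_N3] at this; norm_num at this)
    (m.conj_mem_C3 hn h.f_mem_C3) h.f_mem_C3 (by rw [H9.orderOf_conj, o]) o
  obtain ⟨b, hb⟩ : ∃ b, 2 ^ b * j % 5 = 1 := by
    interval_cases j
    · rw [pow_zero, conj_eq_one_iff, conj_eq_one_iff] at e; rw [e, orderOf_one] at o; exact absurd o (by norm_num)
    exacts [⟨0, rfl⟩, ⟨3, rfl⟩, ⟨1, rfl⟩, ⟨2, rfl⟩]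
  refine ⟨_, mul_mem (pow_mem hk b) hc, mem_centralizer_singleton_iff.2 (mul_inv_eq_iff_eq_mul.1 ?_)⟩
  rw [show k ^ b * c * n * x * (k ^ b * c * n)⁻¹ = k ^ b * (c * (n * x * n⁻¹) * c⁻¹) * (k ^ b)⁻¹ by group, e,
    ← conj_pow, conj_pow_eq k2, ← pow_mul, ← pow_mod_orderOf, o, hb, pow_one]

omit h h5 [Finite G] [IsSimpleGroup G] in
theorem map_conj_Z3 {n : G} (hn : n ∈ m.N3) : (m.map (MulAut.conj n)).Z3 = m.Z3 := by
  rw [m.map_Z3]
  exact mem_normalizer_iff_map_conj_eq.1 hn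

theorem KR.exists_at {t : G} (ht : t ∈ m.Z3) (h1 : t ≠ 1) :
    ∃ m' : Md G, m'.z = t ∧ m'.Z3 = m.Z3 ∧ m'.KR x Xf Pf := by
  obtain ⟨n, hn, e⟩ := m.N3_trans ht h1
  obtain ⟨c, hc, e'⟩ := h.lift5 h5 hn
  refine ⟨m.map (MulAut.conj (c * n)), ?_, map_conj_Z3 (mul_mem (m.C3_le_N3 hc) hn), ?_⟩
  · change c * n * m.z * (c * n)⁻¹ = t
    rw [show c * n * m.z * (c * n)⁻¹ = c * (n * m.z * n⁻¹) * c⁻¹ by group, e, ← mem_centralizer_iff.1 hc t ht,
      mul_inv_cancel_right]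
  · have := h.map (MulAut.conj (c * n))
    rwa [MulAut.conj_apply, mem_centralizer_singleton_iff.1 e', mul_inv_cancel_right] at this

theorem KR.invol5' {y : G} (hy : y ∈ m.N3 ⊓ centralizer {x}) (y1 : y ≠ 1) (y2 : y * y = 1) :
    centralizer {x} ⊓ centralizer {y} ≤ m.N3 ∧ (IsConj m.z y → y ∈ m.Z3) := by
  obtain ⟨t, ht, t1, i1, i2⟩ := m.ea3.invol hy.1 y2
  obtain ⟨m', rfl, e, k⟩ := h.exists_at h5 ht t1
  rcases k.invol5 h5 (m'.mem_H.2 i1) (mem_centralizer_singleton_iff.1 hy.2) y2 (e ▸ i2) with j | ⟨j1, j2⟩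
  · rw [e] at j
    obtain ⟨m'', rfl, e', k'⟩ := h.exists_at h5 j y1
    exact ⟨k'.cent5_le.trans (by rw [N3, e']), fun _ => j⟩
  · exact ⟨j2.trans (by rw [N3, e]), fun c => absurd ((m.conj_Z3 ht t1).symm.trans c) j1⟩

theorem KR.norm5_le : normalizer (zpowers x : Set G) ≤ m.N3 := fun n hn =>
  H95.mem_normalizer_of_finite fun t ht => by
    by_cases t1 : t = 1
    · rw [t1]; simp
    have tz := m.isConj_conj n _ (m.conj_Z3 ht t1)
    have t2 : n * t * n⁻¹ * (n * t * n⁻¹) = 1 := by rw [conj_mul, m.ea3.sq ht]; simp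
    have c := mem_centralizer_singleton_iff.2 (h.s_comm5 (u := 522) (by norm_num) (by decide +kernel))
    have b := (HC_b (m := m) (v := 522) (by norm_num) (by decide +kernel) 0).iff
    rw [pow_zero, mul_one] at b
    refine (h.invol5' h5 (invol_mem inf_le_right (fun y hy y1 y2 => le_inf (h.invol5' h5 hy y1 y2).1 inf_le_left)
      (u := m.s 522) ⟨h.cent5_le ⟨c, m.s_mem_H (by norm_num)⟩, c⟩
      (fun e => absurd (m.s_inj _ (by norm_num) (Or.inl e)) (by norm_num))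
      (by rw [m.s_sq (by norm_num), show qc 522 = 0 by decide +kernel, pow_zero])
      (conj_mem_cent hn (h.cent5_C3.ge (mem_sup_right ht)).1) t2 fun e => m.not_conj_b (b.2 (tz.trans e)))
      (fun e => t1 (conj_eq_one_iff.1 e)) t2).2 tz

theorem KR.cent5_le' : centralizer {x} ≤ m.N3 := (cent_zp x ▸ centralizer_le_normalizer _).trans (h.norm5_le h5)

theorem KR.no_eight {P : Subgroup G} (hP : P ≤ centralizer {x}) (c : Nat.card P = 2 ^ 3) : P ⊓ m.Z3 ≠ ⊥ := fun e => by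
  obtain ⟨y, hy, y1, y2, l⟩ := exists_central (IsPGroup.of_card c) fun e => by simp [e] at c
  have n := h.cent5_le' h5 (hP hy)
  have c80 := m.five_b y1 y2 (fun k => y1 (mem_bot.1 (e.le ⟨hy, (h.invol5' h5 ⟨n, hP hy⟩ y1 y2).2 k⟩)))
    (mem_centralizer_singleton_iff.1 (hP hy)).symm (h.order5 h5)
  obtain ⟨t, ht, -, -, i2⟩ := m.ea3.invol n y2
  have c1 := H54.ncard_clsIn_mul m.Z3 y
  have c2 : (H54.clsIn m.Z3 y).ncard ≤ 2 := by
    refine (Set.ncard_le_ncard (t := {y, t * y}) ?_).trans (Set.ncard_insert_le _ _ |>.trans (by simp))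
    rintro _ ⟨a, ha, rfl⟩
    have a2 : a⁻¹ = a := inv_eq_of_mul_eq_one_right (m.ea3.sq ha)
    rcases i2 a ha with k | k <;> rw [mul_inv_eq_iff_eq_mul] at k
    · left; rw [← k, mul_inv_cancel_right]
    · right; rw [a2, mul_assoc, k, ← mul_assoc, ← mul_assoc, m.ea3.sq ha, one_mul]; rfl
  have c3 := H3.card_sup_of_inf_eq_bot (N := m.Z3 ⊓ centralizer {y}) (K := P) (fun g hg =>
    H95.mem_normalizer_of_finite fun a ha => mem_inf.2 ⟨(mem_normalizer_iff.1 (h.cent5_le' h5 (hP hg)) a).1 ha.1,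
      mul_mem (mul_mem (l hg) ha.2) (inv_mem (l hg))⟩) (eq_bot_iff.2 fun a ha => e.le ⟨ha.2, ha.1.1⟩)
  have d := card_dvd_of_le (sup_le (le_inf inf_le_right (inf_le_left.trans (le_sup_right.trans
    (h.cent5_C3.ge.trans inf_le_left)))) (le_inf l hP) : m.Z3 ⊓ centralizer {y} ⊔ P ≤ _)
  rw [c80, c3, c] at d
  rw [m.card_Z3] at c1
  generalize (H54.clsIn m.Z3 y).ncard = a at c1 c2
  generalize Nat.card ↥(m.Z3 ⊓ centralizer {y}) = b at c1 d
  interval_cases a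
  · omega
  · obtain rfl : b = 8 := by omega
    norm_num at d
  · obtain rfl : b = 4 := by omega
    norm_num at d

omit h h5 in
/-- the action on the eight-group -/
noncomputable def ψ {K : Subgroup G} (hK : K ≤ m.N3) : K →* Matrix.SpecialLinearGroup (Fin 3) (ZMod 2) :=
  ((MonoidHom.snd _ _).comp m.φ).comp (inclusion hK)

omit h h5 in
theorem ψ_eq_one {K : Subgroup G} (hK : K ≤ m.N3) {g : K} : ψ hK g = 1 ↔ (g : G) ∈ m.C3 := m.φ_snd

theorem KR.ψ_surj : Function.Surjective (ψ (h.cent5_le' h5)) := fun a => by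
  obtain ⟨n, hn⟩ := m.φ_surj (1, a)
  obtain ⟨c, hc, e⟩ := h.lift5 h5 n.2
  refine ⟨⟨_, e⟩, ?_⟩
  change (m.φ (⟨c, m.C3_le_N3 hc⟩ * n)).2 = a
  rw [map_mul, Prod.snd_mul, (m.φ_snd (g := ⟨c, _⟩)).2 hc, one_mul, hn]

theorem KR.card_cent5 : Nat.card (centralizer {x}) = 6720 := by
  have c := (ψ (h.cent5_le' h5)).ker.card_mul_index
  rw [index_ker, MonoidHom.range_eq_top.2 (h.ψ_surj h5), card_top, card_SL3,
    show (ψ (h.cent5_le' h5)).ker = (zpowers x ⊔ m.Z3).subgroupOf _ by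
      ext g; rw [MonoidHom.mem_ker, ψ_eq_one, ← h.cent5_C3, mem_subgroupOf, mem_inf, and_iff_right g.2],
    Nat.card_congr (subgroupOfEquivOfLe (h.cent5_C3.ge.trans inf_le_left)).toEquiv, sup_comm,
    H3.card_sup_of_inf_eq_bot (zpowers_le.2 (m.C3_le_N3 h.f_mem_C3)) (inf_eq_bot_of_coprime (by
      rw [m.card_Z3, Nat.card_zpowers, h.order5 h5]; norm_num)), m.card_Z3, Nat.card_zpowers, h.order5 h5] at c
  rw [← c]; norm_num

theorem KR.card_norm5 : Nat.card (normalizer (zpowers x : Set G)) = 26880 := by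
  classical
  have o := h.order5 h5
  obtain ⟨r, -, -, r2⟩ := h.exists_k4 h5
  have rn : r ∈ normalizer (zpowers x : Set G) := H95.mem_normalizer_of_finite (by
    rintro _ ⟨i, rfl⟩
    rw [← _root_.conj_zpow, r2]; exact zpow_mem (pow_mem (mem_zpowers x) 2) i)
  rw [← H54.ncard_clsIn_mul _ x, inf_eq_right.2 (cent_zp x ▸ centralizer_le_normalizer _), h.card_cent5 h5,
    show H54.clsIn (normalizer (zpowers x : Set G)) x = ↑(({1, 2, 3, 4} : Finset ℕ).image (x ^ ·)) from ?_,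
    Set.ncard_coe_finset, Finset.card_image_of_injOn]
  · rfl
  · intro a ha b hb e
    refine pow_injOn_Iio_orderOf ?_ ?_ e <;> rw [o]
    · revert ha; simp only [Finset.coe_insert, Finset.coe_singleton]; rintro (rfl | rfl | rfl | rfl) <;> norm_num
    · revert hb; simp only [Finset.coe_insert, Finset.coe_singleton]; rintro (rfl | rfl | rfl | rfl) <;> norm_num
  ext y
  simp only [Finset.coe_image, Finset.coe_insert, Finset.coe_singleton, Set.mem_image, Set.mem_insert_iff,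
    Set.mem_singleton_iff]
  constructor
  · rintro ⟨n, hn, rfl⟩
    obtain ⟨i, hi, e⟩ := exists_pow_of_mem ((mem_normalizer_iff.1 hn x).1 (mem_zpowers x))
    have i0 : i ≠ 0 := fun e0 => by
      rw [e0, pow_zero, conj_eq_one_iff] at e; rw [e, orderOf_one] at o; exact absurd o (by norm_num)
    exact ⟨i, by omega, e.symm⟩
  · rintro ⟨i, rfl | rfl | rfl | rfl, rfl⟩
    exacts [⟨_, pow_mem rn 0, conj_pow_eq r2 0⟩, ⟨_, pow_mem rn 1, conj_pow_eq r2 1⟩,
      ⟨_, pow_mem rn 3, (conj_pow_eq r2 3).trans (by rw [← pow_mod_orderOf, o]; rfl)⟩,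
      ⟨_, pow_mem rn 2, conj_pow_eq r2 2⟩]

omit [IsSimpleGroup G] in
theorem KR.frob20 : ∃ R : Subgroup G, zpowers x ≤ R ∧ R ≤ normalizer (zpowers x : Set G) ∧ Nat.card R = 20 ∧
    R ⊓ centralizer {x} = zpowers x := by
  have o := h.order5 h5
  obtain ⟨r, -, r4, r2⟩ := h.exists_k4 h5
  have rn : zpowers r ≤ normalizer (zpowers x : Set G) := zpowers_le.2 (H95.mem_normalizer_of_finite (by
    rintro _ ⟨i, rfl⟩
    rw [← _root_.conj_zpow, r2]; exact zpow_mem (pow_mem (mem_zpowers x) 2) i))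
  have key : ∀ i, i < 4 → r ^ i * x = x * r ^ i → i = 0 := fun i hi e => by
    have := conj_pow_eq r2 i
    rw [e, mul_inv_cancel_right, ← pow_mod_orderOf, o] at this
    have := pow_injOn_Iio_orderOf (x := x) (x₁ := 1) (by simp [o]) (by simp [o, Nat.mod_lt]) ((pow_one x).trans this)
    interval_cases i <;> omega
  have or : orderOf r = 4 := orderOf_eq_prime_pow (p := 2) (n := 1)
    (fun e => absurd (key (2 ^ 1) (by norm_num) (by rw [e]; simp)) (by norm_num)) r4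
  have l : zpowers x ≤ centralizer {x} := zpowers_le.2 (mem_centralizer_singleton_iff.2 rfl)
  refine ⟨zpowers x ⊔ zpowers r, le_sup_left, sup_le le_normalizer rn, ?_,
    le_antisymm (fun g hg => ?_) (le_inf le_sup_left l)⟩
  · rw [H3.card_sup_of_inf_eq_bot rn (inf_eq_bot_of_coprime (by
      rw [Nat.card_zpowers, Nat.card_zpowers, o, or]; norm_num)), Nat.card_zpowers, Nat.card_zpowers, o, or]
  · obtain ⟨a, ha, b, hb, rfl⟩ := (coe_mul_of_right_le_normalizer_left _ _ rn).le hg.1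
    obtain ⟨i, hi, rfl⟩ := exists_pow_of_mem hb
    obtain rfl := key i (or ▸ hi) (mem_centralizer_singleton_iff.1
      ((Subgroup.mul_mem_cancel_left _ (l ha)).1 hg.2))
    simpa using ha

theorem KR.exists_J : ∃ J : Subgroup G, IsInternalDirectProduct (zpowers x) J (centralizer {x}) ∧
    ∃ (E : Subgroup J) (_ : E.Normal), IsElementaryAbelian 2 E ∧ Nat.card E = 8 ∧
      Nonempty (J ⧸ E ≃* Matrix.SpecialLinearGroup (Fin 3) (ZMod 2)) ∧ ∀ K : Subgroup J, ¬ E.IsComplement' K := by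
  have o := h.order5 h5
  obtain ⟨J, hJ⟩ := exists_compl_cent (by norm_num) o (by rw [h.card_cent5 h5]; norm_num)
  obtain ⟨-, l, -, eb, es⟩ := id hJ
  have lN := l.trans (h.cent5_le' h5)
  have p5 : ∀ a ∈ zpowers x, a ^ 5 = 1 := fun a ha => by
    rw [← o, ← Nat.card_zpowers]; exact pow_card_eq_one_of_mem ha
  have cm : ∀ a ∈ zpowers x, ∀ b ∈ centralizer {x}, Commute a b := by
    rintro _ ⟨i, rfl⟩ b hb
    exact ((show Commute b x from mem_centralizer_singleton_iff.1 hb).zpow_right i).symm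
  have lZ := le_sup_right.trans (h.cent5_C3.ge.trans inf_le_left)
  have hZ : m.Z3 ≤ J := fun t ht => by
    obtain ⟨a, ha, j, hj, rfl⟩ := mem_sup_cent l (es.ge (lZ ht))
    have : (a * j) ^ 5 = a * j := by rw [pow_succ, show 4 = 2 * 2 from rfl, pow_mul, pow_two (a * j), m.ea3.sq ht]; simp
    rw [← this, (cm a ha j (l hj)).mul_pow, p5 a ha, one_mul]
    exact pow_mem hj 5
  have hk : (ψ lN).ker = m.Z3.subgroupOf J := by
    ext g
    rw [MonoidHom.mem_ker, ψ_eq_one, mem_subgroupOf]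
    refine ⟨fun c => ?_, fun c => m.Z3_le_C3 c⟩
    obtain ⟨a, ha, t, ht, e⟩ := mem_sup_cent lZ (h.cent5_C3.le ⟨l g.2, c⟩)
    have : a = 1 := mem_bot.1 (eb.le ⟨ha, (J.mul_mem_cancel_right (hZ ht)).1 (e ▸ g.2)⟩)
    rwa [← e, this, one_mul]
  have hs : Function.Surjective (ψ lN) := fun s => by
    obtain ⟨d, rfl⟩ := h.ψ_surj h5 s
    obtain ⟨a, ha, j, hj, e⟩ := mem_sup_cent l (es.ge d.2)
    have c : a ∈ m.C3 := zpowers_le.2 h.f_mem_C3 ha
    refine ⟨⟨j, hj⟩, ?_⟩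
    rw [show d = ⟨a, hJ.1 ha⟩ * ⟨j, l hj⟩ from Subtype.ext e.symm, map_mul, (ψ_eq_one _ (g := ⟨a, _⟩)).2 c, one_mul]
    rfl
  have cE : Nat.card (ψ lN).ker = 8 := by
    rw [hk, Nat.card_congr (subgroupOfEquivOfLe hZ).toEquiv, m.card_Z3]; rfl
  refine ⟨J, hJ, (ψ lN).ker, inferInstance, ⟨⟨⟨fun a b => Subtype.ext (Subtype.ext ?_)⟩⟩, fun a ha => Subtype.ext ?_⟩,
    cE, ⟨QuotientGroup.quotientKerEquivOfSurjective _ hs⟩, fun K hK => ?_⟩
  · exact m.ea3.comm' (hk.le a.2) (hk.le b.2)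
  · rw [pow_two]; exact m.ea3.sq (hk.le ha)
  · obtain ⟨P, hP, c⟩ := exists_sub_card (D := K.map J.subtype) (n := 3) (by
      rw [card_map_of_injective J.subtype_injective, ← hK.symm.index_eq_card, index_ker,
        MonoidHom.range_eq_top.2 hs, card_top, card_SL3]; norm_num)
    refine h.no_eight h5 (hP.trans ((map_subtype_le _).trans l)) c (eq_bot_iff.2 fun a ha => ?_)
    obtain ⟨b, hb, rfl⟩ := hP ha.1
    exact congrArg Subtype.val (mem_bot.1 (hK.disjoint.le_bot ⟨hk.ge ha.2, hb⟩))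

omit h h5

variable (m)

include m in
theorem not25 : ¬ 5 ^ 2 ∣ Nat.card G := by
  haveI : Fact (Nat.Prime 5) := ⟨by norm_num⟩
  obtain ⟨x, h, h5⟩ := m.exists_five
  exact not_sq_dvd (A := zpowers x) (by rw [Nat.card_zpowers, h.order5 h5]) (by rw [h.card_norm5 h5]; norm_num)

theorem exists_map5 {K : Subgroup G} (hK : m.C3 ≤ K) {y : G} (hy : y ∈ K) (o : orderOf y = 5) :
    ∃ g ∈ K, ∃ x, (m.map (MulAut.conj g)).KR x Xf Pf ∧ x ^ 5 = 1 ∧ zpowers x = zpowers y := by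
  haveI : Fact (Nat.Prime 5) := ⟨by norm_num⟩
  obtain ⟨x, h, h5⟩ := m.exists_five
  obtain ⟨g, hg, i, hi, e⟩ := exists_conj_prime (fun d => m.not25 (d.trans (card_subgroup_dvd_card K)))
    (hK h.f_mem_C3) hy (h.order5 h5) o
  refine ⟨g, hg, _, h.map _, by rw [← map_pow, h5, map_one], ?_⟩
  rw [MulAut.conj_apply, e]
  refine zpowers_pow_prime (by norm_num) o hi fun e0 => ?_
  rw [e0, pow_zero, conj_eq_one_iff] at e
  simpa [e] using h.order5 h5

theorem no_eight {y : G} (hy : y ∈ m.N3) (o : orderOf y = 5) {P : Subgroup G} (hP : P ≤ centralizer {y})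
    (c : Nat.card P = 2 ^ 3) : P ⊓ m.Z3 ≠ ⊥ := by
  obtain ⟨g, hg, x, h, h5, e⟩ := m.exists_map5 m.C3_le_N3 hy o
  rw [← map_conj_Z3 hg]
  exact h.no_eight h5 (by rwa [← cent_zp, e, cent_zp]) c

theorem K2_equiv : Nonempty (m.K2 ≃* Matrix.SpecialLinearGroup (Fin 3) (ZMod 2)) :=
  ⟨MulEquiv.ofBijective (ψ (m.K2_le.trans inf_le_left)) ((Nat.bijective_iff_injective_and_card _).2
    ⟨(injective_iff_map_eq_one _).2 fun g hg => Subtype.ext (mem_bot.1 (m.K2_inf.le ⟨g.2, (ψ_eq_one _).1 hg⟩)),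
      by rw [m.card_K2, card_SL3]⟩)⟩

end Md
end H75.J4
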